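import Cfsg.Agent.H67.PCov
import Cfsg.Agent.FastGrp
import Cfsg.Agent.Prune
set_option linter.all false
prune_inst 0x7f00000000000000000000000000000000000000000000000000000000000000000000000000000000000000000000000000000000000000000000000000000000000000000000000000000000000000003fffffffffffffffffffffffffffbeffbdffffffff
open scoped Cfsg.Agent.FastGrp

/-!
# Perfect central extensions by `p'`-groups (helper905)

* **`exists_hom_of_noPCov`** : `G` perfect without perfect central extensions of prime order `r ≠ p`, `πG : G → T` and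
  `f : P → T` surjective with central kernels, `P` perfect, `|ker f|` prime to `p`: there is a surjection `θ : G → P`
  over `T`.
-/

set_option autoImplicit false
set_option linter.unusedSectionVars false

namespace Cfsg.Agent.H905.PCover

open Function Cfsg.Agent.H67
open scoped commutatorElement

universe u v w

/-- the commutator subgroup of a central extension of a perfect group is perfect and covers -/
theorem commutator_perfect {H : Type u} [Group H] {G : Type v} [Group G] (hG : commutator G = ⊤) {f : H →* G}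
    (hf : Surjective f) (hk : f.ker ≤ Subgroup.center H) :
    commutator (commutator H) = ⊤ ∧ (commutator H).map f = ⊤ := by
  have h1 : (commutator H).map f = ⊤ := by
    rw [commutator_def, Subgroup.map_commutator, Subgroup.map_top_of_surjective f hf, ← commutator_def, hG]
  refine ⟨?_, h1⟩
  -- `H = H' Z`
  have hdec : ∀ g : H, ∃ a ∈ commutator H, ∃ z ∈ Subgroup.center H, a * z = g := by
    intro g
    have h2 : f g ∈ (commutator H).map f := by rw [h1]; trivial
    obtain ⟨a, ha, e⟩ := h2
    refine ⟨a, ha, a⁻¹ * g, hk ?_, by group⟩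
    rw [MonoidHom.mem_ker, map_mul, map_inv, e, inv_mul_cancel]
  have h3 : commutator H ≤ ⁅commutator H, commutator H⁆ := by
    conv_lhs => rw [commutator_def]
    rw [Subgroup.commutator_le]
    intro a _ b _
    obtain ⟨a, ha, z, hz, rfl⟩ := hdec a
    obtain ⟨b, hb, w, hw, rfl⟩ := hdec b
    have hz' := Subgroup.mem_center_iff.1 hz
    have hw' := Subgroup.mem_center_iff.1 hw
    have e : ⁅a * z, b * w⁆ = ⁅a, b⁆ := by
      rw [commutatorElement_def, commutatorElement_def, mul_inv_rev, mul_inv_rev]
      have e1 : a * z * (b * w) * (z⁻¹ * a⁻¹) * (w⁻¹ * b⁻¹) = a * (z * (b * w) * z⁻¹) * a⁻¹ * (w⁻¹ * b⁻¹) := by group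
      rw [e1, ← hz' (b * w), mul_inv_cancel_right]
      have e2 : a * (b * w) * a⁻¹ * (w⁻¹ * b⁻¹) = a * b * (w * a⁻¹ * w⁻¹) * b⁻¹ := by group
      rw [e2, ← hw' a⁻¹, mul_inv_cancel_right]
    rw [e]
    exact Subgroup.commutator_mem_commutator ha hb
  have h4 : (commutator (commutator H)).map (commutator H).subtype = commutator H := by
    rw [commutator_def (commutator H), Subgroup.map_commutator, ← MonoidHom.range_eq_map, Subgroup.range_subtype]
    exact le_antisymm (Subgroup.commutator_le.2 fun a ha b hb => by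
      rw [commutatorElement_def]
      exact mul_mem (mul_mem (mul_mem ha hb) (inv_mem ha)) (inv_mem hb)) h3
  rw [eq_top_iff]
  rintro ⟨x, hx⟩ -
  rw [← h4] at hx
  obtain ⟨y, hy, e⟩ := hx
  have : y = ⟨x, h4 ▸ ⟨y, hy, e⟩⟩ := Subtype.ext e
  rw [← this]
  exact hy

/-- **Perfect central extensions by `p'`-groups are quotients.** -/
theorem exists_hom_of_noPCov {G : Type u} {T : Type v} {P : Type w} [Group G] [Finite G] [Group T] [Group P] [Finite P]
    {p : ℕ} (hG : commutator G = ⊤) (hN : ∀ r : ℕ, r.Prime → r ≠ p → NoPCov r G) {πG : G →* T}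
    (hπ : Surjective πG) (hπk : πG.ker ≤ Subgroup.center G) (hP : commutator P = ⊤) {f : P →* T} (hf : Surjective f)
    (hfk : f.ker ≤ Subgroup.center P) (hp : p.Prime) (hcop : (Nat.card f.ker).Coprime p) :
    ∃ θ : G →* P, Surjective θ ∧ f.comp θ = πG := by
  classical
  -- the fibre product
  let H : Subgroup (G × P) := (πG.comp (MonoidHom.fst G P)).eqLocus (f.comp (MonoidHom.snd G P))
  have memH : ∀ x : G × P, x ∈ H ↔ πG x.1 = f x.2 := fun x => Iff.rfl
  let a : H →* G := (MonoidHom.fst G P).comp H.subtype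
  let b : H →* P := (MonoidHom.snd G P).comp H.subtype
  have ha : Surjective a := by
    intro g
    obtain ⟨x, hx⟩ := hf (πG g)
    exact ⟨⟨(g, x), hx.symm⟩, rfl⟩
  have hb : Surjective b := by
    intro x
    obtain ⟨g, hg⟩ := hπ (f x)
    exact ⟨⟨(g, x), hg⟩, rfl⟩
  have hak : a.ker ≤ Subgroup.center H := by
    rintro ⟨⟨g, x⟩, hgx⟩ hk
    have h1 : g = 1 := hk
    subst h1
    have h2 : x ∈ f.ker := by
      rw [MonoidHom.mem_ker]
      have h3 : πG 1 = f x := hgx
      rw [← h3, map_one]
    rw [Subgroup.mem_center_iff]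
    rintro ⟨⟨g', x'⟩, h'⟩
    apply Subtype.ext
    refine Prod.ext ?_ ?_
    · change g' * 1 = 1 * g'
      rw [mul_one, one_mul]
    · exact Subgroup.mem_center_iff.1 (hfk h2) x'
  have hbk : b.ker ≤ Subgroup.center H := by
    rintro ⟨⟨g, x⟩, hgx⟩ hk
    have h1 : x = 1 := hk
    subst h1
    have h2 : g ∈ πG.ker := by
      rw [MonoidHom.mem_ker]
      have h3 : πG g = f 1 := hgx
      rw [h3, map_one]
    rw [Subgroup.mem_center_iff]
    rintro ⟨⟨g', x'⟩, h'⟩
    apply Subtype.ext
    refine Prod.ext ?_ ?_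
    · exact Subgroup.mem_center_iff.1 (hπk h2) g'
    · change x' * 1 = 1 * x'
      rw [mul_one, one_mul]
  obtain ⟨hK, hKa⟩ := commutator_perfect hG ha hak
  obtain ⟨-, hKb⟩ := commutator_perfect hP hb hbk
  set K := commutator H with hKdef
  let a' : K →* G := a.comp K.subtype
  let b' : K →* P := b.comp K.subtype
  have ha' : Surjective a' := by
    intro g
    have h1 : g ∈ K.map a := by rw [hKa]; trivial
    obtain ⟨x, hx, e⟩ := h1
    exact ⟨⟨x, hx⟩, e⟩
  have hb' : Surjective b' := by
    intro g
    have h1 : g ∈ K.map b := by rw [hKb]; trivial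
    obtain ⟨x, hx, e⟩ := h1
    exact ⟨⟨x, hx⟩, e⟩
  have hak' : a'.ker ≤ Subgroup.center K := by
    intro x hx
    rw [Subgroup.mem_center_iff]
    intro y
    exact Subtype.ext (Subgroup.mem_center_iff.1 (hak hx) y)
  -- the kernel of `a'` embeds into the kernel of `f`
  have hdvd : Nat.card a'.ker ∣ Nat.card f.ker := by
    let j : a'.ker →* f.ker :=
      { toFun := fun x => ⟨b' x, by
          rw [MonoidHom.mem_ker]
          have h1 : πG (a' x.1) = f (b' x.1) := x.1.1.2
          rw [← h1, x.2, map_one]⟩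
        map_one' := Subtype.ext (map_one b')
        map_mul' := fun x y => Subtype.ext (map_mul b' _ _) }
    refine Subgroup.card_dvd_of_injective j ?_
    rw [injective_iff_map_eq_one]
    intro x hx
    have h1 : b' x.1 = 1 := congrArg Subtype.val hx
    have h2 : a' x.1 = 1 := x.2
    apply Subtype.ext
    apply Subtype.ext
    apply Subtype.ext
    exact Prod.ext h2 h1
  have hker : Nat.card a'.ker = 1 := by
    by_contra hne
    obtain ⟨r, hr, hrd⟩ := Nat.exists_prime_and_dvd hne
    have hrp : r ≠ p := by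
      rintro rfl
      have h1 := Nat.Coprime.coprime_dvd_left (hrd.trans hdvd) hcop
      rw [Nat.coprime_self] at h1
      exact hr.one_lt.ne' h1
    exact (hN r hr hrp).not_dvd_card_ker hr hK ha' hak' hrd
  have hinj : Injective a' := by
    rw [← MonoidHom.ker_eq_bot_iff]
    exact Subgroup.card_eq_one.1 hker
  let e : K ≃* G := MulEquiv.ofBijective a' ⟨hinj, ha'⟩
  refine ⟨b'.comp e.symm.toMonoidHom, hb'.comp e.symm.surjective, ?_⟩
  ext g
  obtain ⟨x, rfl⟩ := e.surjective g
  have h1 : f (b' x) = πG (a' x) := (show πG (a' x) = f (b' x) from x.1.2).symm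
  change f (b' (e.symm (e x))) = πG (a' x)
  rw [e.symm_apply_apply, h1]

end Cfsg.Agent.H905.PCover
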