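import Cfsg.Agent.H911.AdF
import Cfsg.Agent.H914.SixBase
import Cfsg.Agent.FastGrp
import Cfsg.Agent.Prune
set_option linter.all false

section
prune_inst 0x7f00000000000000000000000000000000000000000000000000000000000000000000000000000000000000000000000000000000000000000000000000000000000000000000000000000000000000003fffffffffffffffffffffffffffbeffbdffffffff

-- part: H151/Six/W0Sym
section
set_option linter.all false
open scoped Cfsg.Agent.FastGrp

/-!
# The sign of the invariant form in the defining characteristic (helper151)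

`R` a root group datum of `Y`, `φ : Y → GL(ι, F)` with absolutely irreducible image `P`, `char F = p` odd,
`g₀ ∈ Y` with `g₀ U g₀⁻¹ ≤ U⁻` and `φ (g₀ ^ 2) = 1`.

* `exists_gram` : the matrix of a bilinear form;
* **`not_skew`** : `P` fixes no non-degenerate skew form; `not_fixA`;
* `psl_not_fixA` : `P / scalars ≃ PSL(m, K)`, `m` not `2` modulo `4`, `p` odd.
-/

set_option autoImplicit false
set_option linter.unusedSectionVars false

namespace Cfsg.Agent.H151.Six

open Matrix CoxeterSystem Cfsg.Agent.ChevalleyStructure.CoxeterGeom Cfsg.Agent.Tits.Roots Cfsg.Agent.Tits.Core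
  Cfsg.Agent.Tits.Exchange Cfsg.Agent.Nodes.Reps Cfsg.Agent.Nodes.BNOf Cfsg.Agent.Nodes.StabComb
  Cfsg.Agent.Nodes.Bruhat Cfsg.Agent.Nodes.OppDec Cfsg.Agent.Nodes.LeviDec Cfsg.Agent.KFacts.RgdOpp
  Cfsg.Agent.Omega.CR Cfsg.Agent.Omega.FOne.Lift.Sd Cfsg.Agent.H911 Cfsg.Agent.H905.Md Cfsg.Agent.Nodes.RGDLib
  Cfsg.Agent.Nodes.RootsA
open Cfsg.Agent.LieRecognition.BNCox (cA cA_apply)
open Cfsg Cfsg.Geo Cfsg.Agent.H915.LD
open scoped MatrixGroups

/-! ### matrices of forms -/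

section Gram

variable {F : Type*} [Field F] {ι : Type} [Fintype ι] [DecidableEq ι]

/-- the matrix of a bilinear form -/
theorem exists_gram {f : (ι → F) → (ι → F) → F} (hf : IsBilinearForm f) :
    ∃ B : Matrix ι ι F, ∀ u v, f u v = u ⬝ᵥ (B *ᵥ v) := by
  let fl : (ι → F) →ₗ[F] (ι → F) →ₗ[F] F :=
    LinearMap.mk₂ F f hf.add_left (fun c u v => hf.smul_left c u v) (fun u v w => hf.add_right u v w)
      (fun c u v => hf.smul_right c u v)
  refine ⟨LinearMap.toMatrix₂' F fl, fun u v => ?_⟩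
  have h1 := Matrix.toLinearMap₂'_apply' (T := F) (LinearMap.toMatrix₂' F fl) u v
  rw [Matrix.toLinearMap₂'_toMatrix'] at h1
  exact h1

theorem ext_dot {A B : Matrix ι ι F} (h : ∀ u v : ι → F, u ⬝ᵥ (A *ᵥ v) = u ⬝ᵥ (B *ᵥ v)) : A = B := by
  ext i j
  have h1 := h (Pi.single i 1) (Pi.single j 1)
  rw [single_one_dotProduct, single_one_dotProduct, Matrix.mulVec_single_one, Matrix.mulVec_single_one] at h1
  exact h1

theorem dot_mulVec_left (g B : Matrix ι ι F) (u v : ι → F) : (g *ᵥ u) ⬝ᵥ (B *ᵥ v) = u ⬝ᵥ ((gᵀ * B) *ᵥ v) := by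
  rw [← Matrix.mulVec_mulVec, Matrix.dotProduct_mulVec u, Matrix.vecMul_transpose]

/-- the matrix of a symplectic form fixed by `P` -/
theorem exists_skew {P : Subgroup (GL ι F)} (h : FixA P) :
    ∃ B : Matrix ι ι F, Bᵀ = -B ∧ IsUnit B.det ∧ ∀ g ∈ P, (g : Matrix ι ι F)ᵀ * B * (g : Matrix ι ι F) = B := by
  obtain ⟨f, hf, hfix⟩ := h
  obtain ⟨B, hB⟩ := exists_gram hf.bilinear
  refine ⟨B, ?_, ?_, ?_⟩
  · apply ext_dot
    intro u v
    have h1 := hf.skew u v
    rw [hB, hB] at h1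
    have h2 : u ⬝ᵥ (Bᵀ *ᵥ v) = v ⬝ᵥ (B *ᵥ u) := by
      rw [Matrix.mulVec_transpose, dotProduct_comm, Matrix.dotProduct_mulVec]
    rw [h2, Matrix.neg_mulVec, dotProduct_neg, h1, neg_neg]
  · rw [← Matrix.isUnit_iff_isUnit_det, ← Matrix.mulVec_injective_iff_isUnit]
    rw [← Matrix.coe_mulVecLin, injective_iff_map_eq_zero]
    intro v hv
    by_contra hv0
    obtain ⟨⟨x, hx⟩, -⟩ := hf.nondegenerate v hv0
    apply hx
    rw [Matrix.mulVecLin_apply] at hv
    rw [hB, hv, dotProduct_zero]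
  · intro g hg
    apply ext_dot
    intro u v
    have h1 := hfix _ ⟨g, hg, rfl⟩ u v
    dsimp only at h1
    rw [hB, hB, dot_mulVec_left, Matrix.mulVec_mulVec] at h1
    exact h1

end Gram

section Main

variable {I W Y : Type*} [Fintype I] [DecidableEq I] [Group W] [Group Y] {M : CoxeterMatrix I}
  {cs : CoxeterSystem M W} {A : I → I → ℤ} {h : IsCartan M A} {p : ℕ} {T : Subgroup Y} {n : I → Y}
  {X : (I → ℤ) → Subgroup Y} {F : Type*} [Field F] {ι : Type} [Fintype ι] [DecidableEq ι]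
  {P : Subgroup (GL ι F)}

variable (R : RGD cs h p T n X) [Finite Y] [Finite W] [Fact p.Prime] [CharP F p] [Nonempty ι]
  (hG : GG cs h T X = ⊤) (hT : ∀ s ∈ T, ∀ t ∈ T, s * t = t * s) {φ : Y →* GL ι F} (hφ : φ.range = P)
  (hP : ActsAbsolutelyIrreducibly (matrixSet P))
include R hG hT hφ hP

/-- **No skew form.** -/
theorem not_skew (h2 : (2 : F) ≠ 0) {B : Matrix ι ι F} (hskew : Bᵀ = -B) (hdet : IsUnit B.det)
    (hfix : ∀ g ∈ P, (g : Matrix ι ι F)ᵀ * B * (g : Matrix ι ι F) = B) {g0 : Y}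
    (hU : ∀ u ∈ RGD.Sup X (RGD.Pos cs h), g0 * u * g0⁻¹ ∈ UN cs h X) (hg0 : φ (g0 * g0) = 1) : False := by
  classical
  have hchar : CharP (AlgebraicClosure F) p := charP_of_injective_algebraMap (algebraMap F _).injective p
  have hirr := ac_irr R hG hT hφ hP
  obtain ⟨c, hc, hc0, χ, hχ⟩ := exists_chi R hirr hT
  obtain ⟨ψ, hψ, hψc⟩ := exists_pair R (lin (acRep φ)) hirr hc hc0
  set B' : Matrix ι ι (AlgebraicClosure F) := B.map (algebraMap F (AlgebraicClosure F)) with hB'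
  have hdet' : IsUnit B'.det := by
    have h1 : B'.det = algebraMap F (AlgebraicClosure F) B.det := (RingHom.map_det _ B).symm
    rw [h1]
    exact hdet.map _
  have hskew' : B'ᵀ = -B' := by
    rw [hB', ← Matrix.transpose_map, hskew]
    ext i j
    simp
  have hfix' : ∀ y : Y, (acRep φ y)ᵀ * B' * acRep φ y = B' := by
    intro y
    have h1 := hfix (φ y) (by rw [← hφ]; exact ⟨y, rfl⟩)
    have h3 := congrArg (fun N : Matrix ι ι F => N.map (algebraMap F (AlgebraicClosure F))) h1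
    rw [Matrix.map_mul, Matrix.map_mul, Matrix.transpose_map] at h3
    exact h3
  have hform : ∀ (y : Y) (u v : ι → AlgebraicClosure F),
      (lin (acRep φ) y u) ⬝ᵥ (B' *ᵥ (lin (acRep φ) y v)) = u ⬝ᵥ (B' *ᵥ v) := by
    intro y u v
    rw [lin_apply, lin_apply, dot_mulVec_left, Matrix.mulVec_mulVec, hfix']
  -- the functional as a vector
  obtain ⟨w, hw⟩ : ∃ w, ∀ x, ψ x = x ⬝ᵥ (B' *ᵥ w) := by
    refine ⟨B'⁻¹ *ᵥ (fun i => ψ (Pi.single i 1)), fun x => ?_⟩
    rw [Matrix.mulVec_mulVec, Matrix.mul_nonsing_inv _ hdet', Matrix.one_mulVec]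
    conv_lhs => rw [← Finset.univ_sum_single x]
    rw [map_sum]
    refine Finset.sum_congr rfl fun i _ => ?_
    have h1 : (Pi.single i (x i) : ι → AlgebraicClosure F) = x i • Pi.single i 1 := by
      rw [← Pi.single_smul, smul_eq_mul, mul_one]
    rw [h1, map_smul, smul_eq_mul]
  have hwfix : ∀ u ∈ UN cs h X, lin (acRep φ) u w = w := by
    intro u hu
    have h1 : ∀ x, x ⬝ᵥ (B' *ᵥ (lin (acRep φ) u w)) = x ⬝ᵥ (B' *ᵥ w) := by
      intro x
      have h3 := hform u (lin (acRep φ) u⁻¹ x) w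
      rw [rho_rho_inv] at h3
      rw [h3, ← hw, ← hw]
      exact (mem_fx_dual (lin (acRep φ))).1 hψ _ (inv_mem hu) x
    have h3 : B' *ᵥ (lin (acRep φ) u w) = B' *ᵥ w := by
      funext i
      have h4 := h1 (Pi.single i 1)
      rwa [single_one_dotProduct, single_one_dotProduct] at h4
    have h4 := congrArg (fun z => B'⁻¹ *ᵥ z) h3
    rwa [Matrix.mulVec_mulVec, Matrix.mulVec_mulVec, Matrix.nonsing_inv_mul _ hdet', Matrix.one_mulVec,
      Matrix.one_mulVec] at h4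
  have hspan := fx_eq_span R (lin (acRep φ)) hirr hc hc0 hχ
  have h5 : lin (acRep φ) g0⁻¹ w ∈ fx (lin (acRep φ)) (RGD.Sup X (RGD.Pos cs h)) := by
    intro u hu
    have h6 := hwfix _ (hU u hu)
    have e : u * g0⁻¹ = g0⁻¹ * (g0 * u * g0⁻¹) := by group
    rw [← rho_mul, e, rho_mul, h6]
  rw [hspan] at h5
  obtain ⟨a, ha⟩ := Submodule.mem_span_singleton.1 h5
  have hwa : w = a • lin (acRep φ) g0 c := by
    have h6 := congrArg (lin (acRep φ) g0) ha
    rw [rho_rho_inv, map_smul] at h6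
    exact h6.symm
  have hs : c ⬝ᵥ (B' *ᵥ (lin (acRep φ) g0 c)) ≠ 0 := by
    intro h0
    apply hψc
    rw [hw, hwa, Matrix.mulVec_smul, dotProduct_smul, h0, smul_zero]
  -- the sign
  have hg0' : lin (acRep φ) g0 (lin (acRep φ) g0 c) = c := by
    rw [← rho_mul, lin_apply, acRep_apply, hg0, Units.val_one,
      Matrix.map_one _ (map_zero _) (map_one _), Matrix.one_mulVec]
  have h7 := hform g0 c (lin (acRep φ) g0 c)
  rw [hg0'] at h7
  have h8 : (lin (acRep φ) g0 c) ⬝ᵥ (B' *ᵥ c) = -(c ⬝ᵥ (B' *ᵥ (lin (acRep φ) g0 c))) := by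
    have h9 : ∀ u v : ι → AlgebraicClosure F, u ⬝ᵥ (B' *ᵥ v) = -(v ⬝ᵥ (B' *ᵥ u)) := by
      intro u v
      have h10 : v ⬝ᵥ (B' *ᵥ u) = u ⬝ᵥ (B'ᵀ *ᵥ v) := by
        rw [Matrix.mulVec_transpose, dotProduct_comm u, ← Matrix.dotProduct_mulVec]
      rw [h10, hskew', Matrix.neg_mulVec, dotProduct_neg, neg_neg]
    exact h9 _ _
  rw [h8] at h7
  have h9 : (2 : AlgebraicClosure F) * (c ⬝ᵥ (B' *ᵥ (lin (acRep φ) g0 c))) = 0 := by
    linear_combination -h7
  rcases mul_eq_zero.1 h9 with h10 | h10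
  · apply h2
    apply (algebraMap F (AlgebraicClosure F)).injective
    rw [map_ofNat, h10, map_zero]
  · exact hs h10

theorem not_fixA (h2 : (2 : F) ≠ 0) {g0 : Y}
    (hU : ∀ u ∈ RGD.Sup X (RGD.Pos cs h), g0 * u * g0⁻¹ ∈ UN cs h X) (hg0 : φ (g0 * g0) = 1) : ¬ FixA P := by
  intro hA
  obtain ⟨B, h1, h3, h4⟩ := exists_skew hA
  exact not_skew R hG hT hφ hP h2 h1 h3 h4 hU hg0

end Main


/-! ### `SL` -/

section SL

variable {K : Type*} [Field K] {l : ℕ}

end SL

section PSL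

variable {F : Type*} [Field F] [Finite F] {ι : Type} [Fintype ι] [DecidableEq ι] {P : Subgroup (GL ι F)}
  {K : Type*} [Field K] [Finite K] (p : ℕ) [hp : Fact p.Prime] [hFp : CharP F p] [hKp : CharP K p] {l : ℕ}
include hp hFp hKp

end PSL

end Cfsg.Agent.H151.Six
end

-- part: H905/MdR
section
set_option linter.all false
open scoped Cfsg.Agent.FastGrp

/-!
# The field of definition and the sign of the invariant form, defining characteristic (helper905)

`R` a root group datum of `Y`, `φ : Y → GL(ι, F)` with absolutely irreducible image `P`, `c` a highest weight vector over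
the algebraic closure.

* `exists_fixed_vec` : a vector of `F ^ ι` fixed by `U`;
* **`chi_mem`** : the highest weight `χ` has its values in `F`;
* **`form_sign`** : `Bᵀ = ε B` for the matrix of an invariant form implies `ε η = 1`, `g₀ ^ 2 c = η c`;
* `exists_symm` : the symmetric matrix of a quadratic form fixed by `P`.
-/

set_option autoImplicit false
set_option linter.unusedSectionVars false

namespace Cfsg.Agent.H905.Md

open Matrix CoxeterSystem Cfsg.Agent.ChevalleyStructure.CoxeterGeom Cfsg.Agent.Tits.Roots Cfsg.Agent.Tits.Core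
  Cfsg.Agent.Tits.Exchange Cfsg.Agent.Nodes.Reps Cfsg.Agent.Nodes.BNOf Cfsg.Agent.Nodes.StabComb
  Cfsg.Agent.Nodes.Bruhat Cfsg.Agent.Nodes.OppDec Cfsg.Agent.Nodes.LeviDec Cfsg.Agent.KFacts.RgdOpp
  Cfsg.Agent.Omega.CR Cfsg.Agent.Omega.FOne.Lift.Sd Cfsg.Agent.H911
open Cfsg Cfsg.Geo Cfsg.Agent.H915.LD Cfsg.Agent.H151.Six
open scoped MatrixGroups

section Symm

variable {F : Type*} [Field F] {ι : Type} [Fintype ι] [DecidableEq ι]

/-- the matrix of the polar form of a quadratic form fixed by `P` -/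
theorem exists_symm {P : Subgroup (GL ι F)} (h : FixQ P) :
    ∃ B : Matrix ι ι F, Bᵀ = B ∧ IsUnit B.det ∧ ∀ g ∈ P, (g : Matrix ι ι F)ᵀ * B * (g : Matrix ι ι F) = B := by
  obtain ⟨Q, hQ, hfix⟩ := h
  obtain ⟨B, hB⟩ := exists_gram hQ.polar_bilinear
  refine ⟨B, ?_, ?_, ?_⟩
  · apply ext_dot
    intro u v
    have h1 : QuadraticMap.polar Q u v = QuadraticMap.polar Q v u := QuadraticMap.polar_comm Q u v
    rw [hB, hB] at h1
    have h2 : u ⬝ᵥ (Bᵀ *ᵥ v) = v ⬝ᵥ (B *ᵥ u) := by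
      rw [Matrix.mulVec_transpose, dotProduct_comm, Matrix.dotProduct_mulVec]
    rw [h2, h1]
  · rw [← Matrix.isUnit_iff_isUnit_det, ← Matrix.mulVec_injective_iff_isUnit]
    rw [← Matrix.coe_mulVecLin, injective_iff_map_eq_zero]
    intro v hv
    by_contra hv0
    obtain ⟨⟨x, hx⟩, -⟩ := hQ.nondegenerate v hv0
    apply hx
    rw [Matrix.mulVecLin_apply] at hv
    rw [hB, hv, dotProduct_zero]
  · intro g hg
    apply ext_dot
    intro u v
    have h0 := hfix _ ⟨g, hg, rfl⟩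
    dsimp only at h0
    have h1 : QuadraticMap.polar Q ((g : Matrix ι ι F) *ᵥ u) ((g : Matrix ι ι F) *ᵥ v) = QuadraticMap.polar Q u v := by
      unfold QuadraticMap.polar
      rw [← Matrix.mulVec_add, h0, h0, h0]
    rw [hB, hB, dot_mulVec_left, Matrix.mulVec_mulVec] at h1
    exact h1

end Symm

section Main

variable {I W Y : Type*} [Fintype I] [DecidableEq I] [Group W] [Group Y] {M : CoxeterMatrix I}
  {cs : CoxeterSystem M W} {A : I → I → ℤ} {h : IsCartan M A} {p : ℕ} {T : Subgroup Y} {n : I → Y}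
  {X : (I → ℤ) → Subgroup Y} {F : Type*} [Field F] {ι : Type} [Fintype ι] [DecidableEq ι]
  {P : Subgroup (GL ι F)}

/-- the matrix representation over `F` -/
def fRep (φ : Y →* GL ι F) : Y →* Matrix ι ι F := (Units.coeHom (Matrix ι ι F)).comp φ

variable (R : RGD cs h p T n X) [Finite Y] [Finite W] [Fact p.Prime] [CharP F p] [Nonempty ι]
  (hG : GG cs h T X = ⊤) (hT : ∀ s ∈ T, ∀ t ∈ T, s * t = t * s) {φ : Y →* GL ι F} (hφ : φ.range = P)
  (hP : ActsAbsolutelyIrreducibly (matrixSet P))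
include R hG hφ hP

theorem exists_fixed_vec : ∃ w : ι → F, w ≠ 0 ∧
    ∀ u ∈ RGD.Sup X (RGD.Pos cs h), (φ u : Matrix ι ι F) *ᵥ w = w := by
  have hirr : ∀ L : Submodule F (ι → F), Ivt (lin (fRep φ)) (GG cs h T X) L → L = ⊥ ∨ L = ⊤ := by
    intro L hL
    apply hP.1 L
    rintro _ ⟨g, hg, rfl⟩ _ ⟨v, hv, rfl⟩
    rw [SetLike.mem_coe, ← hφ] at hg
    obtain ⟨y, rfl⟩ := hg
    exact hL y (by rw [hG]; trivial) v hv
  have h1 := simp_fx R (lin (fRep φ)) hirr
  obtain ⟨w, hw, hw0⟩ := (Submodule.ne_bot_iff _).1 h1.ne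
  exact ⟨w, hw0, fun u hu => hw u hu⟩

/-- **The highest weight has its values in `F`.** -/
theorem chi_mem {c : ι → AlgebraicClosure F} (hc : c ∈ fx (lin (acRep φ)) (RGD.Sup X (RGD.Pos cs h)))
    (hc0 : c ≠ 0) {χ : Y → AlgebraicClosure F} (hχ : ∀ t ∈ T, lin (acRep φ) t c = χ t • c) {t : Y} (ht : t ∈ T) :
    ∃ a : F, algebraMap F (AlgebraicClosure F) a = χ t := by
  have hchar : CharP (AlgebraicClosure F) p := charP_of_injective_algebraMap (algebraMap F _).injective p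
  have hirr : ∀ L : Submodule (AlgebraicClosure F) (ι → AlgebraicClosure F),
      Ivt (lin (acRep φ)) (GG cs h T X) L → L = ⊥ ∨ L = ⊤ :=
    fun L hL => acRep_irr hφ (H920.span_eq_top hP) hG L hL
  obtain ⟨w, hw0, hw⟩ := exists_fixed_vec R hG hφ hP
  have hspan := fx_eq_span R (lin (acRep φ)) hirr hc hc0 hχ
  have hmap : ∀ y : Y, lin (acRep φ) y (fun i => algebraMap F (AlgebraicClosure F) (w i)) =
      fun i => algebraMap F (AlgebraicClosure F) (((φ y : Matrix ι ι F) *ᵥ w) i) := by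
    intro y
    rw [lin_apply, acRep_apply]
    funext i
    exact (RingHom.map_mulVec (algebraMap F (AlgebraicClosure F)) (φ y : Matrix ι ι F) w i).symm
  have h1 : (fun i => algebraMap F (AlgebraicClosure F) (w i)) ∈
      fx (lin (acRep φ)) (RGD.Sup X (RGD.Pos cs h)) := by
    intro u hu
    rw [hmap, hw u hu]
  rw [hspan] at h1
  obtain ⟨a, ha⟩ := Submodule.mem_span_singleton.1 h1
  obtain ⟨i, hi⟩ : ∃ i, w i ≠ 0 := by
    by_contra hcon
    push Not at hcon
    exact hw0 (funext hcon)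
  refine ⟨((φ t : Matrix ι ι F) *ᵥ w) i / w i, ?_⟩
  have h2 : lin (acRep φ) t (fun i => algebraMap F (AlgebraicClosure F) (w i)) =
      χ t • (fun i => algebraMap F (AlgebraicClosure F) (w i)) := by
    rw [← ha, map_smul, hχ t ht, smul_comm]
  rw [hmap] at h2
  have h3 := congrFun h2 i
  have h4 : algebraMap F (AlgebraicClosure F) (((φ t : Matrix ι ι F) *ᵥ w) i) =
      χ t * algebraMap F (AlgebraicClosure F) (w i) := h3
  rw [map_div₀, h4, mul_div_assoc, div_self ((map_ne_zero _).2 hi), mul_one]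

/-- **The sign of an invariant form.** -/
theorem form_sign {B : Matrix ι ι F} {ε : F} (hB : Bᵀ = ε • B) (hdet : IsUnit B.det)
    (hfix : ∀ g ∈ P, (g : Matrix ι ι F)ᵀ * B * (g : Matrix ι ι F) = B) {g0 : Y}
    (hU : ∀ u ∈ RGD.Sup X (RGD.Pos cs h), g0 * u * g0⁻¹ ∈ UN cs h X) {c : ι → AlgebraicClosure F}
    (hc : c ∈ fx (lin (acRep φ)) (RGD.Sup X (RGD.Pos cs h))) (hc0 : c ≠ 0)
    {χ : Y → AlgebraicClosure F} (hχ : ∀ t ∈ T, lin (acRep φ) t c = χ t • c) {η : AlgebraicClosure F}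
    (hη : lin (acRep φ) (g0 * g0) c = η • c) : algebraMap F (AlgebraicClosure F) ε * η = 1 := by
  classical
  have hchar : CharP (AlgebraicClosure F) p := charP_of_injective_algebraMap (algebraMap F _).injective p
  have hirr : ∀ L : Submodule (AlgebraicClosure F) (ι → AlgebraicClosure F),
      Ivt (lin (acRep φ)) (GG cs h T X) L → L = ⊥ ∨ L = ⊤ :=
    fun L hL => acRep_irr hφ (H920.span_eq_top hP) hG L hL
  obtain ⟨ψ, hψ, hψc⟩ := exists_pair R (lin (acRep φ)) hirr hc hc0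
  set B' : Matrix ι ι (AlgebraicClosure F) := B.map (algebraMap F (AlgebraicClosure F)) with hB'
  have hdet' : IsUnit B'.det := by
    have h1 : B'.det = algebraMap F (AlgebraicClosure F) B.det := (RingHom.map_det _ B).symm
    rw [h1]
    exact hdet.map _
  have hskew' : B'ᵀ = algebraMap F (AlgebraicClosure F) ε • B' := by
    rw [hB', ← Matrix.transpose_map, hB]
    ext i j
    simp
  have hfix' : ∀ y : Y, (acRep φ y)ᵀ * B' * acRep φ y = B' := by
    intro y
    have h1 := hfix (φ y) (by rw [← hφ]; exact ⟨y, rfl⟩)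
    have h3 := congrArg (fun N : Matrix ι ι F => N.map (algebraMap F (AlgebraicClosure F))) h1
    rw [Matrix.map_mul, Matrix.map_mul, Matrix.transpose_map] at h3
    exact h3
  have hform : ∀ (y : Y) (u v : ι → AlgebraicClosure F),
      (lin (acRep φ) y u) ⬝ᵥ (B' *ᵥ (lin (acRep φ) y v)) = u ⬝ᵥ (B' *ᵥ v) := by
    intro y u v
    rw [lin_apply, lin_apply, dot_mulVec_left, Matrix.mulVec_mulVec, hfix']
  obtain ⟨w, hw⟩ : ∃ w, ∀ x, ψ x = x ⬝ᵥ (B' *ᵥ w) := by
    refine ⟨B'⁻¹ *ᵥ (fun i => ψ (Pi.single i 1)), fun x => ?_⟩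
    rw [Matrix.mulVec_mulVec, Matrix.mul_nonsing_inv _ hdet', Matrix.one_mulVec]
    conv_lhs => rw [← Finset.univ_sum_single x]
    rw [map_sum]
    refine Finset.sum_congr rfl fun i _ => ?_
    have h1 : (Pi.single i (x i) : ι → AlgebraicClosure F) = x i • Pi.single i 1 := by
      rw [← Pi.single_smul, smul_eq_mul, mul_one]
    rw [h1, map_smul, smul_eq_mul]
  have hwfix : ∀ u ∈ UN cs h X, lin (acRep φ) u w = w := by
    intro u hu
    have h1 : ∀ x, x ⬝ᵥ (B' *ᵥ (lin (acRep φ) u w)) = x ⬝ᵥ (B' *ᵥ w) := by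
      intro x
      have h3 := hform u (lin (acRep φ) u⁻¹ x) w
      rw [rho_rho_inv] at h3
      rw [h3, ← hw, ← hw]
      exact (mem_fx_dual (lin (acRep φ))).1 hψ _ (inv_mem hu) x
    have h3 : B' *ᵥ (lin (acRep φ) u w) = B' *ᵥ w := by
      funext i
      have h4 := h1 (Pi.single i 1)
      rwa [single_one_dotProduct, single_one_dotProduct] at h4
    have h4 := congrArg (fun z => B'⁻¹ *ᵥ z) h3
    rwa [Matrix.mulVec_mulVec, Matrix.mulVec_mulVec, Matrix.nonsing_inv_mul _ hdet', Matrix.one_mulVec,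
      Matrix.one_mulVec] at h4
  have hspan := fx_eq_span R (lin (acRep φ)) hirr hc hc0 hχ
  have h5 : lin (acRep φ) g0⁻¹ w ∈ fx (lin (acRep φ)) (RGD.Sup X (RGD.Pos cs h)) := by
    intro u hu
    have h6 := hwfix _ (hU u hu)
    have e : u * g0⁻¹ = g0⁻¹ * (g0 * u * g0⁻¹) := by group
    rw [← rho_mul, e, rho_mul, h6]
  rw [hspan] at h5
  obtain ⟨a, ha⟩ := Submodule.mem_span_singleton.1 h5
  have hwa : w = a • lin (acRep φ) g0 c := by
    have h6 := congrArg (lin (acRep φ) g0) ha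
    rw [rho_rho_inv, map_smul] at h6
    exact h6.symm
  have hs : c ⬝ᵥ (B' *ᵥ (lin (acRep φ) g0 c)) ≠ 0 := by
    intro h0
    apply hψc
    rw [hw, hwa, Matrix.mulVec_smul, dotProduct_smul, h0, smul_zero]
  -- the sign
  have hg0' : lin (acRep φ) g0 (lin (acRep φ) g0 c) = η • c := by
    rw [← rho_mul, hη]
  have h7 := hform g0 c (lin (acRep φ) g0 c)
  rw [hg0'] at h7
  have h9 : ∀ u v : ι → AlgebraicClosure F, u ⬝ᵥ (B' *ᵥ v) =
      algebraMap F (AlgebraicClosure F) ε * (v ⬝ᵥ (B' *ᵥ u)) := by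
    intro u v
    have h10 : u ⬝ᵥ (B' *ᵥ v) = v ⬝ᵥ (B'ᵀ *ᵥ u) := by
      rw [Matrix.mulVec_transpose, dotProduct_comm v, ← Matrix.dotProduct_mulVec]
    rw [h10, hskew', Matrix.smul_mulVec, dotProduct_smul, smul_eq_mul]
  rw [Matrix.mulVec_smul, dotProduct_smul, smul_eq_mul, h9] at h7
  apply mul_right_cancel₀ hs
  rw [one_mul]
  linear_combination h7

end Main

end Cfsg.Agent.H905.Md
end
end
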