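import Cfsg.Agent.H905.MdH_m3
import Cfsg.Agent.Nodes.WittAll
import Cfsg.Agent.Prune
set_option linter.all false

section
prune_inst 0x7f00000000000000000000000000000000000000000000000000000000000000000000000000000000000000000000000000000000000000000000000000000000000000000000000000000000000000003fffffffffffffffffffffffffffbeffbdffffffff

-- part: H905/MdJ
section
set_option linter.all false
open scoped Cfsg.Agent.FastGrp

/-!
# `w₀ = -1` and the torus of the classical groups over a Witt frame (helper905)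

* `exists_neg` : in a model of a Witt frame of rank `n` there are `w₀ ∈ W` over `-1` and a representative `g` which is
  monomial and exchanges `b_x` and `b_{-x}`;
* **`torus_inv`** : for such `g` and `t` of the torus, `g⁻¹ t⁻¹ g = t ^ q` if `σ = (x ↦ x ^ q)` and the anisotropic part
  is at most a line.
-/

set_option autoImplicit false
set_option linter.unusedSectionVars false
set_option linter.style.haveILetI false

namespace Cfsg.Agent.H905.Md

open CoxeterSystem Cfsg.Agent.ChevalleyStructure.CoxeterGeom Cfsg.Agent.Tits.Roots Cfsg.Agent.Nodes.TypeC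
open Cfsg.Agent.Nodes.Comb Cfsg.Agent.Nodes.Reps Cfsg.Agent.Nodes.WittRoot Cfsg.Agent.Nodes.BNOf
open Cfsg.Agent.Nodes.WittRGD Cfsg.Agent.Nodes.RGDLib Cfsg.Agent.Nodes.WittAll Cfsg.Agent.Nodes
open Cfsg.Agent.TitsThree Cfsg.Agent.TitsThree.Siegel Cfsg.Agent.TitsThree.WittFrame
  Cfsg.Agent.TitsThree.WittWeyl Cfsg.Agent.TitsThree.FrameCN

section Comb

variable {n : ℕ} {W : Type*} [Group W] (cs : CoxeterSystem (CoxeterMatrix.B n) W)

/-- `v` acts on the `ε`-coordinates by the signed permutation `π` -/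
def Act (v : W) (π : Fin n × Bool → Fin n × Bool) : Prop :=
  ∀ x a b, ee x = wt a + wt b → ee (rep cs (isCartan n) v x) = wt (π a) + wt (π b)

variable {cs}

theorem Act.one : Act cs 1 id := by
  intro x a b hx
  rw [map_one, Module.End.one_apply]
  exact hx

theorem Act.mul {v w : W} {π ρ : Fin n × Bool → Fin n × Bool} (hv : Act cs v π) (hw : Act cs w ρ) :
    Act cs (v * w) (fun x => π (ρ x)) := by
  intro x a b hx
  rw [rep_mul_apply]
  exact hv _ _ _ (hw _ _ _ hx)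

theorem act_simple (i : Fin n) : Act cs (cs.simple i) (TypeC.sg i) := by
  intro x a b hx
  rw [rep_simple]
  exact ee_refl_of hx

theorem rep_neg_of_act {v : W} {π : Fin n × Bool → Fin n × Bool} (hv : Act cs v π) (hπ : ∀ x, π x = ng x)
    (x : Fin n → ℤ) : rep cs (isCartan n) v x = -x := by
  have h1 : ∀ i, rep cs (isCartan n) v (sr i) = -sr i := by
    intro i
    apply ee_injective
    rw [hv _ _ _ (ee_sr i), hπ, hπ, wt_ng, wt_ng, ee_neg, ee_sr, bt, neg_add]
  have h2 : rep cs (isCartan n) v = -(1 : Module.End ℤ (Fin n → ℤ)) := by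
    apply LinearMap.pi_ext
    intro i c
    have h3 : (Pi.single i c : Fin n → ℤ) = c • sr i := by
      rw [sr, ← Pi.single_smul, smul_eq_mul, mul_one]
    rw [h3, map_smul, map_smul, h1]
    rfl
  rw [h2]
  rfl

end Comb

section Model

variable {F : Type*} [Field F] {V : Type*} [AddCommGroup V] [Module F V] {H : HForm F V} {n : ℕ}
  {Fr : Frame H (Fin n)} {K : Type*} [Group K] (M : Model Fr K) {p : ℕ}

/-- sign changes of the coordinates `≥ k` -/
def fl (k : ℕ) (x : Fin n × Bool) : Fin n × Bool := if k ≤ (x.1 : ℕ) then ng x else x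

/-- sign change of the coordinate `k` -/
def fl1 (k : ℕ) (x : Fin n × Bool) : Fin n × Bool := if (x.1 : ℕ) = k then ng x else x

theorem exists_lift (hA : AmbT Fr p M.I) {p0 : Fr.Adm} (hp0 : p0.c ≠ 0) {W : Type*} [Group W]
    {cs : CoxeterSystem (CoxeterMatrix.B n) W}
    (hN : NSys (CoxeterMatrix.B n) (WittModel.T M) (fun i => M.φ ⟨nn Fr p0 i, nn_mem hA p0 i⟩)) :
    ∃ v : W, Act cs v ng ∧ ∃ (g : V ≃ₗ[F] V) (hg : g ∈ M.I), Rp cs hN v (M.φ ⟨g, hg⟩) ∧ Mono Fr g ng := by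
  let Q : W → (Fin n × Bool → Fin n × Bool) → Prop := fun v π => Act cs v π ∧
    ∃ (g : V ≃ₗ[F] V) (hg : g ∈ M.I), Rp cs hN v (M.φ ⟨g, hg⟩) ∧ Mono Fr g π
  have hmul : ∀ {v w : W} {π ρ : Fin n × Bool → Fin n × Bool}, Q v π → Q w ρ → Q (v * w) (fun x => π (ρ x)) := by
    rintro v w π ρ ⟨h1, g, hg, h2, h3⟩ ⟨h4, k, hk, h5, h6⟩
    refine ⟨h1.mul h4, g * k, mul_mem hg hk, ?_, h3.mul h6⟩
    have h7 := h2.mul h5
    rwa [← map_mul] at h7
  have hone : Q 1 id := by
    refine ⟨Act.one, 1, one_mem _, ?_, Mono.one⟩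
    have h1 := rp_of_mem (cs := cs) (hN := hN) (one_mem (WittModel.T M))
    have h2 : M.φ ⟨1, one_mem _⟩ = 1 := map_one M.φ
    rw [h2]
    exact h1
  have hsimple : ∀ i, Q (cs.simple i) (TypeC.sg i) := fun i =>
    ⟨act_simple i, nn Fr p0 i, nn_mem hA p0 i, rp_simple cs hN i, mono_nn hp0 i⟩
  have hcongr : ∀ {v : W} {π ρ : Fin n × Bool → Fin n × Bool}, Q v π → (∀ x, π x = ρ x) → Q v ρ := by
    intro v π ρ h e
    rwa [← funext e]
  -- one coordinate
  have h1 : ∀ d k : ℕ, k + d + 1 = n → ∃ v, Q v (fl1 k) := by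
    intro d
    induction d with
    | zero =>
      intro k hk
      refine ⟨cs.simple ⟨k, by omega⟩, hcongr (hsimple _) ?_⟩
      intro x
      unfold TypeC.sg fl1
      rw [dif_neg (by simp; omega)]
      by_cases hx : (x.1 : ℕ) = k
      · rw [if_pos (Fin.ext hx), if_pos hx]
        rfl
      · rw [if_neg (fun e => hx (congrArg Fin.val e)), if_neg hx]
    | succ d ih =>
      intro k hk
      obtain ⟨v, hv⟩ := ih (k + 1) (by omega)
      refine ⟨cs.simple ⟨k, by omega⟩ * (v * cs.simple ⟨k, by omega⟩),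
        hcongr (hmul (hsimple _) (hmul hv (hsimple _))) ?_⟩
      rintro ⟨x, s⟩
      have hi : ((⟨k, by omega⟩ : Fin n) : ℕ) + 1 < n := by change k + 1 < n; omega
      have e0 : ∀ s, fl1 (n := n) k ((⟨k, by omega⟩ : Fin n), s) = ((⟨k, by omega⟩ : Fin n), !s) := by
        intro s; unfold fl1; rw [if_pos rfl]; rfl
      have e1 : ∀ s, fl1 (n := n) (k + 1) ((⟨k, by omega⟩ : Fin n), s) = ((⟨k, by omega⟩ : Fin n), s) := by
        intro s; unfold fl1; rw [if_neg (by change ¬ k = k + 1; omega)]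
      have e2 : ∀ s, fl1 (n := n) k ((⟨k + 1, by omega⟩ : Fin n), s) = ((⟨k + 1, by omega⟩ : Fin n), s) := by
        intro s; unfold fl1; rw [if_neg (by change ¬ k + 1 = k; omega)]
      have e3 : ∀ s, fl1 (n := n) (k + 1) ((⟨k + 1, by omega⟩ : Fin n), s) = ((⟨k + 1, by omega⟩ : Fin n), !s) := by
        intro s; unfold fl1; rw [if_pos rfl]; rfl
      have hup : ∀ s, TypeC.sg ⟨k, by omega⟩ ((⟨k, by omega⟩ : Fin n), s) = ((⟨k + 1, by omega⟩ : Fin n), s) :=
        fun s => sg_up hi s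
      have hdn : ∀ s, TypeC.sg ⟨k, by omega⟩ ((⟨k + 1, by omega⟩ : Fin n), s) = ((⟨k, by omega⟩ : Fin n), s) :=
        fun s => sg_down hi s
      by_cases hx : (x : ℕ) = k
      · have hx0 : x = ⟨k, by omega⟩ := Fin.ext hx
        rw [hx0, hup, e3, hdn, e0]
      · by_cases hx' : (x : ℕ) = k + 1
        · have hx0 : x = ⟨k + 1, by omega⟩ := Fin.ext hx'
          rw [hx0, hdn, e1, hup, e2]
        · have h4 : TypeC.sg ⟨k, by omega⟩ (x, s) = (x, s) :=
            sg_of_ne (fun e => hx (congrArg Fin.val e)) (fun e => hx' e)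
          have h5 : fl1 (n := n) (k + 1) (x, s) = (x, s) := by unfold fl1; rw [if_neg hx']
          have h6 : fl1 (n := n) k (x, s) = (x, s) := by unfold fl1; rw [if_neg hx]
          rw [h4, h5, h4, h6]
  -- all coordinates
  have h2 : ∀ d k : ℕ, k + d = n → ∃ v, Q v (fl k) := by
    intro d
    induction d with
    | zero =>
      intro k hk
      refine ⟨1, hcongr hone ?_⟩
      intro x
      unfold fl
      have := x.1.2
      rw [if_neg (by omega)]
      rfl
    | succ d ih =>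
      intro k hk
      obtain ⟨v, hv⟩ := h1 d k (by omega)
      obtain ⟨w, hw⟩ := ih (k + 1) (by omega)
      refine ⟨v * w, hcongr (hmul hv hw) ?_⟩
      rintro ⟨x, s⟩
      unfold fl fl1 ng
      rcases lt_trichotomy (x : ℕ) k with h3 | h3 | h3
      · have h4 : ¬ k + 1 ≤ (x : ℕ) := by omega
        have h5 : ¬ k ≤ (x : ℕ) := by omega
        have h6 : ¬ (x : ℕ) = k := by omega
        simp [h4, h5, h6]
      · have h4 : ¬ k + 1 ≤ (x : ℕ) := by omega
        have h5 : k ≤ (x : ℕ) := by omega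
        simp [h3]
      · have h4 : k + 1 ≤ (x : ℕ) := by omega
        have h5 : k ≤ (x : ℕ) := by omega
        have h6 : ¬ (x : ℕ) = k := by omega
        simp [h4, h5, h6]
  obtain ⟨v, hv⟩ := h2 n 0 (by omega)
  have h3 : Q v ng := hcongr hv (fun x => by unfold fl; rw [if_pos (Nat.zero_le _)])
  exact ⟨v, h3.1, h3.2⟩

/-- **`w₀ = -1`.** -/
theorem exists_neg (hA : AmbT Fr p M.I) {p0 : Fr.Adm} (hp0 : p0.c ≠ 0) {W : Type*} [Group W]
    {cs : CoxeterSystem (CoxeterMatrix.B n) W}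
    (hN : NSys (CoxeterMatrix.B n) (WittModel.T M) (fun i => M.φ ⟨nn Fr p0 i, nn_mem hA p0 i⟩)) :
    ∃ v : W, (∀ x, rep cs (isCartan n) v x = -x) ∧
      ∃ (g : V ≃ₗ[F] V) (hg : g ∈ M.I), Rp cs hN v (M.φ ⟨g, hg⟩) ∧ Mono Fr g ng := by
  obtain ⟨v, h1, h2⟩ := exists_lift M hA hp0 (cs := cs) hN
  exact ⟨v, rep_neg_of_act h1 (fun _ => rfl), h2⟩

/-- the anisotropic part is at most a line -/
def Kd (Fr : Frame H (Fin n)) : Prop := Fr.V0 = ⊥ ∨ ∃ d, H.h d d ≠ 0 ∧ Fr.V0 = Submodule.span F {d}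

theorem map_V0 {g : V ≃ₗ[F] V} (hg : H.IsIso g) (hV0 : ∀ v, (∀ x, H.h v (Fr.b x) = 0) → v ∈ Fr.V0)
    {π : Fin n × Bool → Fin n × Bool} (hm : Mono Fr g π) (hπ : ∀ x, ∃ y, π y = x) {v : V} (hv : v ∈ Fr.V0) :
    g v ∈ Fr.V0 := by
  apply hV0
  intro x
  obtain ⟨y, rfl⟩ := hπ x
  obtain ⟨l, hl, e⟩ := hm y
  have h1 : H.h (g v) (g (Fr.b y)) = 0 := by
    rw [hg]
    exact H.orth_symm (Fr.h0 y v hv)
  rw [e, H.smul_right] at h1
  rcases mul_eq_zero.1 h1 with h2 | h2
  · exact absurd ((map_eq_zero _).1 h2) hl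
  · exact h2

/-- an isometry which fixes the `b_x` and the anisotropic part (at most a line) is trivial -/
theorem iso_one (hV0 : ∀ v, (∀ x, H.h v (Fr.b x) = 0) → v ∈ Fr.V0) (hk : Kd Fr) {z : V ≃ₗ[F] V} (hz : H.IsIso z)
    (hb : ∀ x, z (Fr.b x) = Fr.b x) (hd : ∀ v ∈ Fr.V0, z v = v) : z = 1 := by
  ext v
  change z v = v
  have h1 : z v - v ∈ Fr.V0 := by
    apply hV0
    intro x
    have e3 : H.h (z v) (Fr.b x) = H.h v (Fr.b x) := by
      conv_lhs => rw [← hb x]
      exact hz _ _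
    rw [sub_eq_add_neg, H.add_left, ← neg_one_smul F v, H.smul_left, e3]
    ring
  rcases hk with h0 | ⟨d, hd0, h0⟩
  · rw [h0, Submodule.mem_bot, sub_eq_zero] at h1
    exact h1
  · have hdm : d ∈ Fr.V0 := by rw [h0]; exact Submodule.mem_span_singleton_self d
    rw [h0] at h1
    obtain ⟨c, hc⟩ := Submodule.mem_span_singleton.1 h1
    have e3 : H.h (z v) d = H.h v d := by
      conv_lhs => rw [← hd d hdm]
      exact hz _ _
    have h3 : c * H.h d d = 0 := by
      rw [← H.smul_left, hc, sub_eq_add_neg, H.add_left, ← neg_one_smul F v, H.smul_left, e3]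
      ring
    rw [(mul_eq_zero.1 h3).resolve_right hd0, zero_smul] at hc
    exact (sub_eq_zero.1 hc.symm)

/-- elements of the torus are diagonal -/
theorem torus_eig (hV0 : ∀ v, (∀ x, H.h v (Fr.b x) = 0) → v ∈ Fr.V0) (hk : Kd Fr) {t : V ≃ₗ[F] V} (hti : H.IsIso t)
    (ht : Mono Fr t id) : (∀ x, ∃ l : F, l ≠ 0 ∧ t (Fr.b x) = l • Fr.b x) ∧ ∃ l : F, l ≠ 0 ∧ ∀ v ∈ Fr.V0, t v = l • v := by
  refine ⟨fun x => ht x, ?_⟩
  rcases hk with h0 | ⟨d, hd0, h0⟩
  · refine ⟨1, one_ne_zero, fun v hv => ?_⟩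
    rw [h0, Submodule.mem_bot] at hv
    rw [hv, map_zero, smul_zero]
  · have hdm : d ∈ Fr.V0 := by rw [h0]; exact Submodule.mem_span_singleton_self d
    have hd1 : d ≠ 0 := by
      rintro rfl
      apply hd0
      have := H.smul_left 0 (0 : V) (0 : V)
      rwa [zero_smul, zero_mul] at this
    have h2 := map_V0 hti hV0 ht (fun x => ⟨x, rfl⟩) hdm
    rw [h0] at h2
    obtain ⟨a, ha⟩ := Submodule.mem_span_singleton.1 h2
    refine ⟨a, ?_, fun v hv => ?_⟩
    · rintro rfl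
      rw [zero_smul] at ha
      exact hd1 (t.map_eq_zero_iff.1 ha.symm)
    · rw [h0] at hv
      obtain ⟨c, rfl⟩ := Submodule.mem_span_singleton.1 hv
      rw [map_smul, ← ha, smul_comm]

theorem torus_comm (hV0 : ∀ v, (∀ x, H.h v (Fr.b x) = 0) → v ∈ Fr.V0) (hk : Kd Fr) {s t : V ≃ₗ[F] V}
    (hsi : H.IsIso s) (hti : H.IsIso t) (hs : Mono Fr s id) (ht : Mono Fr t id) : s * t = t * s := by
  have h1 := torus_eig hV0 hk hsi hs
  have h2 := torus_eig hV0 hk hti ht
  have key : ∀ {v : V} {l m : F}, s v = l • v → t v = m • v → ((t * s)⁻¹ * (s * t)) v = v := by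
    intro v l m e1 e2
    have e3 : (s * t) v = (t * s) v := by
      change s (t v) = t (s v)
      rw [e1, e2, map_smul, map_smul, e1, e2, smul_comm]
    change (t * s)⁻¹ ((s * t) v) = v
    rw [e3]
    exact (t * s).symm_apply_apply v
  have h3 : (t * s)⁻¹ * (s * t) = 1 := by
    refine iso_one hV0 hk (HForm.IsIso.mul H (HForm.IsIso.inv H (HForm.IsIso.mul H hti hsi))
      (HForm.IsIso.mul H hsi hti)) ?_ ?_
    · intro x
      obtain ⟨l, -, e1⟩ := h1.1 x
      obtain ⟨m, -, e2⟩ := h2.1 x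
      exact key e1 e2
    · intro v hv
      obtain ⟨l, -, e1⟩ := h1.2
      obtain ⟨m, -, e2⟩ := h2.2
      exact key (e1 v hv) (e2 v hv)
  exact (inv_mul_eq_one.1 h3).symm

theorem torus_pow (hV0 : ∀ v, (∀ x, H.h v (Fr.b x) = 0) → v ∈ Fr.V0) (hk : Kd Fr) {t : V ≃ₗ[F] V} {Q : ℕ}
    (hQ : ∀ a : F, a ^ Q = a) (hti : H.IsIso t) (ht : Mono Fr t id) : t ^ Q = t := by
  have h2 := torus_eig hV0 hk hti ht
  have hpow : ∀ (N : ℕ), H.IsIso (t ^ N) := by
    intro N
    induction N with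
    | zero => intro v w; rfl
    | succ N ih => rw [pow_succ]; exact HForm.IsIso.mul H ih hti
  have key : ∀ {v : V} {l : F}, t v = l • v → (t⁻¹ * t ^ Q) v = v := by
    intro v l h
    have h1 : ∀ N : ℕ, (t ^ N) v = l ^ N • v := by
      intro N
      induction N with
      | zero => rw [pow_zero, pow_zero, one_smul]; rfl
      | succ N ih => rw [pow_succ', pow_succ', mul_smul]; change t ((t ^ N) v) = _; rw [ih, map_smul, h, smul_comm]
    change t⁻¹ ((t ^ Q) v) = v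
    rw [h1, hQ, ← h]
    exact t.symm_apply_apply v
  have h3 : t⁻¹ * t ^ Q = 1 := by
    refine iso_one hV0 hk (HForm.IsIso.mul H (HForm.IsIso.inv H hti) (hpow Q)) ?_ ?_
    · intro x
      obtain ⟨m, -, e2⟩ := h2.1 x
      exact key e2
    · intro v hv
      obtain ⟨m, -, e2⟩ := h2.2
      exact key (e2 v hv)
  exact (inv_mul_eq_one.1 h3).symm

/-- **The torus and `w₀`.** -/
theorem torus_inv (hV0 : ∀ v, (∀ x, H.h v (Fr.b x) = 0) → v ∈ Fr.V0) (hk : Kd Fr) {q : ℕ}
    (hσ : ∀ a, H.σ a = a ^ q) {w t : V ≃ₗ[F] V} (hwi : H.IsIso w) (hti : H.IsIso t) (hw : Mono Fr w ng)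
    (ht : Mono Fr t id) : w⁻¹ * t⁻¹ * w = t ^ q := by
  have hpow : ∀ (N : ℕ), H.IsIso (t ^ N) := by
    intro N
    induction N with
    | zero => intro v w; rfl
    | succ N ih => rw [pow_succ]; exact HForm.IsIso.mul H ih hti
  have hai : H.IsIso (w⁻¹ * t⁻¹ * w) :=
    HForm.IsIso.mul H (HForm.IsIso.mul H (HForm.IsIso.inv H hwi) (HForm.IsIso.inv H hti)) hwi
  have key : ∀ {v : V} {l : F}, t v = l • v → ∀ N : ℕ, (t ^ N) v = l ^ N • v := by
    intro v l h N
    induction N with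
    | zero => rw [pow_zero, pow_zero, one_smul]; rfl
    | succ N ih => rw [pow_succ', pow_succ', mul_smul]; change t ((t ^ N) v) = _; rw [ih, map_smul, h, smul_comm]
  -- agreement on an eigenvector
  have key2 : ∀ {u v : V} {l m m' : F}, m ≠ 0 → l ≠ 0 → m' ≠ 0 → w v = m • u → t u = m' • u → t v = l • v → m' * l ^ q = 1 →
      (w⁻¹ * t⁻¹ * w) v = (t ^ q) v := by
    intro u v l m m' hm hl hm' h1 h2 h3 h4
    rw [key h3]
    change w⁻¹ (t⁻¹ (w v)) = _
    have e1 : t⁻¹ (w v) = l ^ q • w v := by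
      have e2 : t (l ^ q • w v) = w v := by
        rw [map_smul, h1, map_smul, h2, smul_smul, smul_smul]
        congr 1
        calc l ^ q * m * m' = m * (m' * l ^ q) := by ring
          _ = m := by rw [h4, mul_one]
      have e3 : t⁻¹ (t (l ^ q • w v)) = l ^ q • w v := t.symm_apply_apply _
      rw [e2] at e3
      exact e3
    rw [e1, map_smul]
    congr 1
    exact w.symm_apply_apply _
  have hb : ∀ x, (w⁻¹ * t⁻¹ * w) (Fr.b x) = (t ^ q) (Fr.b x) := by
    intro x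
    obtain ⟨l, hl, e1⟩ := ht x
    obtain ⟨l', hl', e2⟩ := ht (ng x)
    obtain ⟨m, hm, e3⟩ := hw x
    refine key2 hm hl hl' e3 e2 e1 ?_
    have h1 := hti (Fr.b (ng x)) (Fr.b x)
    rw [e1, e2, H.smul_left, H.smul_right] at h1
    have h2 : H.h (Fr.b (ng x)) (Fr.b x) ≠ 0 := by
      rw [Fr.hb, if_pos ⟨rfl, by simp [ng]⟩]
      split_ifs
      · exact one_ne_zero
      · exact H.ε_ne
    rw [← mul_assoc] at h1
    have h3 := mul_right_cancel₀ h2 (h1.trans (one_mul _).symm)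
    rwa [hσ] at h3
  have hd : ∀ v ∈ Fr.V0, (w⁻¹ * t⁻¹ * w) v = (t ^ q) v := by
    rcases hk with h0 | ⟨d, hd0, h0⟩
    · intro v hv
      rw [h0, Submodule.mem_bot] at hv
      rw [hv, map_zero, map_zero]
    · have hdm : d ∈ Fr.V0 := by rw [h0]; exact Submodule.mem_span_singleton_self d
      have hd1 : d ≠ 0 := by
        rintro rfl
        apply hd0
        have := H.smul_left 0 (0 : V) (0 : V)
        rwa [zero_smul, zero_mul] at this
      have h1 : ∃ α : F, t d = α • d := by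
        have h2 := map_V0 hti hV0 ht (fun x => ⟨x, rfl⟩) hdm
        rw [h0] at h2
        obtain ⟨a, ha⟩ := Submodule.mem_span_singleton.1 h2
        exact ⟨a, ha.symm⟩
      have h2 : ∃ β : F, w d = β • d := by
        have h2 := map_V0 hwi hV0 hw (fun x => ⟨ng x, ng_ng x⟩) hdm
        rw [h0] at h2
        obtain ⟨a, ha⟩ := Submodule.mem_span_singleton.1 h2
        exact ⟨a, ha.symm⟩
      obtain ⟨α, hα⟩ := h1
      obtain ⟨β, hβ⟩ := h2
      have hα0 : α ≠ 0 := by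
        rintro rfl
        rw [zero_smul] at hα
        exact hd1 (t.map_eq_zero_iff.1 hα)
      have hβ0 : β ≠ 0 := by
        rintro rfl
        rw [zero_smul] at hβ
        exact hd1 (w.map_eq_zero_iff.1 hβ)
      have h3 : α * α ^ q = 1 := by
        have h4 := hti d d
        rw [hα, H.smul_left, H.smul_right, ← mul_assoc, hσ] at h4
        exact mul_right_cancel₀ hd0 (h4.trans (one_mul _).symm)
      intro v hv
      rw [h0] at hv
      obtain ⟨c, rfl⟩ := Submodule.mem_span_singleton.1 hv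
      rw [map_smul, map_smul, key2 hβ0 hα0 hα0 hβ hα hα h3]
  -- conclusion
  ext v
  have h1 : (w⁻¹ * t⁻¹ * w) v - (t ^ q) v ∈ Fr.V0 := by
    apply hV0
    intro x
    have e : ∃ u, (t ^ q) u = Fr.b x ∧ (w⁻¹ * t⁻¹ * w) u = Fr.b x := by
      obtain ⟨l, hl, e1⟩ := ht x
      refine ⟨(l ^ q)⁻¹ • Fr.b x, ?_, ?_⟩
      · rw [map_smul, key e1, smul_smul, inv_mul_cancel₀ (pow_ne_zero _ hl), one_smul]
      · rw [map_smul, hb, key e1, smul_smul, inv_mul_cancel₀ (pow_ne_zero _ hl), one_smul]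
    obtain ⟨u, hu1, hu2⟩ := e
    have e3 : H.h ((w⁻¹ * t⁻¹ * w) v) (Fr.b x) = H.h v u := by rw [← hu2, hai]
    have e4 : H.h ((t ^ q) v) (Fr.b x) = H.h v u := by rw [← hu1, hpow]
    rw [sub_eq_add_neg, H.add_left, ← neg_one_smul F ((t ^ q) v), H.smul_left, e3, e4]
    ring
  rcases hk with h0 | ⟨d, hd0, h0⟩
  · rw [h0, Submodule.mem_bot, sub_eq_zero] at h1
    exact h1
  · have hdm : d ∈ Fr.V0 := by rw [h0]; exact Submodule.mem_span_singleton_self d
    rw [h0] at h1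
    obtain ⟨c, hc⟩ := Submodule.mem_span_singleton.1 h1
    -- `(t ^ q) u = d`
    obtain ⟨u, hu, hu'⟩ : ∃ u ∈ Fr.V0, (t ^ q) u = d := by
      have h2 := map_V0 (HForm.IsIso.inv H (hpow q)) hV0 (((ht.pow q).congr (ρ := id) fun x => by simp).inv
        (ρ := id) fun _ => rfl) (fun x => ⟨x, rfl⟩) hdm
      exact ⟨_, h2, (t ^ q).apply_symm_apply d⟩
    have e3 : H.h ((w⁻¹ * t⁻¹ * w) v) d = H.h v u := by rw [← hu', ← hd u hu, hai]
    have e4 : H.h ((t ^ q) v) d = H.h v u := by rw [← hu', hpow]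
    have h3 : c * H.h d d = 0 := by
      rw [← H.smul_left, hc, sub_eq_add_neg, H.add_left, ← neg_one_smul F ((t ^ q) v), H.smul_left, e3, e4]
      ring
    rw [(mul_eq_zero.1 h3).resolve_right hd0, zero_smul] at hc
    exact (sub_eq_zero.1 hc.symm)

end Model

end Cfsg.Agent.H905.Md
end

-- part: H905/MdK
section
set_option linter.all false
open scoped Cfsg.Agent.FastGrp

/-!
# Traces of the classical groups over a Witt frame, defining characteristic (helper905)

`M : Model Fr G` of a Witt frame with anisotropic part at most a line, `φ : G → GL(ι, F)` with absolutely irreducible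
image `P`.

* `model_trace` : `a ^ (p ^ e) = a` on the field of the frame implies `tr(g) ^ (p ^ e) = tr(g)` on `P`;
* `model_inv` : `σ = (a ↦ a ^ (p ^ b))` implies `tr(g⁻¹) = tr(g) ^ (p ^ b)` on `P`.
-/

set_option autoImplicit false
set_option linter.unusedSectionVars false
set_option linter.style.haveILetI false

namespace Cfsg.Agent.H905.Md

open CoxeterSystem Cfsg.Agent.ChevalleyStructure.CoxeterGeom Cfsg.Agent.Tits.Roots Cfsg.Agent.Nodes.TypeC
open Cfsg.Agent.Nodes.Comb Cfsg.Agent.Nodes.Reps Cfsg.Agent.Nodes.WittRoot Cfsg.Agent.Nodes.BNOf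
open Cfsg.Agent.Nodes.WittRGD Cfsg.Agent.Nodes.RGDLib Cfsg.Agent.Nodes.WittAll Cfsg.Agent.Nodes
open Cfsg.Agent.TitsThree Cfsg.Agent.TitsThree.Siegel Cfsg.Agent.TitsThree.WittFrame
  Cfsg.Agent.TitsThree.WittWeyl Cfsg.Agent.TitsThree.FrameCN
open Cfsg Cfsg.Geo
open scoped MatrixGroups

theorem gg_top {I W Y : Type*} [Fintype I] [DecidableEq I] [Group W] [Group Y] {M : CoxeterMatrix I}
    {cs : CoxeterSystem M W} {A : I → I → ℤ} {h : IsCartan M A} {T : Subgroup Y}
    {X : (I → ℤ) → Subgroup Y} (hG : G1 cs h X = ⊤) : Cfsg.Agent.Nodes.Bruhat.GG cs h T X = ⊤ := by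
  rw [eq_top_iff, ← hG]
  exact le_sup_right

section Model

variable {F : Type*} [Field F] {V : Type*} [AddCommGroup V] [Module F V] {H : HForm F V} {n : ℕ}
  {Fr : Frame H (Fin n)} {K : Type*} [Group K] (M : Model Fr K) {p : ℕ}

theorem mem_modelT {t : K} : t ∈ WittModel.T M ↔
    ∃ (g : V ≃ₗ[F] V) (hg : g ∈ M.I), WittRoot.Mono Fr g id ∧ M.φ ⟨g, hg⟩ = t := by
  unfold WittModel.T
  constructor
  · rintro ⟨⟨g, hg⟩, h1, rfl⟩
    exact ⟨g, hg, (Subgroup.mem_subgroupOf.1 h1).2, rfl⟩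
  · rintro ⟨g, hg, h1, rfl⟩
    exact ⟨⟨g, hg⟩, Subgroup.mem_subgroupOf.2 ⟨hg, h1⟩, rfl⟩

variable {M} (hA : AmbT Fr p M.I) (hk : Kd Fr)
include hA hk

theorem modelT_comm : ∀ s ∈ WittModel.T M, ∀ t ∈ WittModel.T M, s * t = t * s := by
  intro s hs t ht
  obtain ⟨g, hg, h1, rfl⟩ := (mem_modelT M).1 hs
  obtain ⟨k, hk', h2, rfl⟩ := (mem_modelT M).1 ht
  rw [← map_mul, ← map_mul]
  congr 1
  exact Subtype.ext (torus_comm hA.V0 hk (hA.iso _ hg) (hA.iso _ hk') h1 h2)

theorem modelT_pow {Q : ℕ} (hQ : ∀ a : F, a ^ Q = a) : ∀ t ∈ WittModel.T M, t ^ Q = t := by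
  intro t ht
  obtain ⟨g, hg, h1, rfl⟩ := (mem_modelT M).1 ht
  rw [← map_pow]
  congr 1
  exact Subtype.ext (torus_pow hA.V0 hk hQ (hA.iso _ hg) h1)

theorem modelT_inv {q : ℕ} (hσ : ∀ a, H.σ a = a ^ q) {g : V ≃ₗ[F] V} (hg : g ∈ M.I)
    (hm : WittRoot.Mono Fr g ng) : ∀ t ∈ WittModel.T M, (M.φ ⟨g, hg⟩)⁻¹ * t⁻¹ * M.φ ⟨g, hg⟩ = t ^ q := by
  intro t ht
  obtain ⟨k, hk', h1, rfl⟩ := (mem_modelT M).1 ht
  rw [← map_pow, ← map_inv, ← map_inv, ← map_mul, ← map_mul]
  congr 1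
  exact Subtype.ext (torus_inv hA.V0 hk hσ (hA.iso _ hg) (hA.iso _ hk') hm h1)

variable {E : Type*} [Field E] {ι : Type} [Fintype ι] [DecidableEq ι] [Nonempty ι] {P : Subgroup (GL ι E)}
  [Finite V] [Finite K] [Fact p.Prime] [CharP F p] [CharP E p] (hn : 0 < n) {p0 : Fr.Adm} (hp0 : p0.c ≠ 0)
  {φ : K →* GL ι E} (hφ : φ.range = P) (hP : ActsAbsolutelyIrreducibly (matrixSet P))
include hn hp0 hφ hP

theorem model_trace {e : ℕ} (he : ∀ a : F, a ^ p ^ e = a) {g : GL ι E} (hg : g ∈ P) :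
    (g : Matrix ι ι E).trace ^ p ^ e = (g : Matrix ι ι E).trace := by
  haveI : Finite (CoxeterMatrix.B n).Group := finite_W (CoxeterMatrix.B n).toCoxeterSystem
  exact trace_pow (rgdC_model M hA hp0 (CoxeterMatrix.B n).toCoxeterSystem)
    (gg_top (WittModel.G1_eq_top M hn _)) (modelT_comm hA hk) hφ hP (modelT_pow hA hk he) hg

theorem model_inv {b : ℕ} (hσ : ∀ a, H.σ a = a ^ p ^ b) {g : GL ι E} (hg : g ∈ P) :
    ((g⁻¹ : GL ι E) : Matrix ι ι E).trace = (g : Matrix ι ι E).trace ^ p ^ b := by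
  haveI : Finite (CoxeterMatrix.B n).Group := finite_W (CoxeterMatrix.B n).toCoxeterSystem
  have R := rgdC_model M hA hp0 (CoxeterMatrix.B n).toCoxeterSystem
  obtain ⟨v, hv, k, hk', h1, h2⟩ := exists_neg M hA hp0 (cs := (CoxeterMatrix.B n).toCoxeterSystem) R.nsys
  exact trace_inv_pow R (gg_top (WittModel.G1_eq_top M hn _)) (modelT_comm hA hk) hφ hP hv h1
    (modelT_inv hA hk hσ hk' h2) hg

end Model

end Cfsg.Agent.H905.Md
end
end
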