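import Cfsg.Agent.H905.SLBasic
set_option linter.all false

/-!
`SL ι F` is contained in no member of the geometric classes (linear case), and the resulting
upgrade `H ≤ M → H = M ⊓ SL` for `H` maximal in `SL`.
-/

set_option autoImplicit false
set_option linter.unusedSectionVars false

namespace Cfsg.Agent.H905

open Matrix Cfsg

variable {ι : Type} [Fintype ι] [DecidableEq ι] {F : Type*} [Field F]

/-! ### From containment to equality -/

theorem eq_inf_of_isMaximalIn {G : Type*} [Group G] {K H M : Subgroup G}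
    (hH : Geo.IsMaximalIn K H) (hHM : H ≤ M) (hM : ¬ K ≤ M) : H = M ⊓ K := by
  rcases hH.2 (M ⊓ K) (le_inf hHM hH.1.le) inf_le_right with h | h
  · exact h.symm
  · exact absurd (h ▸ inf_le_left) hM

theorem exists_isMaximalIn_of_lt {G : Type*} [Group G] [Finite G] {K H : Subgroup G} (h : H < K) :
    ∃ M, Geo.IsMaximalIn K M ∧ H ≤ M := by
  obtain ⟨M, ⟨hHM, hMK⟩, hmax⟩ : ∃ M, (H ≤ M ∧ M < K) ∧ ∀ N, (H ≤ N ∧ N < K) → M ≤ N → N = M := by
    have hf : {M : Subgroup G | H ≤ M ∧ M < K}.Finite := Set.toFinite _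
    obtain ⟨M, hM⟩ := hf.exists_maximal ⟨H, le_rfl, h⟩
    exact ⟨M, hM.prop, fun N hN hMN => le_antisymm (hM.le_of_ge hN hMN) hMN⟩
  refine ⟨M, ⟨hMK, fun N hMN hNK => ?_⟩, hHM⟩
  rcases hNK.eq_or_lt with h1 | h1
  · exact Or.inr h1
  · exact Or.inl (hmax N ⟨hHM.trans hMN, h1⟩ hMN)

/-- Maximality, reduced to maximal overgroups. -/
theorem isMaximalIn_of_forall {G : Type*} [Group G] [Finite G] {K H : Subgroup G} (h : H < K)
    (hall : ∀ M, Geo.IsMaximalIn K M → H ≤ M → M = H) : Geo.IsMaximalIn K H := by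
  obtain ⟨M, hM, hHM⟩ := exists_isMaximalIn_of_lt h
  rw [← hall M hM hHM]
  exact hM

/-! ### Scalars -/

/-- The transvection `1 + c E_ij` as an element of `GL`. -/
noncomputable def tv {i j : ι} (h : i ≠ j) (c : F) : GL ι F :=
  (Matrix.SpecialLinearGroup.transvection h c).toGL

theorem tv_val {i j : ι} (h : i ≠ j) (c : F) :
    (tv h c : Matrix ι ι F) = 1 + Matrix.single i j c := rfl

theorem tv_mem {i j : ι} (h : i ≠ j) (c : F) : tv h c ∈ Geo.specialLinear ι F := by
  rw [← range_toGL]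
  exact ⟨_, rfl⟩

theorem tv_inv_val {i j : ι} (h : i ≠ j) (c : F) :
    ((tv h c)⁻¹ : GL ι F).val = 1 - Matrix.single i j c := by
  have h1 : (tv h c)⁻¹ = tv h (-c) := by
    unfold tv
    rw [← map_inv, Matrix.SpecialLinearGroup.transvection_inv]
  rw [h1, tv_val]
  ext a b
  by_cases ha : i = a <;> by_cases hb : j = b <;> simp [Matrix.single, ha, hb, sub_eq_add_neg]

/-- A matrix commuting with all transvections is scalar. -/
theorem exists_scalar_of_commute {M : Matrix ι ι F}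
    (h : ∀ (i j : ι), i ≠ j → Matrix.single i j (1 : F) * M = M * Matrix.single i j (1 : F)) :
    ∃ c : F, M = c • (1 : Matrix ι ι F) := by
  have h1 : M ∈ Set.range (Matrix.scalar ι) := by
    rw [Matrix.mem_range_scalar_iff_commute_single]
    intro i j hij
    exact h i j hij
  obtain ⟨c, hc⟩ := h1
  exact ⟨c, by rw [← hc]; ext a b; simp [Matrix.scalar, Matrix.diagonal, Matrix.one_apply]⟩

theorem exists_scalar_of_commute_sl {M : Matrix ι ι F}
    (h : ∀ g ∈ Geo.specialLinear ι F, (g : Matrix ι ι F) * M = M * (g : Matrix ι ι F)) :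
    ∃ c : F, M = c • (1 : Matrix ι ι F) := by
  refine exists_scalar_of_commute fun i j hij => ?_
  have h1 := h _ (tv_mem hij (1 : F))
  rw [tv_val] at h1
  simpa [add_mul, mul_add] using h1

/-! ### Subspaces: `SL` is irreducible -/

theorem mulVec_mem_iff_of_mem_subspaceStabilizer {W : Submodule F (ι → F)} {g : GL ι F}
    (hg : g ∈ Geo.subspaceStabilizer W) (v : ι → F) :
    v ∈ W ↔ (g : Matrix ι ι F) *ᵥ v ∈ W := hg v

theorem two_le_card_of_proper {W : Submodule F (ι → F)} (h0 : W ≠ ⊥) (h1 : W ≠ ⊤) :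
    2 ≤ Fintype.card ι := by
  have h2 : 0 < Module.finrank F W := by
    rw [Module.finrank_pos_iff]
    exact Submodule.nontrivial_iff_ne_bot.2 h0
  have h3 : Module.finrank F W < Module.finrank F (ι → F) :=
    Submodule.finrank_lt h1
  rw [Module.finrank_fintype_fun_eq_card] at h3
  omega

/-- The orbit of a non-zero vector of `W` leaves `W`. -/
theorem exists_sl_not_mem {W : Submodule F (ι → F)} (h0 : W ≠ ⊥) (h1 : W ≠ ⊤) :
    ∃ g ∈ Geo.specialLinear ι F, ∃ v ∈ W, (g : Matrix ι ι F) *ᵥ v ∉ W := by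
  obtain ⟨w, hw, hw0⟩ := Submodule.exists_mem_ne_zero_of_ne_bot h0
  obtain ⟨v, hv⟩ : ∃ v, v ∉ W := by
    by_contra hcon
    push Not at hcon
    exact h1 (eq_top_iff.2 fun x _ => hcon x)
  have hv0 : v ≠ 0 := fun h => hv (h ▸ W.zero_mem)
  obtain ⟨g, hg, hgw⟩ := exists_sl_vec hw0 hv0 (two_le_card_of_proper h0 h1)
  exact ⟨g, hg, w, hw, hgw ▸ hv⟩

theorem not_sl_le_subspaceStabilizer {W : Submodule F (ι → F)} (h0 : W ≠ ⊥) (h1 : W ≠ ⊤) :
    ¬ Geo.specialLinear ι F ≤ Geo.subspaceStabilizer W := by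
  intro h
  obtain ⟨g, hg, v, hv, hgv⟩ := exists_sl_not_mem h0 h1
  exact hgv ((mulVec_mem_iff_of_mem_subspaceStabilizer (h hg) v).1 hv)

theorem sl_actsIrreducibly : Geo.ActsIrreducibly (Geo.matrixSet (Geo.specialLinear ι F)) := by
  intro W hW
  by_contra hcon
  push Not at hcon
  obtain ⟨g, hg, v, hv, hgv⟩ := exists_sl_not_mem hcon.1 hcon.2
  exact hgv (hW _ ⟨g, hg, rfl⟩ ⟨v, hv, by simp [Matrix.toLin'_apply]⟩)

theorem sl_actsAbsolutelyIrreducibly :
    Geo.ActsAbsolutelyIrreducibly (Geo.matrixSet (Geo.specialLinear ι F)) := by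
  refine ⟨sl_actsIrreducibly, fun M hM => exists_scalar_of_commute_sl fun g hg => ?_⟩
  exact (hM _ ⟨g, hg, rfl⟩).symm

/-! ### Decompositions -/

theorem not_sl_le_decompositionStabilizer {t m : ℕ} {D : Fin t → Submodule F (ι → F)}
    (hD : Geo.IsMDecomposition m D) :
    ¬ Geo.specialLinear ι F ≤ Geo.decompositionStabilizer D := by
  intro h
  have ht : 2 ≤ t := hD.two_le
  let i0 : Fin t := ⟨0, by omega⟩
  let i1 : Fin t := ⟨1, by omega⟩
  have hi : i0 ≠ i1 := by simp [i0, i1, Fin.ext_iff]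
  have hne : ∀ i, D i ≠ ⊥ := by
    intro i hi
    have h1 := hD.finrank_eq i
    rw [hi, finrank_bot] at h1
    have := hD.pos
    omega
  obtain ⟨v, hv, hv0⟩ := Submodule.exists_mem_ne_zero_of_ne_bot (hne i0)
  obtain ⟨w, hw, hw0⟩ := Submodule.exists_mem_ne_zero_of_ne_bot (hne i1)
  have hdis : ∀ i j, i ≠ j → Disjoint (D i) (D j) := fun i j hij => hD.indep.pairwiseDisjoint hij
  -- `v + w` lies in no member
  have hvw : ∀ i, v + w ∉ D i := by
    intro i hmem
    by_cases h0 : i = i0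
    · subst h0
      have h2 : w ∈ D i0 := by
        have := (D i0).sub_mem hmem hv
        simpa using this
      exact hw0 ((Submodule.disjoint_def.1 (hdis _ _ hi)) w h2 hw)
    · have h1 := hD.indep i
      have h2 : v ∈ ⨆ (j) (_ : j ≠ i), D j :=
        Submodule.mem_iSup_of_mem i0 (Submodule.mem_iSup_of_mem (Ne.symm h0) hv)
      by_cases h3 : i = i1
      · subst h3
        have h4 : v ∈ D i1 := by
          have := (D i1).sub_mem hmem hw
          simpa using this
        exact hv0 ((Submodule.disjoint_def.1 (hdis _ _ hi)) v hv h4)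
      · have h4 : w ∈ ⨆ (j) (_ : j ≠ i), D j :=
          Submodule.mem_iSup_of_mem i1 (Submodule.mem_iSup_of_mem (Ne.symm h3) hw)
        have h5 : v + w = 0 := Submodule.disjoint_def.1 h1 _ hmem (add_mem h2 h4)
        have h6 : w ∈ D i0 := by
          rw [eq_neg_of_add_eq_zero_right h5]
          exact (D i0).neg_mem hv
        exact hw0 ((Submodule.disjoint_def.1 (hdis _ _ hi)) w h6 hw)
  have hvw0 : v + w ≠ 0 := fun h0 => hvw i0 (h0 ▸ (D i0).zero_mem)
  have hcard : 2 ≤ Fintype.card ι := by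
    refine two_le_card_of_proper (hne i0) fun htop => ?_
    exact hvw i0 (htop ▸ Submodule.mem_top)
  obtain ⟨g, hg, hgv⟩ := exists_sl_vec hv0 hvw0 hcard
  obtain ⟨σ, hσ⟩ := h hg
  refine hvw (σ i0) ?_
  rw [← hσ i0, ← hgv]
  exact ⟨v, hv, by simp [Matrix.toLin'_apply]⟩

/-! ### Field subalgebras -/

theorem subalgebra_le_bot_of_sl_normalizes (hn : 3 ≤ Fintype.card ι)
    {K : Subalgebra F (Matrix ι ι F)} (hinv : ∀ x ∈ K, x ≠ 0 → ∃ y ∈ K, x * y = 1)
    (h : Geo.specialLinear ι F ≤ Geo.subalgebraNormalizer K) :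
    ∀ k ∈ K, ∃ c : F, k = c • (1 : Matrix ι ι F) := by
  intro k hk
  refine exists_scalar_of_commute fun i j hij => ?_
  set N : Matrix ι ι F := Matrix.single i j (1 : F) with hN
  have hNN : N * N = 0 := by
    rw [hN, Matrix.single_mul_single_of_ne _ _ _ _ hij.symm]
  have h1 := (h (tv_mem hij (1 : F)) k).1 hk
  rw [tv_val, tv_inv_val, ← hN] at h1
  have h2 : (1 + N) * k * (1 - N) - k ∈ K := K.sub_mem h1 hk
  have hM : (1 + N) * k * (1 - N) - k = 0 := by
    by_contra hne
    obtain ⟨y, -, hy⟩ := hinv _ h2 hne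
    -- a common kernel vector
    let φ : (ι → F) →ₗ[F] (Fin 2 → F) :=
      LinearMap.pi ![LinearMap.proj j, (LinearMap.proj j).comp (Matrix.toLin' k)]
    have hker : LinearMap.ker φ ≠ ⊥ := by
      intro hbot
      have h3 := LinearMap.finrank_le_finrank_of_injective (LinearMap.ker_eq_bot.1 hbot)
      rw [Module.finrank_fintype_fun_eq_card, Module.finrank_fintype_fun_eq_card] at h3
      simp at h3
      omega
    obtain ⟨v, hv, hv0⟩ := Submodule.exists_mem_ne_zero_of_ne_bot hker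
    have hv1 : v j = 0 := congrFun (LinearMap.mem_ker.1 hv) 0
    have hv2 : (k *ᵥ v) j = 0 := congrFun (LinearMap.mem_ker.1 hv) 1
    have hNv : ∀ u : ι → F, u j = 0 → N *ᵥ u = 0 := by
      intro u hu
      rw [hN, Matrix.single_mulVec_eq, hu]
      simp
    have h4 : ((1 + N) * k * (1 - N) - k) *ᵥ v = 0 := by
      rw [Matrix.sub_mulVec, ← Matrix.mulVec_mulVec, ← Matrix.mulVec_mulVec, Matrix.sub_mulVec,
        Matrix.one_mulVec, hNv v hv1, sub_zero, Matrix.add_mulVec, Matrix.one_mulVec,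
        hNv _ hv2, add_zero, sub_self]
    have h5 : y * ((1 + N) * k * (1 - N) - k) = 1 := by
      exact mul_eq_one_comm.1 hy
    have h6 : v = 0 := by
      rw [← Matrix.one_mulVec v, ← h5, ← Matrix.mulVec_mulVec, h4, Matrix.mulVec_zero]
    exact hv0 h6
  -- conclude commutation
  have h7 : N * k - k * N - N * k * N = 0 := by
    rw [← hM]; noncomm_ring
  have h8 : N * k * N = 0 := by
    have h9 : N * (N * k - k * N - N * k * N) = 0 := by rw [h7, mul_zero]
    have h10 : N * (N * k - k * N - N * k * N) = N * N * k - N * k * N - N * N * k * N := by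
      noncomm_ring
    rw [h10, hNN] at h9
    simp only [zero_mul, zero_sub, sub_zero, neg_eq_zero] at h9
    exact h9
  rw [h8, sub_zero] at h7
  exact sub_eq_zero.1 h7

theorem not_sl_le_subalgebraNormalizer (hn : 3 ≤ Fintype.card ι) {r : ℕ} (hr : 2 ≤ r)
    {K : Subalgebra F (Matrix ι ι F)} (hK : Geo.IsFieldSubalgebra r K) :
    ¬ Geo.specialLinear ι F ≤ Geo.subalgebraNormalizer K := by
  intro h
  have h1 := subalgebra_le_bot_of_sl_normalizes hn hK.inv h
  have h2 : K = ⊥ := by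
    rw [eq_bot_iff]
    intro k hk
    obtain ⟨c, hc⟩ := h1 k hk
    rw [Algebra.mem_bot]
    exact ⟨c, by rw [hc, Algebra.algebraMap_eq_smul_one]⟩
  have h3 := hK.finrank_eq
  have : Nonempty ι := Fintype.card_pos_iff.1 (by omega)
  rw [h2, Subalgebra.finrank_bot] at h3
  omega

end Cfsg.Agent.H905
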