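import Cfsg.Prelude.Def_GeometricClasses
import Cfsg.Agent.LieClassical.SLGen
set_option linter.all false

/-!
Basic facts on `Geo.specialLinear ι F` inside `GL ι F` (any field unless said otherwise):
transitivity on linearly independent families, irreducibility, perfectness.
-/

set_option autoImplicit false

namespace Cfsg.Agent.H905

open Matrix Cfsg

variable {ι : Type} [Fintype ι] [DecidableEq ι] {F : Type*} [Field F]

theorem mem_sl_iff (g : GL ι F) : g ∈ Geo.specialLinear ι F ↔ (g : Matrix ι ι F).det = 1 := by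
  unfold Geo.specialLinear
  rw [MonoidHom.mem_ker, ← Units.val_inj]
  simp [Matrix.GeneralLinearGroup.val_det_apply]

/-- The element of `GL ι F` given by a linear automorphism of `ι → F`. -/
noncomputable def glOf (e : (ι → F) ≃ₗ[F] (ι → F)) : GL ι F where
  val := LinearMap.toMatrix' (e : (ι → F) →ₗ[F] (ι → F))
  inv := LinearMap.toMatrix' (e.symm : (ι → F) →ₗ[F] (ι → F))
  val_inv := by
    rw [← LinearMap.toMatrix'_mul, ← LinearMap.toMatrix'_one (R := F) (n := ι)]
    congr 1
    refine LinearMap.ext fun x => ?_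
    exact e.apply_symm_apply x
  inv_val := by
    rw [← LinearMap.toMatrix'_mul, ← LinearMap.toMatrix'_one (R := F) (n := ι)]
    congr 1
    refine LinearMap.ext fun x => ?_
    exact e.symm_apply_apply x

theorem glOf_mulVec (e : (ι → F) ≃ₗ[F] (ι → F)) (v : ι → F) :
    (glOf e : Matrix ι ι F) *ᵥ v = e v := by
  change LinearMap.toMatrix' (e : (ι → F) →ₗ[F] (ι → F)) *ᵥ v = e v
  rw [← Matrix.toLin'_apply, Matrix.toLin'_toMatrix']
  rfl

theorem glOf_det (e : (ι → F) ≃ₗ[F] (ι → F)) :
    (glOf e : Matrix ι ι F).det = LinearMap.det (e : (ι → F) →ₗ[F] (ι → F)) := by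
  change (LinearMap.toMatrix' (e : (ι → F) →ₗ[F] (ι → F))).det = _
  rw [LinearMap.det_toMatrix']

/-- A linear isomorphism onto a proper subspace extends to an element of `SL`. -/
theorem exists_sl_extend (W W' : Submodule F (ι → F)) (f : W ≃ₗ[F] W') (hW' : W' ≠ ⊤) :
    ∃ g ∈ Geo.specialLinear ι F, ∀ w : W, (g : Matrix ι ι F) *ᵥ (w : ι → F) = f w := by
  obtain ⟨e, he⟩ := Submodule.exists_linearEquiv_restrict_eq f
  -- a functional vanishing on W' and a vector w with value one
  obtain ⟨φ, hφ0, hφ⟩ := Submodule.exists_le_ker_of_lt_top W' (lt_top_iff_ne_top.2 hW')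
  obtain ⟨w, hw⟩ : ∃ w, φ w = 1 := by
    obtain ⟨x, hx⟩ : ∃ x, φ x ≠ 0 := by
      by_contra hcon
      push Not at hcon
      exact hφ0 (LinearMap.ext hcon)
    exact ⟨(φ x)⁻¹ • x, by simp [hx]⟩
  set d : F := (LinearMap.det (e : (ι → F) →ₗ[F] (ι → F)))⁻¹ with hd
  have hdet : LinearMap.det (e : (ι → F) →ₗ[F] (ι → F)) ≠ 0 := e.isUnit_det'.ne_zero
  have hd0 : d ≠ 0 := inv_ne_zero hdet
  have hu : IsUnit (1 + φ ((d - 1) • w)) := by
    simp [hw, hd0]
  let s : (ι → F) ≃ₗ[F] (ι → F) := LinearEquiv.dilatransvection hu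
  refine ⟨glOf (e ≪≫ₗ s), ?_, ?_⟩
  · rw [mem_sl_iff, glOf_det]
    have h1 : ((e ≪≫ₗ s : (ι → F) ≃ₗ[F] (ι → F)) : (ι → F) →ₗ[F] (ι → F)) =
        (s : (ι → F) →ₗ[F] (ι → F)) ∘ₗ (e : (ι → F) →ₗ[F] (ι → F)) := rfl
    rw [h1, LinearMap.det_comp]
    have h2 : (s : (ι → F) →ₗ[F] (ι → F)) = LinearMap.transvection φ ((d - 1) • w) :=
      LinearEquiv.dilatransvection.coe_toLinearMap
    rw [h2, LinearMap.transvection.det]
    simp [hw, hd, hdet]
  · intro x
    rw [glOf_mulVec]
    change s (e x) = _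
    have h1 : e x = f x := by
      exact (he x).symm
    rw [h1]
    have h2 : (s : (ι → F) →ₗ[F] (ι → F)) = LinearMap.transvection φ ((d - 1) • w) :=
      LinearEquiv.dilatransvection.coe_toLinearMap
    have h3 : s (f x : ι → F) = (LinearMap.transvection φ ((d - 1) • w)) (f x : ι → F) := by
      rw [← h2]; rfl
    rw [h3, LinearMap.transvection.apply]
    have h4 : φ (f x : ι → F) = 0 := hφ (f x).2
    rw [h4]
    simp

/-- `SL` is transitive on linearly independent families of fewer than `card ι` vectors. -/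
theorem exists_sl_family {κ : Type*} [Finite κ] (v w : κ → (ι → F)) (hv : LinearIndependent F v)
    (hw : LinearIndependent F w) (hk : Nat.card κ < Fintype.card ι) :
    ∃ g ∈ Geo.specialLinear ι F, ∀ i, (g : Matrix ι ι F) *ᵥ v i = w i := by
  let f : Submodule.span F (Set.range v) ≃ₗ[F] Submodule.span F (Set.range w) :=
    hv.linearCombinationEquiv.symm ≪≫ₗ hw.linearCombinationEquiv
  have hne : Submodule.span F (Set.range w) ≠ ⊤ := by
    intro h
    have h1 : Module.finrank F (Submodule.span F (Set.range w)) ≤ Nat.card κ := by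
      have : Fintype κ := Fintype.ofFinite κ
      rw [Nat.card_eq_fintype_card]
      exact finrank_range_le_card w
    rw [h, finrank_top, Module.finrank_fintype_fun_eq_card] at h1
    omega
  obtain ⟨g, hg, hgf⟩ := exists_sl_extend _ _ f hne
  refine ⟨g, hg, fun i => ?_⟩
  have h1 := hgf ⟨v i, Submodule.subset_span ⟨i, rfl⟩⟩
  rw [h1]
  have h2 : hv.linearCombinationEquiv.symm ⟨v i, Submodule.subset_span ⟨i, rfl⟩⟩ =
      Finsupp.single i 1 := by
    rw [LinearEquiv.symm_apply_eq]
    ext : 1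
    simp
  change ((hw.linearCombinationEquiv (hv.linearCombinationEquiv.symm
    ⟨v i, Submodule.subset_span ⟨i, rfl⟩⟩) : Submodule.span F (Set.range w)) : ι → F) = w i
  rw [h2]
  simp

/-- `SL` is transitive on non-zero vectors. -/
theorem exists_sl_vec {a b : ι → F} (ha : a ≠ 0) (hb : b ≠ 0) (hn : 2 ≤ Fintype.card ι) :
    ∃ g ∈ Geo.specialLinear ι F, (g : Matrix ι ι F) *ᵥ a = b := by
  obtain ⟨g, hg, h⟩ := exists_sl_family (F := F) (κ := Unit) (fun _ => a) (fun _ => b)
    (LinearIndependent.of_subsingleton () ha) (LinearIndependent.of_subsingleton () hb)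
    (by simp; omega)
  exact ⟨g, hg, h ()⟩

/-- `SL` is transitive on pairs of linearly independent vectors when `3 ≤ card ι`. -/
theorem exists_sl_pair {a b a' b' : ι → F} (h : LinearIndependent F ![a, b])
    (h' : LinearIndependent F ![a', b']) (hn : 3 ≤ Fintype.card ι) :
    ∃ g ∈ Geo.specialLinear ι F, (g : Matrix ι ι F) *ᵥ a = a' ∧ (g : Matrix ι ι F) *ᵥ b = b' := by
  obtain ⟨g, hg, h1⟩ := exists_sl_family (F := F) ![a, b] ![a', b'] h h' (by simp; omega)
  exact ⟨g, hg, by simpa using h1 0, by simpa using h1 1⟩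

/-- The inclusion of `SL` (Mathlib) has range `Geo.specialLinear`. -/
theorem range_toGL : (Matrix.SpecialLinearGroup.toGL (n := ι) (R := F)).range =
    Geo.specialLinear ι F := by
  ext g
  rw [mem_sl_iff]
  constructor
  · rintro ⟨s, rfl⟩
    exact s.2
  · intro h
    exact ⟨⟨(g : Matrix ι ι F), h⟩, Units.ext rfl⟩

/-- `SL` is perfect for `3 ≤ card ι`. -/
theorem sl_perfect (hn : 3 ≤ Fintype.card ι) :
    ⁅Geo.specialLinear ι F, Geo.specialLinear ι F⁆ = Geo.specialLinear ι F := by
  rw [← range_toGL, MonoidHom.range_eq_map, ← Subgroup.map_commutator]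
  congr 1
  exact Cfsg.Agent.LieClassical.SLGen.commutator_eq_top hn

/-- A homomorphism-like consequence of perfectness: a subgroup containing all commutators of `SL`
contains `SL`. -/
theorem sl_le_of_commutator_le (hn : 3 ≤ Fintype.card ι) {A B : Subgroup (GL ι F)}
    (hA : Geo.specialLinear ι F ≤ A) (hB : ⁅A, A⁆ ≤ B) : Geo.specialLinear ι F ≤ B := by
  rw [← sl_perfect hn]
  exact (Subgroup.commutator_mono hA hA).trans hB

end Cfsg.Agent.H905
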