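import Cfsg.Agent.H4.JT.Words
import Cfsg.Agent.H1.TJ2
import Mathlib
import Cfsg.Agent.FastGrp
import Cfsg.Agent.Prune
set_option linter.all false

section
prune_inst 0x7f00000000000000000000000000000000000000000000000000000000000000000000000000000000000000000000000000000000000000000000000000000000000000000000000000000000000000003fffffffffffffffffffffffffffbeffbdffffffff

-- part: H905/JDWords
section
set_option linter.all false
open scoped Cfsg.Agent.FastGrp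

/-!
# Words in the double cover of the Hall-Janko group (helper905)

`r1 r2 r3` : the reflections of the frame; `nn` : a rotation of the frame; `tt'`, `Ii`, `Jj` : elements of the
extraspecial group `Q₁` acting trivially on the first line; `om` of order three; `GG`, `xx`, `yy` in the centraliser of
`r1`. All relations used in `H905/JDRep`; `gen` : generation of `W`.
-/

set_option autoImplicit false
set_option maxRecDepth 100000
set_option linter.unusedSimpArgs false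

namespace Cfsg.Agent.H905.JD

open Subgroup Cfsg.Spor Cfsg.Agent.J2.ZTau Cfsg.Agent.J2.Ico Cfsg.Agent.J2.Lattice Cfsg.Agent.J2.Refl
  Cfsg.Agent.J2.Group Cfsg.Agent.J2.Stab Cfsg.Agent.J2.SixGens Cfsg.Agent.H1.J2Lift

private theorem rb_app (L M : List Vec) : rootsB (L ++ M) = (rootsB L && rootsB M) := List.all_append

private theorem rb_rev (L : List Vec) : rootsB L.reverse = rootsB L := List.all_reverse

private theorem rb_nil : rootsB [] = true := rfl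


/-- a root -/
def v59 : Vec := ⟨⟨⟨0, 0⟩, ⟨0, 0⟩, ⟨0, 0⟩, ⟨0, 0⟩⟩, ⟨⟨1, 0⟩, ⟨1, 0⟩, ⟨0, 0⟩, ⟨0, 0⟩⟩, ⟨⟨1, 0⟩, ⟨1, 0⟩, ⟨0, 0⟩, ⟨0, 0⟩⟩⟩
/-- a root -/
def v273 : Vec := ⟨⟨⟨1, 0⟩, ⟨1, 0⟩, ⟨0, 0⟩, ⟨0, 0⟩⟩, ⟨⟨0, 0⟩, ⟨0, 0⟩, ⟨0, 0⟩, ⟨0, 0⟩⟩, ⟨⟨1, 0⟩, ⟨1, 0⟩, ⟨0, 0⟩, ⟨0, 0⟩⟩⟩
/-- a root -/
def v8 : Vec := ⟨⟨⟨0, 0⟩, ⟨0, 0⟩, ⟨0, 0⟩, ⟨0, 0⟩⟩, ⟨⟨1, 0⟩, ⟨1, 0⟩, ⟨0, 0⟩, ⟨0, 0⟩⟩, ⟨⟨3, -2⟩, ⟨1, 0⟩, ⟨-2, 2⟩, ⟨2, -2⟩⟩⟩
/-- a root -/
def v88 : Vec := ⟨⟨⟨0, 0⟩, ⟨0, 0⟩, ⟨0, 0⟩, ⟨0, 0⟩⟩, ⟨⟨1, 0⟩, ⟨-3, 2⟩, ⟨2, -2⟩, ⟨2, -2⟩⟩, ⟨⟨1, 0⟩, ⟨1, 0⟩, ⟨0, 0⟩, ⟨0, 0⟩⟩⟩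
/-- a root -/
def v2 : Vec := ⟨⟨⟨0, 0⟩, ⟨0, 0⟩, ⟨0, 0⟩, ⟨0, 0⟩⟩, ⟨⟨-1, 0⟩, ⟨1, 0⟩, ⟨0, 0⟩, ⟨0, 0⟩⟩, ⟨⟨1, 0⟩, ⟨1, 0⟩, ⟨0, 0⟩, ⟨0, 0⟩⟩⟩
/-- a root -/
def v41 : Vec := ⟨⟨⟨0, 0⟩, ⟨0, 0⟩, ⟨0, 0⟩, ⟨0, 0⟩⟩, ⟨⟨3, -2⟩, ⟨1, 0⟩, ⟨-2, 2⟩, ⟨2, -2⟩⟩, ⟨⟨1, 0⟩, ⟨1, 0⟩, ⟨0, 0⟩, ⟨0, 0⟩⟩⟩
/-- a root -/
def v80 : Vec := ⟨⟨⟨0, 0⟩, ⟨1, 0⟩, ⟨0, 0⟩, ⟨0, 0⟩⟩, ⟨⟨0, 0⟩, ⟨1, 0⟩, ⟨0, 0⟩, ⟨0, 0⟩⟩, ⟨⟨1, 0⟩, ⟨-1, 0⟩, ⟨1, -1⟩, ⟨1, -1⟩⟩⟩
/-- a root -/
def v312 : Vec := ⟨⟨⟨1, 0⟩, ⟨0, 0⟩, ⟨0, 0⟩, ⟨0, 0⟩⟩, ⟨⟨1, 0⟩, ⟨1, 0⟩, ⟨-1, 1⟩, ⟨1, -1⟩⟩, ⟨⟨1, 0⟩, ⟨0, 0⟩, ⟨0, 0⟩, ⟨0, 0⟩⟩⟩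
/-- a root -/
def v26 : Vec := ⟨⟨⟨2, -1⟩, ⟨0, 0⟩, ⟨-1, 0⟩, ⟨2, -1⟩⟩, ⟨⟨1, -1⟩, ⟨0, 0⟩, ⟨0, 1⟩, ⟨1, 0⟩⟩, ⟨⟨0, 0⟩, ⟨0, 0⟩, ⟨0, 0⟩, ⟨1, -1⟩⟩⟩
/-- a root -/
def v27 : Vec := ⟨⟨⟨0, 0⟩, ⟨2, -2⟩, ⟨-3, 1⟩, ⟨-1, 1⟩⟩, ⟨⟨0, 0⟩, ⟨1, 0⟩, ⟨0, 0⟩, ⟨0, 0⟩⟩, ⟨⟨1, 0⟩, ⟨0, 0⟩, ⟨0, 0⟩, ⟨0, 0⟩⟩⟩
/-- a root -/
def v214 : Vec := ⟨⟨⟨-2, 2⟩, ⟨0, 0⟩, ⟨1, -1⟩, ⟨-3, 1⟩⟩, ⟨⟨0, 0⟩, ⟨1, 0⟩, ⟨0, 0⟩, ⟨0, 0⟩⟩, ⟨⟨1, 0⟩, ⟨0, 0⟩, ⟨0, 0⟩, ⟨0, 0⟩⟩⟩
/-- a root -/
def v233 : Vec := ⟨⟨⟨1, 0⟩, ⟨3, -2⟩, ⟨-3, 1⟩, ⟨-1, 1⟩⟩, ⟨⟨0, 0⟩, ⟨1, 0⟩, ⟨0, 0⟩, ⟨0, 0⟩⟩, ⟨⟨0, 0⟩, ⟨-1, 0⟩, ⟨0, 0⟩, ⟨0, 0⟩⟩⟩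
/-- a root -/
def v275 : Vec := ⟨⟨⟨1, 0⟩, ⟨3, -2⟩, ⟨-3, 1⟩, ⟨-1, 1⟩⟩, ⟨⟨-1, 0⟩, ⟨0, 0⟩, ⟨0, 0⟩, ⟨0, 0⟩⟩, ⟨⟨1, 0⟩, ⟨0, 0⟩, ⟨0, 0⟩, ⟨0, 0⟩⟩⟩
/-- a root -/
def v3 : Vec := ⟨⟨⟨-1, 1⟩, ⟨0, 0⟩, ⟨1, 0⟩, ⟨0, 0⟩⟩, ⟨⟨0, 0⟩, ⟨-1, 0⟩, ⟨0, 0⟩, ⟨1, 0⟩⟩, ⟨⟨-2, 2⟩, ⟨0, 0⟩, ⟨1, -1⟩, ⟨-2, 1⟩⟩⟩
/-- a root -/
def v4 : Vec := ⟨⟨⟨-1, 1⟩, ⟨0, 0⟩, ⟨1, 0⟩, ⟨0, 0⟩⟩, ⟨⟨2, -2⟩, ⟨0, 0⟩, ⟨-1, 1⟩, ⟨2, -1⟩⟩, ⟨⟨0, 0⟩, ⟨-1, 0⟩, ⟨0, 0⟩, ⟨1, 0⟩⟩⟩
/-- a root -/
def v171 : Vec := ⟨⟨⟨0, 1⟩, ⟨1, -1⟩, ⟨-1, 0⟩, ⟨0, 0⟩⟩, ⟨⟨1, -1⟩, ⟨0, 0⟩, ⟨0, 0⟩, ⟨1, 0⟩⟩, ⟨⟨0, 0⟩, ⟨2, -2⟩, ⟨-2, 1⟩, ⟨-1, 1⟩⟩⟩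
/-- a root -/
def v243 : Vec := ⟨⟨⟨-1, 0⟩, ⟨0, 0⟩, ⟨0, 1⟩, ⟨-1, 1⟩⟩, ⟨⟨1, 0⟩, ⟨-2, 1⟩, ⟨1, -1⟩, ⟨2, -1⟩⟩, ⟨⟨0, 0⟩, ⟨0, 0⟩, ⟨1, 0⟩, ⟨0, 0⟩⟩⟩

/-- rotation of the frame -/
def wN : List Vec := [v59, v273]
/-- swaps the second and the third line -/
def wT : List Vec := [v59]
/-- the first quaternion unit -/
def wI : List Vec := [v8, v88]
/-- the second quaternion unit -/
def wJ : List Vec := [v2, v41]
/-- an element of order three -/
def wC : List Vec := [v80, v312, v26, e1]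
/-- an element of the centraliser of `r1` -/
def wG : List Vec := [v27, v214, v8]
/-- an element of the centraliser of `r1` -/
def wx : List Vec := [v233, v275]
/-- an element of the centraliser of `r1` -/
def wy : List Vec := [v3, v4, v171, v243]

/-- the first reflection of the frame -/
noncomputable def r1 : W := wd [e1]
/-- the second reflection of the frame -/
noncomputable def r2 : W := wd [e2]
/-- the third reflection of the frame -/
noncomputable def r3 : W := wd [e3]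
/-- rotation of the frame -/
noncomputable def nn : W := wd wN
/-- swaps the second and the third line -/
noncomputable def sw : W := wd wT
/-- the first quaternion unit -/
noncomputable def Ii : W := wd wI
/-- the second quaternion unit -/
noncomputable def Jj : W := wd wJ
/-- an element of order three -/
noncomputable def om : W := wd wC
/-- an element of the centraliser of `r1` -/
noncomputable def gg : W := wd wG
/-- an element of the centraliser of `r1` -/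
noncomputable def xx : W := wd wx
/-- an element of the centraliser of `r1` -/
noncomputable def yy : W := wd wy
/-- the quaternion units for the second line -/
noncomputable def I2 : W := nn * Ii * nn⁻¹
/-- the quaternion units for the second line -/
noncomputable def J2' : W := nn * Jj * nn⁻¹
/-- the quaternion units for the third line -/
noncomputable def I3 : W := nn⁻¹ * Ii * nn
/-- the quaternion units for the third line -/
noncomputable def J3' : W := nn⁻¹ * Jj * nn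


private theorem rb : rootsB [e1] = true ∧ rootsB [e2] = true ∧ rootsB [e3] = true ∧ rootsB wN = true ∧ rootsB wT = true ∧
    rootsB wI = true ∧ rootsB wJ = true ∧ rootsB wC = true ∧ rootsB wG = true ∧ rootsB wx = true ∧ rootsB wy = true := by
  decide +kernel

theorem q_12 : r1 * r2 = r2 * r1 := by
  simp only [r1, r2, r3, nn, sw, Ii, Jj, om, gg, xx, yy, I2, J2', I3, J3', ← wd_append, ← wd_reverse]
  exact wd_eq (H1.J2Words.chk_j2fq (by simp only [rb_app, rb_rev, rb_nil, rb, Bool.and_self]) (by decide +kernel))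
theorem q_13 : r1 * r3 = r3 * r1 := by
  simp only [r1, r2, r3, nn, sw, Ii, Jj, om, gg, xx, yy, I2, J2', I3, J3', ← wd_append, ← wd_reverse]
  exact wd_eq (H1.J2Words.chk_j2fq (by simp only [rb_app, rb_rev, rb_nil, rb, Bool.and_self]) (by decide +kernel))
theorem q_23 : r2 * r3 = r3 * r2 := by
  simp only [r1, r2, r3, nn, sw, Ii, Jj, om, gg, xx, yy, I2, J2', I3, J3', ← wd_append, ← wd_reverse]
  exact wd_eq (H1.J2Words.chk_j2fq (by simp only [rb_app, rb_rev, rb_nil, rb, Bool.and_self]) (by decide +kernel))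
theorem q_n1 : nn * r1 = r2 * nn := by
  simp only [r1, r2, r3, nn, sw, Ii, Jj, om, gg, xx, yy, I2, J2', I3, J3', ← wd_append, ← wd_reverse]
  exact wd_eq (H1.J2Words.chk_j2fq (by simp only [rb_app, rb_rev, rb_nil, rb, Bool.and_self]) (by decide +kernel))
theorem q_n2 : nn * r2 = r3 * nn := by
  simp only [r1, r2, r3, nn, sw, Ii, Jj, om, gg, xx, yy, I2, J2', I3, J3', ← wd_append, ← wd_reverse]
  exact wd_eq (H1.J2Words.chk_j2fq (by simp only [rb_app, rb_rev, rb_nil, rb, Bool.and_self]) (by decide +kernel))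
theorem q_n3 : nn * r3 = r1 * nn := by
  simp only [r1, r2, r3, nn, sw, Ii, Jj, om, gg, xx, yy, I2, J2', I3, J3', ← wd_append, ← wd_reverse]
  exact wd_eq (H1.J2Words.chk_j2fq (by simp only [rb_app, rb_rev, rb_nil, rb, Bool.and_self]) (by decide +kernel))
theorem q_t1 : sw * r1 = r1 * sw := by
  simp only [r1, r2, r3, nn, sw, Ii, Jj, om, gg, xx, yy, I2, J2', I3, J3', ← wd_append, ← wd_reverse]
  exact wd_eq (H1.J2Words.chk_j2fq (by simp only [rb_app, rb_rev, rb_nil, rb, Bool.and_self]) (by decide +kernel))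
theorem q_t2 : sw * r2 = r3 * sw := by
  simp only [r1, r2, r3, nn, sw, Ii, Jj, om, gg, xx, yy, I2, J2', I3, J3', ← wd_append, ← wd_reverse]
  exact wd_eq (H1.J2Words.chk_j2fq (by simp only [rb_app, rb_rev, rb_nil, rb, Bool.and_self]) (by decide +kernel))
theorem q_I1 : Ii * r1 = r1 * Ii := by
  simp only [r1, r2, r3, nn, sw, Ii, Jj, om, gg, xx, yy, I2, J2', I3, J3', ← wd_append, ← wd_reverse]
  exact wd_eq (H1.J2Words.chk_j2fq (by simp only [rb_app, rb_rev, rb_nil, rb, Bool.and_self]) (by decide +kernel))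
theorem q_I2 : Ii * r2 = r2 * Ii := by
  simp only [r1, r2, r3, nn, sw, Ii, Jj, om, gg, xx, yy, I2, J2', I3, J3', ← wd_append, ← wd_reverse]
  exact wd_eq (H1.J2Words.chk_j2fq (by simp only [rb_app, rb_rev, rb_nil, rb, Bool.and_self]) (by decide +kernel))
theorem q_J1 : Jj * r1 = r1 * Jj := by
  simp only [r1, r2, r3, nn, sw, Ii, Jj, om, gg, xx, yy, I2, J2', I3, J3', ← wd_append, ← wd_reverse]
  exact wd_eq (H1.J2Words.chk_j2fq (by simp only [rb_app, rb_rev, rb_nil, rb, Bool.and_self]) (by decide +kernel))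
theorem q_J2 : Jj * r2 = r2 * Jj := by
  simp only [r1, r2, r3, nn, sw, Ii, Jj, om, gg, xx, yy, I2, J2', I3, J3', ← wd_append, ← wd_reverse]
  exact wd_eq (H1.J2Words.chk_j2fq (by simp only [rb_app, rb_rev, rb_nil, rb, Bool.and_self]) (by decide +kernel))
theorem q_II : Ii * Ii = r2 * r3 := by
  simp only [r1, r2, r3, nn, sw, Ii, Jj, om, gg, xx, yy, I2, J2', I3, J3', ← wd_append, ← wd_reverse]
  exact wd_eq (H1.J2Words.chk_j2fq (by simp only [rb_app, rb_rev, rb_nil, rb, Bool.and_self]) (by decide +kernel))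
theorem q_JJ : Jj * Jj = r2 * r3 := by
  simp only [r1, r2, r3, nn, sw, Ii, Jj, om, gg, xx, yy, I2, J2', I3, J3', ← wd_append, ← wd_reverse]
  exact wd_eq (H1.J2Words.chk_j2fq (by simp only [rb_app, rb_rev, rb_nil, rb, Bool.and_self]) (by decide +kernel))
theorem q_IJ : Ii * Jj = r2 * r3 * Jj * Ii := by
  simp only [r1, r2, r3, nn, sw, Ii, Jj, om, gg, xx, yy, I2, J2', I3, J3', ← wd_append, ← wd_reverse]
  exact wd_eq (H1.J2Words.chk_j2fq (by simp only [rb_app, rb_rev, rb_nil, rb, Bool.and_self]) (by decide +kernel))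
theorem q_tI : sw * Ii = Ii * sw := by
  simp only [r1, r2, r3, nn, sw, Ii, Jj, om, gg, xx, yy, I2, J2', I3, J3', ← wd_append, ← wd_reverse]
  exact wd_eq (H1.J2Words.chk_j2fq (by simp only [rb_app, rb_rev, rb_nil, rb, Bool.and_self]) (by decide +kernel))
theorem q_tJ : sw * Jj = Jj * sw := by
  simp only [r1, r2, r3, nn, sw, Ii, Jj, om, gg, xx, yy, I2, J2', I3, J3', ← wd_append, ← wd_reverse]
  exact wd_eq (H1.J2Words.chk_j2fq (by simp only [rb_app, rb_rev, rb_nil, rb, Bool.and_self]) (by decide +kernel))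
theorem q_i1 : I2 * r1 = r1 * I2 := by
  simp only [r1, r2, r3, nn, sw, Ii, Jj, om, gg, xx, yy, I2, J2', I3, J3', ← wd_append, ← wd_reverse]
  exact wd_eq (H1.J2Words.chk_j2fq (by simp only [rb_app, rb_rev, rb_nil, rb, Bool.and_self]) (by decide +kernel))
theorem q_i2 : I2 * r2 = r2 * I2 := by
  simp only [r1, r2, r3, nn, sw, Ii, Jj, om, gg, xx, yy, I2, J2', I3, J3', ← wd_append, ← wd_reverse]
  exact wd_eq (H1.J2Words.chk_j2fq (by simp only [rb_app, rb_rev, rb_nil, rb, Bool.and_self]) (by decide +kernel))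
theorem q_j1 : J2' * r1 = r1 * J2' := by
  simp only [r1, r2, r3, nn, sw, Ii, Jj, om, gg, xx, yy, I2, J2', I3, J3', ← wd_append, ← wd_reverse]
  exact wd_eq (H1.J2Words.chk_j2fq (by simp only [rb_app, rb_rev, rb_nil, rb, Bool.and_self]) (by decide +kernel))
theorem q_j2 : J2' * r2 = r2 * J2' := by
  simp only [r1, r2, r3, nn, sw, Ii, Jj, om, gg, xx, yy, I2, J2', I3, J3', ← wd_append, ← wd_reverse]
  exact wd_eq (H1.J2Words.chk_j2fq (by simp only [rb_app, rb_rev, rb_nil, rb, Bool.and_self]) (by decide +kernel))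
theorem q_ii : I2 * I2 = r1 * r3 := by
  simp only [r1, r2, r3, nn, sw, Ii, Jj, om, gg, xx, yy, I2, J2', I3, J3', ← wd_append, ← wd_reverse]
  exact wd_eq (H1.J2Words.chk_j2fq (by simp only [rb_app, rb_rev, rb_nil, rb, Bool.and_self]) (by decide +kernel))
theorem q_jj : J2' * J2' = r1 * r3 := by
  simp only [r1, r2, r3, nn, sw, Ii, Jj, om, gg, xx, yy, I2, J2', I3, J3', ← wd_append, ← wd_reverse]
  exact wd_eq (H1.J2Words.chk_j2fq (by simp only [rb_app, rb_rev, rb_nil, rb, Bool.and_self]) (by decide +kernel))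
theorem q_ij : I2 * J2' = r1 * r3 * J2' * I2 := by
  simp only [r1, r2, r3, nn, sw, Ii, Jj, om, gg, xx, yy, I2, J2', I3, J3', ← wd_append, ← wd_reverse]
  exact wd_eq (H1.J2Words.chk_j2fq (by simp only [rb_app, rb_rev, rb_nil, rb, Bool.and_self]) (by decide +kernel))
theorem q_Ii : Ii * I2 = I2 * Ii := by
  simp only [r1, r2, r3, nn, sw, Ii, Jj, om, gg, xx, yy, I2, J2', I3, J3', ← wd_append, ← wd_reverse]
  exact wd_eq (H1.J2Words.chk_j2fq (by simp only [rb_app, rb_rev, rb_nil, rb, Bool.and_self]) (by decide +kernel))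
theorem q_Jj : Jj * J2' = J2' * Jj := by
  simp only [r1, r2, r3, nn, sw, Ii, Jj, om, gg, xx, yy, I2, J2', I3, J3', ← wd_append, ← wd_reverse]
  exact wd_eq (H1.J2Words.chk_j2fq (by simp only [rb_app, rb_rev, rb_nil, rb, Bool.and_self]) (by decide +kernel))
theorem q_Ij : Ii * J2' = r3 * J2' * Ii := by
  simp only [r1, r2, r3, nn, sw, Ii, Jj, om, gg, xx, yy, I2, J2', I3, J3', ← wd_append, ← wd_reverse]
  exact wd_eq (H1.J2Words.chk_j2fq (by simp only [rb_app, rb_rev, rb_nil, rb, Bool.and_self]) (by decide +kernel))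
theorem q_iJ : I2 * Jj = r3 * Jj * I2 := by
  simp only [r1, r2, r3, nn, sw, Ii, Jj, om, gg, xx, yy, I2, J2', I3, J3', ← wd_append, ← wd_reverse]
  exact wd_eq (H1.J2Words.chk_j2fq (by simp only [rb_app, rb_rev, rb_nil, rb, Bool.and_self]) (by decide +kernel))
theorem q_k : I3 = Ii * I2 * r3 := by
  simp only [r1, r2, r3, nn, sw, Ii, Jj, om, gg, xx, yy, I2, J2', I3, J3', ← wd_append, ← wd_reverse]
  exact wd_eq (H1.J2Words.chk_j2fq (by simp only [rb_app, rb_rev, rb_nil, rb, Bool.and_self]) (by decide +kernel))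
theorem q_l : J3' = Jj * J2' * r3 := by
  simp only [r1, r2, r3, nn, sw, Ii, Jj, om, gg, xx, yy, I2, J2', I3, J3', ← wd_append, ← wd_reverse]
  exact wd_eq (H1.J2Words.chk_j2fq (by simp only [rb_app, rb_rev, rb_nil, rb, Bool.and_self]) (by decide +kernel))
theorem q_Ik : Ii * I3 = I3 * Ii := by
  simp only [r1, r2, r3, nn, sw, Ii, Jj, om, gg, xx, yy, I2, J2', I3, J3', ← wd_append, ← wd_reverse]
  exact wd_eq (H1.J2Words.chk_j2fq (by simp only [rb_app, rb_rev, rb_nil, rb, Bool.and_self]) (by decide +kernel))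
theorem q_Jk : Jj * I3 = r2 * I3 * Jj := by
  simp only [r1, r2, r3, nn, sw, Ii, Jj, om, gg, xx, yy, I2, J2', I3, J3', ← wd_append, ← wd_reverse]
  exact wd_eq (H1.J2Words.chk_j2fq (by simp only [rb_app, rb_rev, rb_nil, rb, Bool.and_self]) (by decide +kernel))
theorem q_cn : om * nn = nn * om := by
  simp only [r1, r2, r3, nn, sw, Ii, Jj, om, gg, xx, yy, I2, J2', I3, J3', ← wd_append, ← wd_reverse]
  exact wd_eq (H1.J2Words.chk_j2fq (by simp only [rb_app, rb_rev, rb_nil, rb, Bool.and_self]) (by decide +kernel))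
theorem q_ct : om * sw = sw * om := by
  simp only [r1, r2, r3, nn, sw, Ii, Jj, om, gg, xx, yy, I2, J2', I3, J3', ← wd_append, ← wd_reverse]
  exact wd_eq (H1.J2Words.chk_j2fq (by simp only [rb_app, rb_rev, rb_nil, rb, Bool.and_self]) (by decide +kernel))
theorem q_c1 : om * r1 = r1 * om := by
  simp only [r1, r2, r3, nn, sw, Ii, Jj, om, gg, xx, yy, I2, J2', I3, J3', ← wd_append, ← wd_reverse]
  exact wd_eq (H1.J2Words.chk_j2fq (by simp only [rb_app, rb_rev, rb_nil, rb, Bool.and_self]) (by decide +kernel))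
theorem q_c2 : om * r2 = r2 * om := by
  simp only [r1, r2, r3, nn, sw, Ii, Jj, om, gg, xx, yy, I2, J2', I3, J3', ← wd_append, ← wd_reverse]
  exact wd_eq (H1.J2Words.chk_j2fq (by simp only [rb_app, rb_rev, rb_nil, rb, Bool.and_self]) (by decide +kernel))
theorem q_cI : om * Ii = Jj * om := by
  simp only [r1, r2, r3, nn, sw, Ii, Jj, om, gg, xx, yy, I2, J2', I3, J3', ← wd_append, ← wd_reverse]
  exact wd_eq (H1.J2Words.chk_j2fq (by simp only [rb_app, rb_rev, rb_nil, rb, Bool.and_self]) (by decide +kernel))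
theorem q_cJ : om * Jj = Ii * Jj * om := by
  simp only [r1, r2, r3, nn, sw, Ii, Jj, om, gg, xx, yy, I2, J2', I3, J3', ← wd_append, ← wd_reverse]
  exact wd_eq (H1.J2Words.chk_j2fq (by simp only [rb_app, rb_rev, rb_nil, rb, Bool.and_self]) (by decide +kernel))
theorem q_x1 : xx * r1 = r1 * xx := by
  simp only [r1, r2, r3, nn, sw, Ii, Jj, om, gg, xx, yy, I2, J2', I3, J3', ← wd_append, ← wd_reverse]
  exact wd_eq (H1.J2Words.chk_j2fq (by simp only [rb_app, rb_rev, rb_nil, rb, Bool.and_self]) (by decide +kernel))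
theorem q_x2 : xx * r2 = r2 * sw * Ii * xx := by
  simp only [r1, r2, r3, nn, sw, Ii, Jj, om, gg, xx, yy, I2, J2', I3, J3', ← wd_append, ← wd_reverse]
  exact wd_eq (H1.J2Words.chk_j2fq (by simp only [rb_app, rb_rev, rb_nil, rb, Bool.and_self]) (by decide +kernel))
theorem q_xt : xx * sw = sw * xx := by
  simp only [r1, r2, r3, nn, sw, Ii, Jj, om, gg, xx, yy, I2, J2', I3, J3', ← wd_append, ← wd_reverse]
  exact wd_eq (H1.J2Words.chk_j2fq (by simp only [rb_app, rb_rev, rb_nil, rb, Bool.and_self]) (by decide +kernel))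
theorem q_xI : xx * Ii = Ii * xx := by
  simp only [r1, r2, r3, nn, sw, Ii, Jj, om, gg, xx, yy, I2, J2', I3, J3', ← wd_append, ← wd_reverse]
  exact wd_eq (H1.J2Words.chk_j2fq (by simp only [rb_app, rb_rev, rb_nil, rb, Bool.and_self]) (by decide +kernel))
theorem q_cGc : om * gg * om = gg := by
  simp only [r1, r2, r3, nn, sw, Ii, Jj, om, gg, xx, yy, I2, J2', I3, J3', ← wd_append, ← wd_reverse]
  exact wd_eq (H1.J2Words.chk_j2fq (by simp only [rb_app, rb_rev, rb_nil, rb, Bool.and_self]) (by decide +kernel))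
theorem q_G1 : gg * r1 = r1 * gg := by
  simp only [r1, r2, r3, nn, sw, Ii, Jj, om, gg, xx, yy, I2, J2', I3, J3', ← wd_append, ← wd_reverse]
  exact wd_eq (H1.J2Words.chk_j2fq (by simp only [rb_app, rb_rev, rb_nil, rb, Bool.and_self]) (by decide +kernel))
theorem q_2G : r2 * gg = gg * sw := by
  simp only [r1, r2, r3, nn, sw, Ii, Jj, om, gg, xx, yy, I2, J2', I3, J3', ← wd_append, ← wd_reverse]
  exact wd_eq (H1.J2Words.chk_j2fq (by simp only [rb_app, rb_rev, rb_nil, rb, Bool.and_self]) (by decide +kernel))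
theorem q_y1 : yy * r1 = r1 * yy := by
  simp only [r1, r2, r3, nn, sw, Ii, Jj, om, gg, xx, yy, I2, J2', I3, J3', ← wd_append, ← wd_reverse]
  exact wd_eq (H1.J2Words.chk_j2fq (by simp only [rb_app, rb_rev, rb_nil, rb, Bool.and_self]) (by decide +kernel))
theorem q_ntn : nn * sw * nn = sw := by
  simp only [r1, r2, r3, nn, sw, Ii, Jj, om, gg, xx, yy, I2, J2', I3, J3', ← wd_append, ← wd_reverse]
  exact wd_eq (H1.J2Words.chk_j2fq (by simp only [rb_app, rb_rev, rb_nil, rb, Bool.and_self]) (by decide +kernel))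
theorem q_11 : r1 * r1 = 1 := by
  rw [← wd_nil]
  simp only [r1, r2, r3, nn, sw, Ii, Jj, om, gg, xx, yy, I2, J2', I3, J3', ← wd_append, ← wd_reverse]
  exact wd_eq (H1.J2Words.chk_j2fq (by simp only [rb_app, rb_rev, rb_nil, rb, Bool.and_self]) (by decide +kernel))
theorem q_22 : r2 * r2 = 1 := by
  rw [← wd_nil]
  simp only [r1, r2, r3, nn, sw, Ii, Jj, om, gg, xx, yy, I2, J2', I3, J3', ← wd_append, ← wd_reverse]
  exact wd_eq (H1.J2Words.chk_j2fq (by simp only [rb_app, rb_rev, rb_nil, rb, Bool.and_self]) (by decide +kernel))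
theorem q_33 : r3 * r3 = 1 := by
  rw [← wd_nil]
  simp only [r1, r2, r3, nn, sw, Ii, Jj, om, gg, xx, yy, I2, J2', I3, J3', ← wd_append, ← wd_reverse]
  exact wd_eq (H1.J2Words.chk_j2fq (by simp only [rb_app, rb_rev, rb_nil, rb, Bool.and_self]) (by decide +kernel))
theorem q_nnn : nn * nn * nn = 1 := by
  rw [← wd_nil]
  simp only [r1, r2, r3, nn, sw, Ii, Jj, om, gg, xx, yy, I2, J2', I3, J3', ← wd_append, ← wd_reverse]
  exact wd_eq (H1.J2Words.chk_j2fq (by simp only [rb_app, rb_rev, rb_nil, rb, Bool.and_self]) (by decide +kernel))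
theorem q_tt : sw * sw = 1 := by
  rw [← wd_nil]
  simp only [r1, r2, r3, nn, sw, Ii, Jj, om, gg, xx, yy, I2, J2', I3, J3', ← wd_append, ← wd_reverse]
  exact wd_eq (H1.J2Words.chk_j2fq (by simp only [rb_app, rb_rev, rb_nil, rb, Bool.and_self]) (by decide +kernel))
theorem q_ccc : om * om * om = 1 := by
  rw [← wd_nil]
  simp only [r1, r2, r3, nn, sw, Ii, Jj, om, gg, xx, yy, I2, J2', I3, J3', ← wd_append, ← wd_reverse]
  exact wd_eq (H1.J2Words.chk_j2fq (by simp only [rb_app, rb_rev, rb_nil, rb, Bool.and_self]) (by decide +kernel))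
theorem q_yc : yy * om = gg * I2 * Jj⁻¹ * sw * yy := by
  simp only [r1, r2, r3, nn, sw, Ii, Jj, om, gg, xx, yy, I2, J2', I3, J3', ← wd_append, ← wd_reverse]
  exact wd_eq (H1.J2Words.chk_j2fq (by simp only [rb_app, rb_rev, rb_nil, rb, Bool.and_self]) (by decide +kernel))
theorem q_123 : r1 * r2 * r3 = ng := by
  have h : wd ([e1] ++ [e2] ++ [e3]) = ng * wd [] := wd_eqN (H1.J2Words.chkN_j2fq (by simp only [rb_app, rb_rev, rb_nil, rb, Bool.and_self]) (by decide +kernel))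
  rw [wd_append, wd_append, wd_nil, mul_one] at h
  exact h
theorem q_GG : gg * gg = ng * (r2 * sw) := by
  have h : wd (wG ++ wG) = ng * wd ([e2] ++ wT) := wd_eqN (H1.J2Words.chkN_j2fq (by simp only [rb_app, rb_rev, rb_nil, rb, Bool.and_self]) (by decide +kernel))
  rw [wd_append, wd_append] at h
  exact h
theorem q_G : gg = ng * (xx * I3 * xx⁻¹ * Jj * Ii) := by
  have h : wd wG = ng * wd (wx ++ (wN.reverse ++ wI ++ wN) ++ wx.reverse ++ wJ ++ wI) :=
    wd_eqN (H1.J2Words.chkN_j2fq (by simp only [rb_app, rb_rev, rb_nil, rb, Bool.and_self]) (by decide +kernel))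
  simp only [wd_append, wd_reverse] at h
  exact h

/-! ### generation -/

/-- letters -/
def lt (k : ℕ) : List Vec := match k with
  | 0 => wN
  | 1 => wN.reverse
  | 2 => wG
  | 3 => wG.reverse
  | 4 => wI
  | _ => wJ

/-- words in the letters -/
def cw (L : List ℕ) : List Vec := L.flatMap lt

theorem cw_cons (k : ℕ) (L : List ℕ) : cw (k :: L) = lt k ++ cw L := rfl

/-- ten roots as images of the first one -/
def tab : List (Vec × List ℕ) := [(Cfsg.Agent.J2.SixGens.r0, []), (Cfsg.Agent.J2.SixGens.r1, [0]), (r5, [1, 5, 4, 0, 2, 0]),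
  (r11, [0, 4, 1, 2, 0]), (r74, [0, 5, 2, 0, 3, 0, 2, 0]), (r149, [5, 0, 4, 1, 2, 0, 2, 0]),
  (r153, [1, 4, 0, 5, 2, 0, 2, 0]), (r179, [3, 1, 5, 0, 3, 1, 2, 0]), (r185, [2, 1, 5, 0, 2, 0, 2, 0]),
  (r290, [4, 1, 3, 5, 0, 2, 0])]

private theorem rb_cw (L : List ℕ) : rootsB (cw L) = true := by
  induction L with
  | nil => rfl
  | cons k L ih =>
    rw [cw_cons, rb_app, ih, Bool.and_true]
    match k with
    | 0 => exact rb.2.2.2.1
    | 1 => exact (rb_rev wN).trans rb.2.2.2.1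
    | 2 => exact rb.2.2.2.2.2.2.2.2.1
    | 3 => exact (rb_rev wG).trans rb.2.2.2.2.2.2.2.2.1
    | 4 => exact rb.2.2.2.2.2.1
    | (m + 5) => exact rb.2.2.2.2.2.2.1

private theorem rb_tab {v : Vec} (h : rootsB [v] = true) (L : List ℕ) :
    (rootsB [v] && rootsB (cw L ++ [e1] ++ (cw L).reverse)) = true := by
  simp only [rb_app, rb_rev, rb_cw, rb, h, Bool.and_self]

theorem tab_ok_0 : chk [Cfsg.Agent.J2.SixGens.r0] (cw [] ++ [e1] ++ (cw []).reverse) = true :=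
  H1.J2Words.chk_j2fq (rb_tab (by decide +kernel) _) (by decide +kernel)
theorem tab_ok_1 : chk [Cfsg.Agent.J2.SixGens.r1] (cw [0] ++ [e1] ++ (cw [0]).reverse) = true :=
  H1.J2Words.chk_j2fq (rb_tab (by decide +kernel) _) (by decide +kernel)
theorem tab_ok_2 : chk [r5] (cw [1, 5, 4, 0, 2, 0] ++ [e1] ++ (cw [1, 5, 4, 0, 2, 0]).reverse) = true :=
  H1.J2Words.chk_j2fq (rb_tab (by decide +kernel) _) (by decide +kernel)
theorem tab_ok_3 : chk [r11] (cw [0, 4, 1, 2, 0] ++ [e1] ++ (cw [0, 4, 1, 2, 0]).reverse) = true :=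
  H1.J2Words.chk_j2fq (rb_tab (by decide +kernel) _) (by decide +kernel)
theorem tab_ok_4 : chk [r74] (cw [0, 5, 2, 0, 3, 0, 2, 0] ++ [e1] ++ (cw [0, 5, 2, 0, 3, 0, 2, 0]).reverse) = true :=
  H1.J2Words.chk_j2fq (rb_tab (by decide +kernel) _) (by decide +kernel)
theorem tab_ok_5 : chk [r149] (cw [5, 0, 4, 1, 2, 0, 2, 0] ++ [e1] ++ (cw [5, 0, 4, 1, 2, 0, 2, 0]).reverse) = true :=
  H1.J2Words.chk_j2fq (rb_tab (by decide +kernel) _) (by decide +kernel)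
theorem tab_ok_6 : chk [r153] (cw [1, 4, 0, 5, 2, 0, 2, 0] ++ [e1] ++ (cw [1, 4, 0, 5, 2, 0, 2, 0]).reverse) = true :=
  H1.J2Words.chk_j2fq (rb_tab (by decide +kernel) _) (by decide +kernel)
theorem tab_ok_7 : chk [r179] (cw [3, 1, 5, 0, 3, 1, 2, 0] ++ [e1] ++ (cw [3, 1, 5, 0, 3, 1, 2, 0]).reverse) = true :=
  H1.J2Words.chk_j2fq (rb_tab (by decide +kernel) _) (by decide +kernel)
theorem tab_ok_8 : chk [r185] (cw [2, 1, 5, 0, 2, 0, 2, 0] ++ [e1] ++ (cw [2, 1, 5, 0, 2, 0, 2, 0]).reverse) = true :=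
  H1.J2Words.chk_j2fq (rb_tab (by decide +kernel) _) (by decide +kernel)
theorem tab_ok_9 : chk [r290] (cw [4, 1, 3, 5, 0, 2, 0] ++ [e1] ++ (cw [4, 1, 3, 5, 0, 2, 0]).reverse) = true :=
  H1.J2Words.chk_j2fq (rb_tab (by decide +kernel) _) (by decide +kernel)

theorem tab_ok : tab.all (fun p => chk [p.1] (cw p.2 ++ [e1] ++ (cw p.2).reverse)) = true := by
  simp only [tab, List.all_cons, List.all_nil, Bool.and_true, Bool.and_eq_true]
  exact ⟨tab_ok_0, tab_ok_1, tab_ok_2, tab_ok_3, tab_ok_4, tab_ok_5, tab_ok_6, tab_ok_7, tab_ok_8, tab_ok_9⟩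

theorem wd_cw_mem {S : Subgroup W} (hn : nn ∈ S) (hG : gg ∈ S) (hI : Ii ∈ S) (hJ : Jj ∈ S) (L : List ℕ) :
    wd (cw L) ∈ S := by
  induction L with
  | nil => exact S.one_mem
  | cons k L ih =>
    rw [cw_cons, wd_append]
    refine S.mul_mem ?_ ih
    match k with
    | 0 => exact hn
    | 1 => change wd wN.reverse ∈ S; rw [wd_reverse]; exact S.inv_mem hn
    | 2 => exact hG
    | 3 => change wd wG.reverse ∈ S; rw [wd_reverse]; exact S.inv_mem hG
    | 4 => exact hI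
    | (m + 5) => exact hJ

theorem tab_conj {p : Vec × List ℕ} (hp : p ∈ tab) : wd [p.1] = wd (cw p.2) * r1 * (wd (cw p.2))⁻¹ := by
  have h := List.all_eq_true.1 tab_ok p hp
  rw [wd_eq h, wd_append, wd_append, wd_reverse]
  rfl

/-- the roots of the letters of degree 100 -/
theorem letr_sub (k : ℕ) : ∀ v ∈ letr k, ∃ p ∈ tab, p.1 = v := by
  have key : ∀ k < 5, (letr k).all (fun v => tab.any (fun p => decide (p.1 = v))) = true := by decide +kernel
  have key' : ∀ v ∈ letr k, (tab.any (fun p => decide (p.1 = v))) = true := by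
    intro v hv
    rcases lt_or_ge k 5 with h | h
    · exact List.all_eq_true.1 (key k h) v hv
    · have : letr k = letr 4 := by
        obtain ⟨m, rfl⟩ := Nat.exists_eq_add_of_le h
        rw [Nat.add_comm]
        rfl
      rw [this] at hv
      exact List.all_eq_true.1 (key 4 (by norm_num)) v hv
  intro v hv
  obtain ⟨p, hp, h⟩ := List.any_eq_true.1 (key' v hv)
  exact ⟨p, hp, of_decide_eq_true h⟩

theorem wd_mem_of {S : Subgroup W} {L : List Vec} (h : ∀ v ∈ L, wd [v] ∈ S) : wd L ∈ S := by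
  induction L with
  | nil => exact S.one_mem
  | cons v L ih =>
    have h1 : v :: L = [v] ++ L := rfl
    rw [h1, wd_append]
    exact S.mul_mem (h v List.mem_cons_self) (ih fun u hu => h u (List.mem_cons_of_mem _ hu))

theorem gen_of {S : Subgroup W} (hng : ng ∈ S) (h : ∀ p ∈ tab, wd [p.1] ∈ S) : S = ⊤ := by
  have hl : ∀ k, wd (letr k) ∈ S := fun k => wd_mem_of fun v hv => by
    obtain ⟨p, hp, rfl⟩ := letr_sub k v hv
    exact h p hp
  have h1 : (S.map pr).comap (psi : Cfsg.Agent.SporadicA.J2Hundred.G →* J2) = ⊤ := by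
    apply Cfsg.Agent.H4.JT.Words.gen_eq
    intro k _
    rw [Subgroup.mem_comap]
    refine ⟨wd (letr k), hl k, ?_⟩
    exact (psi_letr k).symm
  rw [eq_top_iff]
  intro w _
  have h2 : psi.symm (pr w) ∈ (S.map pr).comap (psi : Cfsg.Agent.SporadicA.J2Hundred.G →* J2) := by
    rw [h1]; trivial
  rw [Subgroup.mem_comap] at h2
  obtain ⟨s, hs, hs'⟩ := h2
  have h3 : pr s = pr w := by
    rw [hs']
    exact psi.apply_symm_apply _
  have h4 : s⁻¹ * w ∈ center W := by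
    rw [← pr_eq_one, map_mul, map_inv, h3, inv_mul_cancel]
  have h5 : w = s * (s⁻¹ * w) := by group
  rw [h5]
  refine S.mul_mem hs ?_
  rcases mem_center h4 with h | h
  · rw [h]; exact S.one_mem
  · rw [h]; exact hng

/-- **generation** -/
theorem gen {S : Subgroup W} (hng : ng ∈ S) (h1 : r1 ∈ S) (hn : nn ∈ S) (hG : gg ∈ S) (hI : Ii ∈ S)
    (hJ : Jj ∈ S) : S = ⊤ :=
  gen_of hng fun p hp => by
    rw [tab_conj hp]
    have h := wd_cw_mem hn hG hI hJ p.2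
    exact S.mul_mem (S.mul_mem h h1) (S.inv_mem h)

/-- generation by conjugates of `r1` -/
theorem gen_normal {S : Subgroup W} (hS : S.Normal) (hng : ng ∈ S) (h1 : r1 ∈ S) : S = ⊤ :=
  gen_of hng fun p hp => by
    rw [tab_conj hp]
    exact hS.conj_mem _ h1 _

end Cfsg.Agent.H905.JD

private theorem dce_bd8413725a00 : _root_.True := by
  try have : _root_.True := by simp only [_root_.Cfsg.Agent.H905.JD.Ii.eq_1]
  try have : _root_.True := by simp only [_root_.Cfsg.Agent.H905.JD.I3.eq_1]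
  try have : _root_.True := by simp only [_root_.Cfsg.Agent.H905.JD.tab.eq_1]
  try have : _root_.True := by simp only [_root_.Cfsg.Agent.H905.JD.J2'.eq_1]
  try have : _root_.True := by simp only [_root_.Cfsg.Agent.H905.JD.r2.eq_1]
  try have : _root_.True := by simp only [_root_.Cfsg.Agent.H905.JD.yy.eq_1]
  try have : _root_.True := by simp only [_root_.Cfsg.Agent.H905.JD.I2.eq_1]
  try have : _root_.True := by simp only [_root_.Cfsg.Agent.H905.JD.om.eq_1]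
  try have : _root_.True := by simp only [_root_.Cfsg.Agent.H905.JD.sw.eq_1]
  try have : _root_.True := by simp only [_root_.Cfsg.Agent.H905.JD.xx.eq_1]
  try have : _root_.True := by simp only [_root_.Cfsg.Agent.H905.JD.J3'.eq_1]
  try have : _root_.True := by simp only [_root_.Cfsg.Agent.H905.JD.r1.eq_1]
  try have : _root_.True := by simp only [_root_.Cfsg.Agent.H905.JD.r3.eq_1]
  try have : _root_.True := by simp only [_root_.Cfsg.Agent.H905.JD.nn.eq_1]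
  try have : _root_.True := by simp only [_root_.Cfsg.Agent.H905.JD.gg.eq_1]
  try have : _root_.True := by simp only [_root_.Cfsg.Agent.H905.JD.Jj.eq_1]
  exact _root_.True.intro
end

-- part: H905/JDPlane
section
prune_inst 0xfdfffdbfbcffffdfff7e7fffdefffdffbfbffff6fffdcbffe06ffffbff7f8aefe5fbaf8beadbfe5ff7ea34d0f87b43ffffffffeb6bfc7ffffd5ff41ffbffdffdf7b58951fd98b41fbe2ffe03f0778e7f000000000000000000000000000000004200000000
set_option linter.all false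
open scoped Cfsg.Agent.FastGrp

-- part: H905/JDSplit
section
/-!
# Eigenspaces of an operator swapped by another one (helper905)

* `Ep S r μ` : the `μ`-eigenvectors of `r` in `S`;
* `finrank_split`, `finrank_swap` : `finrank S = 2 finrank (Ep S r μ)` if `r² = μ²` on `S` and `y` anticommutes with `r`.
* `quat` : identities in an algebra.
-/

set_option autoImplicit false

namespace Cfsg.Agent.H905.JD

open Module

section Split

variable {k V : Type*} [Field k] [AddCommGroup V] [Module k V]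

/-- the eigenvectors in a subspace -/
def Ep (S : Submodule k V) (r : Module.End k V) (μ : k) : Submodule k V where
  carrier := {v | v ∈ S ∧ r v = μ • v}
  zero_mem' := ⟨S.zero_mem, by rw [map_zero, smul_zero]⟩
  add_mem' := fun {a b} ha hb => ⟨S.add_mem ha.1 hb.1, by rw [map_add, ha.2, hb.2, smul_add]⟩
  smul_mem' := fun c a ha => ⟨S.smul_mem c ha.1, by rw [map_smul, ha.2, smul_comm]⟩

theorem mem_Ep {S : Submodule k V} {r : Module.End k V} {μ : k} {v : V} :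
    v ∈ Ep S r μ ↔ v ∈ S ∧ r v = μ • v := Iff.rfl

variable [FiniteDimensional k V]

theorem finrank_split (h2 : (2 : k) ≠ 0) {S : Submodule k V} {r : Module.End k V} {μ : k} (hμ : μ ≠ 0)
    (hS : ∀ v ∈ S, r v ∈ S) (hr : ∀ v ∈ S, r (r v) = (μ * μ) • v) :
    finrank k S = finrank k (Ep S r μ) + finrank k (Ep S r (-μ)) := by
  have h1 := Submodule.finrank_sup_add_finrank_inf_eq (Ep S r μ) (Ep S r (-μ))
  have hinf : Ep S r μ ⊓ Ep S r (-μ) = ⊥ := by
    rw [eq_bot_iff]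
    rintro v ⟨⟨_, h3⟩, _, h4⟩
    rw [h3, neg_smul] at h4
    have h5 : (2 * μ) • v = 0 := by
      rw [mul_smul, two_smul]
      nth_rewrite 1 [h4]
      rw [neg_add_cancel]
    exact (smul_eq_zero.1 h5).resolve_left (mul_ne_zero h2 hμ)
  have hsup : Ep S r μ ⊔ Ep S r (-μ) = S := by
    apply le_antisymm
    · exact sup_le (fun v hv => hv.1) (fun v hv => hv.1)
    · intro v hv
      have e1 : v = (2 : k)⁻¹ • (v + μ⁻¹ • r v) + (2 : k)⁻¹ • (v - μ⁻¹ • r v) := by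
        rw [← smul_add, add_add_sub_cancel, ← two_smul k v, smul_smul, inv_mul_cancel₀ h2, one_smul]
      rw [e1]
      refine Submodule.add_mem_sup ⟨S.smul_mem _ (S.add_mem hv (S.smul_mem _ (hS v hv))), ?_⟩
        ⟨S.smul_mem _ (S.sub_mem hv (S.smul_mem _ (hS v hv))), ?_⟩
      · rw [map_smul, map_add, map_smul, hr v hv]
        match_scalars <;> field_simp
      · rw [map_smul, map_sub, map_smul, hr v hv]
        match_scalars <;> field_simp
  rw [hinf, finrank_bot, add_zero, hsup] at h1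
  exact h1

theorem finrank_le_of_inj {A B : Submodule k V} {y : Module.End k V} (hy : ∀ v ∈ A, y v ∈ B)
    (hinj : ∀ v, y v = 0 → v = 0) : finrank k A ≤ finrank k B := by
  let f : A →ₗ[k] B := y.restrict hy
  refine LinearMap.finrank_le_finrank_of_injective (f := f) ?_
  rw [injective_iff_map_eq_zero]
  intro a ha
  exact Subtype.ext (hinj a.1 (congrArg Subtype.val ha))

theorem finrank_swap (h2 : (2 : k) ≠ 0) {S : Submodule k V} {r y : Module.End k V} {μ : k} (hμ : μ ≠ 0)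
    (hS : ∀ v ∈ S, r v ∈ S) (hr : ∀ v ∈ S, r (r v) = (μ * μ) • v) (hy : ∀ v ∈ S, y v ∈ S)
    (hinj : ∀ v, y v = 0 → v = 0) (hanti : ∀ v ∈ S, r (y v) = -y (r v)) :
    finrank k S = 2 * finrank k (Ep S r μ) := by
  have h1 : finrank k (Ep S r μ) ≤ finrank k (Ep S r (-μ)) := finrank_le_of_inj (y := y) (fun v hv =>
    ⟨hy v hv.1, by rw [hanti v hv.1, hv.2, map_smul, neg_smul]⟩) hinj
  have h3 : finrank k (Ep S r (-μ)) ≤ finrank k (Ep S r μ) := finrank_le_of_inj (y := y) (fun v hv =>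
    ⟨hy v hv.1, by rw [hanti v hv.1, hv.2, map_smul, neg_smul, neg_neg]⟩) hinj
  rw [finrank_split h2 hμ hS hr]
  omega

end Split

section Alg

variable {k A : Type*} [Field k] [Ring A] [Algebra k A]

/-- `c = -(1 + i + j + ij)/2` and `c s c = s` : `s` anticommutes with `i + j + ij` -/
theorem anti_of_csc (h2 : (2 : k) ≠ 0) {i j s c : A} (hi : i * i = -1) (hj : j * j = -1) (hij : j * i = -(i * j))
    (hc : (2 : k) • c = -(1 + i + j + i * j)) (hs : c * s * c = s) :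
    s * (i + j + i * j) = -((i + j + i * j) * s) := by
  set u := i + j + i * j with hu
  have huu : u * u = -3 := by
    have e1 : i * (i * j) = -j := by rw [← mul_assoc, hi, neg_one_mul]
    have e2 : j * (i * j) = i := by rw [← mul_assoc, hij, neg_mul, mul_assoc, hj, mul_neg_one, neg_neg]
    have e3 : i * j * i = j := by rw [mul_assoc, hij, mul_neg, e1, neg_neg]
    have e4 : i * j * j = -i := by rw [mul_assoc, hj, mul_neg_one]
    have e5 : i * j * (i * j) = -1 := by rw [← mul_assoc, e3, hj]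
    rw [hu]
    simp only [mul_add, add_mul, hi, hj, hij, e1, e2, e3, e4, e5]
    have e6 : (-3 : A) = -1 + -1 + -1 := by norm_num
    rw [e6]
    abel
  have h4 : (4 : k) ≠ 0 := by
    have : (4 : k) = 2 * 2 := by norm_num
    rw [this]; exact mul_ne_zero h2 h2
  have hc' : (2 : k) • c = -(1 + u) := by rw [hc, hu]; abel
  -- `(1 + u) s (1 + u) = 4 s`
  have e1 : (1 + u) * s * (1 + u) = (4 : k) • s := by
    have : (1 + u) * s * (1 + u) = ((2 : k) • c) * s * ((2 : k) • c) := by rw [hc']; noncomm_ring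
    rw [this, smul_mul_assoc, smul_mul_assoc, mul_smul_comm, hs, smul_smul]
    norm_num
  -- multiply by `1 - u` on the left : `(1 - u)(1 + u) = 4`
  have e2 : (1 - u) * (1 + u) = 4 := by
    have : (1 - u) * (1 + u) = 1 - u * u := by noncomm_ring
    rw [this, huu]; norm_num
  have e3 : (4 : A) * (s * (1 + u)) = (4 : k) • ((1 - u) * s) := by
    have := congrArg (fun x => (1 - u) * x) e1
    simp only [mul_smul_comm] at this
    rw [← this, ← e2]
    noncomm_ring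
  have e4 : (4 : k) • (s * (1 + u)) = (4 : k) • ((1 - u) * s) := by
    rw [← e3, Algebra.smul_def, map_ofNat]
  have e5 : s * (1 + u) = (1 - u) * s := by
    have := congrArg (fun x => (4 : k)⁻¹ • x) e4
    simpa only [smul_smul, inv_mul_cancel₀ h4, one_smul] using this
  have e6 : s * u = s * (1 + u) - s := by noncomm_ring
  rw [e6, e5]
  noncomm_ring

/-- `(s i)² + s i + 1 = 0` from a conjugate of `c` -/
theorem trace_of_conj (h2 : (2 : k) ≠ 0) {i j s c y : A} (hi : i * i = -1) (hj : j * j = -1) (hij : j * i = -(i * j))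
    (hs : s * s = -1) (hc : (2 : k) • c = -(1 + i + j + i * j)) (hy : y * c = s * i * y) {y' : A} (hyy : y * y' = 1) :
    s * i + i * s = -1 := by
  set u := i + j + i * j with hu
  have huu : u * u = -3 := by
    have e1 : i * (i * j) = -j := by rw [← mul_assoc, hi, neg_one_mul]
    have e2 : j * (i * j) = i := by rw [← mul_assoc, hij, neg_mul, mul_assoc, hj, mul_neg_one, neg_neg]
    have e3 : i * j * i = j := by rw [mul_assoc, hij, mul_neg, e1, neg_neg]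
    have e4 : i * j * j = -i := by rw [mul_assoc, hj, mul_neg_one]
    have e5 : i * j * (i * j) = -1 := by rw [← mul_assoc, e3, hj]
    rw [hu]
    simp only [mul_add, add_mul, hi, hj, hij, e1, e2, e3, e4, e5]
    have e6 : (-3 : A) = -1 + -1 + -1 := by norm_num
    rw [e6]
    abel
  have h4 : (4 : k) ≠ 0 := by
    have : (4 : k) = 2 * 2 := by norm_num
    rw [this]; exact mul_ne_zero h2 h2
  have hc' : (2 : k) • c = -(1 + u) := by rw [hc, hu]; abel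
  have e1 : c * c + c + 1 = 0 := by
    have e2 : (4 : k) • (c * c + c + 1) = 0 := by
      have : (4 : k) • (c * c + c + 1) = ((2 : k) • c) * ((2 : k) • c) + (2 : k) • ((2 : k) • c) + (4 : k) • (1 : A) := by
        rw [smul_mul_assoc, mul_smul_comm, smul_smul, smul_smul, smul_add, smul_add]
        norm_num
      rw [this, hc', Algebra.smul_def, Algebra.smul_def, map_ofNat, map_ofNat]
      have : -(1 + u) * -(1 + u) + 2 * -(1 + u) + 4 * 1 = u * u + 3 := by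
        have e2 : (2 : A) = 1 + 1 := by norm_num
        have e3 : (3 : A) = 1 + 1 + 1 := by norm_num
        have e4 : (4 : A) = 1 + 1 + 1 + 1 := by norm_num
        rw [e2, e3, e4, neg_mul_neg]
        simp only [add_mul, mul_add, one_mul, mul_one]
        abel
      rw [this, huu]; norm_num
    have := congrArg (fun x => (4 : k)⁻¹ • x) e2
    simpa only [smul_smul, inv_mul_cancel₀ h4, one_smul, smul_zero] using this
  -- transport
  have e3 : (s * i) * (s * i) + s * i + 1 = 0 := by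
    have e4 : y * (c * c + c + 1) = ((s * i) * (s * i) + s * i + 1) * y := by
      have : y * (c * c) = (s * i) * (s * i) * y := by
        rw [← mul_assoc, hy, mul_assoc, hy]; noncomm_ring
      rw [mul_add, mul_add, this, hy, add_mul, add_mul, mul_one, one_mul]
    rw [e1, mul_zero] at e4
    have := congrArg (fun x => x * y') e4
    simp only [zero_mul] at this
    rw [mul_assoc, hyy, mul_one] at this
    exact this.symm
  -- multiply by `(s i)⁻¹ = i s`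
  have e5 : (s * i) * (i * s) = 1 := by
    have : (s * i) * (i * s) = s * (i * i) * s := by noncomm_ring
    rw [this, hi, mul_neg_one, neg_mul, hs, neg_neg]
  have e6 := congrArg (fun x => x * (i * s)) e3
  simp only [zero_mul, add_mul, one_mul] at e6
  have e7 : s * i * (s * i) * (i * s) = s * i := by
    rw [mul_assoc, e5, mul_one]
  rw [e7, e5] at e6
  rw [eq_neg_iff_add_eq_zero, ← e6]
  abel

/-- `c` in terms of the quaternion units -/
theorem two_c (h2 : (2 : k) ≠ 0) {I J b c G : A} (hI : I * I = -1) (hJ : J * J = -1) (hJI : J * I = -(I * J))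
    (hbI : b * I = I * b) (hbJ : b * J = J * b) (hbb : b * b = -1) (hG : (2 : k) • G = -((1 + b) * (J + J * I)))
    (hcI : c * I = J * c) (hcJ : c * J = I * J * c) (hcb : c * b = b * c) (hcG : c * G * c = G)
    (hccc : c * c * c = 1) : (2 : k) • c = -(1 + I + J + I * J) := by
  have e1 : c * (J + J * I) = (I * J - I) * c := by
    have : c * (J + J * I) = c * J + c * J * I := by noncomm_ring
    rw [this, hcJ, mul_assoc (I * J) c I, hcI, ← mul_assoc (I * J) J c, mul_assoc I J J, hJ]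
    noncomm_ring
  have e2 : (1 + b) * (J + J * I) = (1 + b) * (I * J - I) * (c * c) := by
    have h3 : (2 : k) • G = c * ((2 : k) • G) * c := by rw [mul_smul_comm, smul_mul_assoc, hcG]
    rw [hG] at h3
    have h4 : c * -((1 + b) * (J + J * I)) * c = -((1 + b) * (I * J - I) * (c * c)) := by
      have : c * -((1 + b) * (J + J * I)) * c = -((c + c * b) * (J + J * I) * c) := by noncomm_ring
      rw [this, hcb]
      have : (c + b * c) * (J + J * I) * c = (1 + b) * (c * (J + J * I)) * c := by noncomm_ring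
      rw [this, e1]
      noncomm_ring
    rw [h4] at h3
    exact neg_injective h3
  have e3 : (1 + b) * (J + J * I) * c = (1 + b) * (I * J - I) := by
    rw [e2]
    have : (1 + b) * (I * J - I) * (c * c) * c = (1 + b) * (I * J - I) * (c * c * c) := by noncomm_ring
    rw [this, hccc, mul_one]
  -- multiply by `(1 - I)(-J)` on the left
  have e4 : (1 - I) * -J * (1 + b) = (1 + b) * ((1 - I) * -J) := by
    have : (1 - I) * -J * (1 + b) = -J + I * J - J * b + I * (J * b) := by noncomm_ring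
    rw [this, ← hbJ, ← mul_assoc I b J, ← hbI]
    noncomm_ring
  have e5 : (1 - I) * -J * (J + J * I) = 1 + 1 := by
    have : (1 - I) * -J * (J + J * I) = -(J * J) - J * J * I + I * (J * J) + I * (J * J) * I := by noncomm_ring
    rw [this, hJ]
    have : -(-1 : A) - -1 * I + I * -1 + I * -1 * I = 1 - I * I := by noncomm_ring
    rw [this, hI]
    noncomm_ring
  have e6 : (1 - I) * -J * (I * J - I) = -(1 + I + J + I * J) := by
    have h7 : J * I * J = I := by rw [hJI, neg_mul, mul_assoc, hJ, mul_neg_one, neg_neg]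
    have : (1 - I) * -J * (I * J - I) = -(J * I * J) + J * I + I * (J * I * J) - I * (J * I) := by noncomm_ring
    rw [this, h7, hJI, mul_neg, ← mul_assoc, hI]
    noncomm_ring
  have e7 : (1 + b) * (c + c) = (1 + b) * -(1 + I + J + I * J) := by
    have h8 := congrArg (fun x => (1 - I) * -J * x) e3
    have h9 : (1 - I) * -J * ((1 + b) * (J + J * I) * c) = (1 + b) * (c + c) := by
      have : (1 - I) * -J * ((1 + b) * (J + J * I) * c) = (1 - I) * -J * (1 + b) * ((J + J * I) * c) := by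
        noncomm_ring
      rw [this, e4]
      have : (1 + b) * ((1 - I) * -J) * ((J + J * I) * c) = (1 + b) * ((1 - I) * -J * (J + J * I)) * c := by
        noncomm_ring
      rw [this, e5]
      noncomm_ring
    have h10 : (1 - I) * -J * ((1 + b) * (I * J - I)) = (1 + b) * -(1 + I + J + I * J) := by
      rw [← mul_assoc, e4, mul_assoc, e6]
    rw [h9, h10] at h8
    exact h8
  have e8 : (1 - b) * (1 + b) = 1 + 1 := by
    have : (1 - b) * (1 + b) = 1 - b * b := by noncomm_ring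
    rw [this, hbb]; noncomm_ring
  have e9 := congrArg (fun x => (1 - b) * x) e7
  simp only [← mul_assoc, e8] at e9
  have e10 : (2 : k) • (c + c) = (2 : k) • -(1 + I + J + I * J) := by
    rw [two_smul, two_smul]
    rw [add_mul, one_mul, add_mul, one_mul] at e9
    exact e9
  have e11 := congrArg (fun x => (2 : k)⁻¹ • x) e10
  simp only [smul_smul, inv_mul_cancel₀ h2, one_smul] at e11
  rw [two_smul, e11]

/-- `a = s j + j s` is central -/
theorem comm_of_trace {i j s : A} (hi : i * i = -1) (hj : j * j = -1) (hij : j * i = -(i * j))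
    (ha : s * (i + j + i * j) = -((i + j + i * j) * s)) (ht : s * i + i * s = -1) :
    (s * j + j * s) * j = j * (s * j + j * s) ∧ (s * j + j * s) * i = i * (s * j + j * s) := by
  have e1 : (s * j + j * s) * j = j * (s * j + j * s) := by
    have h1 : (s * j + j * s) * j = s * (j * j) + j * s * j := by noncomm_ring
    have h2 : j * (s * j + j * s) = j * s * j + (j * j) * s := by noncomm_ring
    rw [h1, h2, hj]
    noncomm_ring
  have hk : (i * j) * (i * j) = -1 := by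
    have : (i * j) * (i * j) = i * (j * i) * j := by noncomm_ring
    rw [this, hij]
    have : i * -(i * j) * j = -(i * i * (j * j)) := by noncomm_ring
    rw [this, hi, hj]; noncomm_ring
  have e2 : s * j + j * s = 1 - (s * (i * j) + (i * j) * s) := by
    have h1 : s * (i + j + i * j) + (i + j + i * j) * s = 0 := by rw [ha, neg_add_cancel]
    have h2 : s * (i + j + i * j) + (i + j + i * j) * s = (s * i + i * s) + (s * j + j * s) +
      (s * (i * j) + (i * j) * s) := by noncomm_ring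
    rw [h2, ht] at h1
    rw [eq_sub_iff_add_eq, ← sub_eq_zero, ← h1]
    abel
  have e3 : (s * j + j * s) * (i * j) = (i * j) * (s * j + j * s) := by
    rw [e2]
    have h1 : (1 - (s * (i * j) + (i * j) * s)) * (i * j) = i * j - s * ((i * j) * (i * j)) - (i * j) * s * (i * j) := by
      noncomm_ring
    have h2 : (i * j) * (1 - (s * (i * j) + (i * j) * s)) = i * j - (i * j) * s * (i * j) - ((i * j) * (i * j)) * s := by
      noncomm_ring
    rw [h1, h2, hk]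
    noncomm_ring
  refine ⟨e1, ?_⟩
  have e4 : i = -(i * j * j) := by rw [mul_assoc, hj, mul_neg_one, neg_neg]
  have e5 : (s * j + j * s) * (i * j * j) = (i * j * j) * (s * j + j * s) := by
    rw [← mul_assoc, e3, mul_assoc, e1, ← mul_assoc]
  calc (s * j + j * s) * i = -((s * j + j * s) * (i * j * j)) := by rw [← mul_neg, ← e4]
    _ = -((i * j * j) * (s * j + j * s)) := by rw [e5]
    _ = i * (s * j + j * s) := by rw [← neg_mul, ← e4]

end Alg

end Cfsg.Agent.H905.JD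
end

-- part: H905/JDRep
section
/-!
# The Hall-Janko group in dimension twelve: the weights of a frame (helper905)

`Wt ρ δ₁ δ₂` : the vectors with `r1 = δ₁`, `r2 = δ₂`. `dim_formula`; `triv_zero` (`ρ(-1) = 1`) and `neg_zero`
(`ρ(-1) = -1`): `dim V = 12` gives `Wt ε ε = 0` or `⊤`.
-/

set_option autoImplicit false
set_option linter.unusedSectionVars false

namespace Cfsg.Agent.H905.JD

open Subgroup Cfsg.Spor Cfsg.Agent.J2.ZTau Cfsg.Agent.J2.Ico Cfsg.Agent.J2.Lattice Cfsg.Agent.J2.Refl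
  Cfsg.Agent.J2.Group Cfsg.Agent.J2.Stab Cfsg.Agent.J2.SixGens Cfsg.Agent.H1.J2Lift
open Module

variable {k V : Type*} [Field k] [AddCommGroup V] [Module k V] (ρ : W →* Module.End k V)

theorem ap {a b : W} (e : a = b) (v : V) : ρ a v = ρ b v := by rw [e]

theorem ap2 (a b : W) (v : V) : ρ (a * b) v = ρ a (ρ b v) := by rw [map_mul]; rfl

theorem ap22 {a b c d : W} (e : a * b = c * d) (v : V) : ρ a (ρ b v) = ρ c (ρ d v) := by
  rw [← ap2, e, ap2]

theorem ap21 {a b c : W} (e : a * b = c) (v : V) : ρ a (ρ b v) = ρ c v := by rw [← ap2, e]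

theorem ap20 {a b : W} (e : a * b = 1) (v : V) : ρ a (ρ b v) = v := by rw [← ap2, e, map_one]; rfl

theorem inv_l (a : W) (v : V) : ρ a⁻¹ (ρ a v) = v := ap20 ρ (inv_mul_cancel a) v
theorem inv_r (a : W) (v : V) : ρ a (ρ a⁻¹ v) = v := ap20 ρ (mul_inv_cancel a) v

theorem inj (a : W) {v : V} (h : ρ a v = 0) : v = 0 := by
  rw [← inv_l ρ a v, h, map_zero]

theorem inj_iff (a : W) {u v : V} : ρ a u = ρ a v ↔ u = v :=
  ⟨fun h => by rw [← inv_l ρ a u, h, inv_l], fun h => by rw [h]⟩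

/-- the weight spaces -/
noncomputable def Wt (δ₁ δ₂ : k) : Submodule k V := Ep (Ep ⊤ (ρ r1) δ₁) (ρ r2) δ₂

variable {ρ}

theorem mem_Wt {δ₁ δ₂ : k} {v : V} : v ∈ Wt ρ δ₁ δ₂ ↔ ρ r1 v = δ₁ • v ∧ ρ r2 v = δ₂ • v :=
  ⟨fun h => ⟨h.1.2, h.2⟩, fun h => ⟨⟨trivial, h.1⟩, h.2⟩⟩

theorem q_12_3 : r1 * r2 = ng * r3 := by
  have h := congrArg (fun w => w * r3) q_123
  rwa [mul_assoc (r1 * r2), q_33, mul_one] at h

section dims

variable {ε : k} (hε : ∀ v, ρ ng v = ε • v) (h1 : ε * ε = 1)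
include hε h1

theorem r3_of {δ₁ δ₂ : k} {v : V} (hv : v ∈ Wt ρ δ₁ δ₂) : ρ r3 v = (ε * δ₁ * δ₂) • v := by
  obtain ⟨h2, h3⟩ := mem_Wt.1 hv
  have h4 := ap22 ρ q_12_3 v
  rw [h3, map_smul, h2, hε, smul_smul] at h4
  have h5 := congrArg (fun x => ε • x) h4
  simp only [smul_smul, h1, one_smul] at h5
  rw [← h5]
  congr 1
  ring

theorem nn_wt {δ₁ δ₂ : k} {v : V} (hv : v ∈ Wt ρ δ₁ δ₂) : ρ nn v ∈ Wt ρ (ε * δ₁ * δ₂) δ₁ := by
  obtain ⟨h2, h3⟩ := mem_Wt.1 hv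
  refine mem_Wt.2 ⟨?_, ?_⟩
  · rw [← ap22 ρ q_n3, r3_of hε h1 hv, map_smul]
  · rw [← ap22 ρ q_n1, h2, map_smul]

variable [FiniteDimensional k V] (h2 : (2 : k) ≠ 0)
include h2

theorem dim_formula : finrank k V = finrank k (Wt ρ ε ε) + 3 * finrank k (Wt ρ ε (-ε)) := by
  have hε0 : ε ≠ 0 := by rintro rfl; rw [mul_zero] at h1; exact one_ne_zero h1.symm
  have hsq : ∀ w : W, w * w = 1 → ∀ v : V, ρ w (ρ w v) = (ε * ε) • v := fun w hw v => by
    rw [ap20 ρ hw, h1, one_smul]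
  have e0 := finrank_split (r := ρ r1) (S := (⊤ : Submodule k V)) (μ := ε) h2 hε0 (fun _ _ => trivial)
    (fun v _ => hsq r1 q_11 v)
  have hs : ∀ δ : k, finrank k (Ep ⊤ (ρ r1) δ) = finrank k (Wt ρ δ ε) + finrank k (Wt ρ δ (-ε)) := fun δ =>
    finrank_split (r := ρ r2) (μ := ε) h2 hε0 (fun v hv => ⟨trivial, by
      rw [ap22 ρ q_12, hv.2, map_smul]⟩) (fun v _ => hsq r2 q_22 v)
  have hn : ∀ δ₁ δ₂ : k, finrank k (Wt ρ δ₁ δ₂) ≤ finrank k (Wt ρ (ε * δ₁ * δ₂) δ₁) := fun δ₁ δ₂ =>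
    finrank_le_of_inj (y := ρ nn) (fun v hv => nn_wt hε h1 hv) (fun v hv => inj ρ nn hv)
  have a1 := hn ε (-ε)
  have a2 := hn (-ε) ε
  have a3 := hn (-ε) (-ε)
  have b1 : ε * ε * -ε = -ε := by linear_combination -ε * h1
  have b2 : ε * -ε * ε = -ε := by linear_combination -ε * h1
  have b3 : ε * -ε * -ε = ε := by linear_combination ε * h1
  rw [b1] at a1
  rw [b2] at a2
  rw [b3] at a3
  rw [finrank_top, hs ε, hs (-ε)] at e0
  omega

end dims

section four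

variable [FiniteDimensional k V] (h2 : (2 : k) ≠ 0)

theorem anti_of {a b : W} {z : W} (e : a * b = z * b * a) {v : V} (hz : ρ z (ρ b (ρ a v)) = -ρ b (ρ a v)) :
    ρ a (ρ b v) = -ρ b (ρ a v) := by
  rw [← ap2, e, ap2, ap2, hz]

theorem stab_wt {w : W} (e1 : w * r1 = r1 * w) (e2 : w * r2 = r2 * w) {δ₁ δ₂ : k} {v : V} (hv : v ∈ Wt ρ δ₁ δ₂) :
    ρ w v ∈ Wt ρ δ₁ δ₂ := by
  obtain ⟨h3, h4⟩ := mem_Wt.1 hv
  refine mem_Wt.2 ⟨?_, ?_⟩
  · rw [← ap22 ρ e1, h3, map_smul]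
  · rw [← ap22 ρ e2, h4, map_smul]

include h2

/-- two pairs of anticommuting operators -/
theorem four_dvd {S : Submodule k V} {x₁ y₁ x₂ y₂ : W} (hx₁ : ∀ v ∈ S, ρ x₁ v ∈ S) (hy₁ : ∀ v ∈ S, ρ y₁ v ∈ S)
    (hx₂ : ∀ v ∈ S, ρ x₂ v ∈ S) (hy₂ : ∀ v ∈ S, ρ y₂ v ∈ S) (hs₁ : ∀ v ∈ S, ρ x₁ (ρ x₁ v) = v)
    (hs₂ : ∀ v ∈ S, ρ x₂ (ρ x₂ v) = v) (ha₁ : ∀ v ∈ S, ρ x₁ (ρ y₁ v) = -ρ y₁ (ρ x₁ v))
    (ha₂ : ∀ v ∈ S, ρ x₂ (ρ y₂ v) = -ρ y₂ (ρ x₂ v)) (hc₁ : ∀ v ∈ S, ρ x₁ (ρ x₂ v) = ρ x₂ (ρ x₁ v))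
    (hc₂ : ∀ v ∈ S, ρ x₁ (ρ y₂ v) = ρ y₂ (ρ x₁ v)) : ∃ d, finrank k S = 4 * d := by
  have e1 := finrank_swap (r := ρ x₁) (y := ρ y₁) (S := S) (μ := 1) h2 one_ne_zero hx₁
    (fun v hv => by rw [hs₁ v hv, mul_one, one_smul]) hy₁ (fun v hv => inj ρ _ hv) ha₁
  have e2 := finrank_swap (r := ρ x₂) (y := ρ y₂) (S := Ep S (ρ x₁) 1) (μ := 1) h2 one_ne_zero
    (fun v hv => ⟨hx₂ v hv.1, by rw [hc₁ v hv.1, hv.2, map_smul]⟩)
    (fun v hv => by rw [hs₂ v hv.1, mul_one, one_smul])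
    (fun v hv => ⟨hy₂ v hv.1, by rw [hc₂ v hv.1, hv.2, map_smul]⟩) (fun v hv => inj ρ _ hv) (fun v hv => ha₂ v hv.1)
  exact ⟨_, by rw [e1, e2]; ring⟩

/-- the case `ρ(-1) = 1` -/
theorem triv_dim (hng : ∀ v, ρ ng v = v) (hdim : finrank k V = 12) :
    Wt ρ (1 : k) 1 = ⊥ ∨ Wt ρ (1 : k) 1 = ⊤ := by
  have hε : ∀ v, ρ ng v = (1 : k) • v := fun v => by rw [hng, one_smul]
  have h3 : ∀ {v : V}, v ∈ Wt ρ (1 : k) (-1) → ρ r3 v = -v := fun {v} hv => by
    rw [r3_of hε (one_mul 1) hv, one_mul, one_mul, neg_one_smul]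
  have hr2 : ∀ {v : V}, v ∈ Wt ρ (1 : k) (-1) → ρ r2 v = -v := fun {v} hv => by
    rw [(mem_Wt.1 hv).2, neg_one_smul]
  have hr1 : ∀ {v : V}, v ∈ Wt ρ (1 : k) (-1) → ρ r1 v = v := fun {v} hv => by
    rw [(mem_Wt.1 hv).1, one_smul]
  have sI : ∀ v ∈ Wt ρ (1 : k) (-1), ρ Ii v ∈ Wt ρ (1 : k) (-1) := fun v hv => stab_wt q_I1 q_I2 hv
  have sJ : ∀ v ∈ Wt ρ (1 : k) (-1), ρ Jj v ∈ Wt ρ (1 : k) (-1) := fun v hv => stab_wt q_J1 q_J2 hv
  have sj : ∀ v ∈ Wt ρ (1 : k) (-1), ρ J2' v ∈ Wt ρ (1 : k) (-1) := fun v hv => stab_wt q_j1 q_j2 hv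
  have k1 : I3 * r1 = r1 * I3 := by
    rw [q_k, mul_assoc (Ii * I2), ← q_13, ← mul_assoc (Ii * I2), mul_assoc Ii I2 r1, q_i1, ← mul_assoc, q_I1]
    group
  have k2 : I3 * r2 = r2 * I3 := by
    rw [q_k, mul_assoc (Ii * I2), ← q_23, ← mul_assoc (Ii * I2), mul_assoc Ii I2 r2, q_i2, ← mul_assoc, q_I2]
    group
  have sk : ∀ v ∈ Wt ρ (1 : k) (-1), ρ I3 v ∈ Wt ρ (1 : k) (-1) := fun v hv => stab_wt k1 k2 hv
  obtain ⟨d, hd⟩ := four_dvd (ρ := ρ) h2 (S := Wt ρ (1 : k) (-1)) (x₁ := Ii) (y₁ := J2') (x₂ := Jj) (y₂ := I3)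
    sI sj sJ sk
    (fun v hv => by rw [ap22 ρ q_II, h3 hv, map_neg, hr2 hv, neg_neg])
    (fun v hv => by rw [ap22 ρ q_JJ, h3 hv, map_neg, hr2 hv, neg_neg])
    (fun v hv => anti_of q_Ij (h3 (sj _ (sI _ hv))))
    (fun v hv => anti_of q_Jk (hr2 (sk _ (sJ _ hv))))
    (fun v hv => by
      rw [← ap2, q_IJ, ap2, ap2, ap2, h3 (sJ _ (sI _ hv)), map_neg, hr2 (sJ _ (sI _ hv)), neg_neg])
    (fun v hv => by rw [ap22 ρ q_Ik])
  have h4 := dim_formula hε (one_mul 1) h2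
  rw [hd, hdim] at h4
  have h5 : finrank k (Wt ρ (1 : k) 1) = 0 ∨ finrank k (Wt ρ (1 : k) 1) = 12 := by omega
  rcases h5 with h5 | h5
  · exact Or.inl (Submodule.finrank_eq_zero.1 h5)
  · exact Or.inr (Submodule.eq_top_of_finrank_eq (by rw [h5, hdim]))

/-- the case `ρ(-1) = -1` -/
theorem neg_dim (hng : ∀ v, ρ ng v = -v) (hdim : finrank k V = 12) {ι : k} (hι : ι * ι = -1) :
    Wt ρ (-1 : k) (-1) = ⊥ ∨ Wt ρ (-1 : k) (-1) = ⊤ := by
  have hε : ∀ v, ρ ng v = (-1 : k) • v := fun v => by rw [hng, neg_one_smul]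
  have hε1 : (-1 : k) * -1 = 1 := by norm_num
  have hι0 : ι ≠ 0 := by rintro rfl; rw [mul_zero] at hι; exact one_ne_zero (neg_eq_zero.1 hι.symm)
  have h3 : ∀ {v : V}, v ∈ Wt ρ (-1 : k) (-1) → ρ r3 v = -v := fun {v} hv => by
    rw [r3_of hε hε1 hv, hε1, one_mul, neg_one_smul]
  have hr2 : ∀ {v : V}, v ∈ Wt ρ (-1 : k) (-1) → ρ r2 v = -v := fun {v} hv => by
    rw [(mem_Wt.1 hv).2, neg_one_smul]
  have hr1 : ∀ {v : V}, v ∈ Wt ρ (-1 : k) (-1) → ρ r1 v = -v := fun {v} hv => by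
    rw [(mem_Wt.1 hv).1, neg_one_smul]
  have sI : ∀ v ∈ Wt ρ (-1 : k) (-1), ρ Ii v ∈ Wt ρ (-1 : k) (-1) := fun v hv => stab_wt q_I1 q_I2 hv
  have sJ : ∀ v ∈ Wt ρ (-1 : k) (-1), ρ Jj v ∈ Wt ρ (-1 : k) (-1) := fun v hv => stab_wt q_J1 q_J2 hv
  have si : ∀ v ∈ Wt ρ (-1 : k) (-1), ρ I2 v ∈ Wt ρ (-1 : k) (-1) := fun v hv => stab_wt q_i1 q_i2 hv
  have sj : ∀ v ∈ Wt ρ (-1 : k) (-1), ρ J2' v ∈ Wt ρ (-1 : k) (-1) := fun v hv => stab_wt q_j1 q_j2 hv
  obtain ⟨d, hd⟩ := four_dvd (ρ := ρ) h2 (S := Wt ρ (-1 : k) (-1)) (x₁ := I2) (y₁ := Jj) (x₂ := J2') (y₂ := Ii)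
    si sJ sj sI
    (fun v hv => by rw [ap22 ρ q_ii, h3 hv, map_neg, hr1 hv, neg_neg])
    (fun v hv => by rw [ap22 ρ q_jj, h3 hv, map_neg, hr1 hv, neg_neg])
    (fun v hv => anti_of q_iJ (h3 (sJ _ (si _ hv))))
    (fun v hv => by
      have := anti_of (ρ := ρ) q_Ij (v := v) (h3 (sj _ (sI _ hv)))
      rw [this, neg_neg])
    (fun v hv => by
      rw [← ap2, q_ij, ap2, ap2, ap2, h3 (sj _ (si _ hv)), map_neg, hr1 (sj _ (si _ hv)), neg_neg])
    (fun v hv => by rw [ap22 ρ q_Ii])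
  -- the other weight
  have g3 : ∀ {v : V}, v ∈ Wt ρ (-1 : k) 1 → ρ r3 v = v := fun {v} hv => by
    rw [r3_of hε hε1 hv, hε1, one_mul, one_smul]
  have g1 : ∀ {v : V}, v ∈ Wt ρ (-1 : k) 1 → ρ r1 v = -v := fun {v} hv => by
    rw [(mem_Wt.1 hv).1, neg_one_smul]
  have ti : ∀ v ∈ Wt ρ (-1 : k) 1, ρ I2 v ∈ Wt ρ (-1 : k) 1 := fun v hv => stab_wt q_i1 q_i2 hv
  have tj : ∀ v ∈ Wt ρ (-1 : k) 1, ρ J2' v ∈ Wt ρ (-1 : k) 1 := fun v hv => stab_wt q_j1 q_j2 hv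
  have e1 := finrank_swap (r := ρ I2) (y := ρ J2') (S := Wt ρ (-1 : k) 1) (μ := ι) h2 hι0 ti
    (fun v hv => by rw [ap22 ρ q_ii, g3 hv, g1 hv, hι, neg_one_smul]) tj (fun v hv => inj ρ _ hv)
    (fun v hv => by
      rw [← ap2, q_ij, ap2, ap2, ap2, g3 (tj _ (ti _ hv)), g1 (tj _ (ti _ hv))])
  have h4 := dim_formula hε hε1 h2
  rw [neg_neg, hd, e1, hdim] at h4
  have h5 : finrank k (Wt ρ (-1 : k) (-1)) = 0 ∨ finrank k (Wt ρ (-1 : k) (-1)) = 12 := by omega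
  rcases h5 with h5 | h5
  · exact Or.inl (Submodule.finrank_eq_zero.1 h5)
  · exact Or.inr (Submodule.eq_top_of_finrank_eq (by rw [h5, hdim]))

end four

end Cfsg.Agent.H905.JD
end

-- part: H905/JDTriv
section
/-!
# The Hall-Janko group has no irreducible representation of degree twelve in odd characteristic (helper905)
-/

set_option autoImplicit false
set_option linter.unusedSectionVars false

namespace Cfsg.Agent.H905.JD

open Subgroup Cfsg.Spor Cfsg.Agent.J2.ZTau Cfsg.Agent.J2.Ico Cfsg.Agent.J2.Lattice Cfsg.Agent.J2.Refl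
  Cfsg.Agent.J2.Group Cfsg.Agent.J2.Stab Cfsg.Agent.J2.SixGens Cfsg.Agent.H1.J2Lift
open Module

variable {k V : Type*} [Field k] [AddCommGroup V] [Module k V] {ρ : W →* Module.End k V}

theorem inv_comm {a b : W} (e : a * b = b * a) {v : V} {δ : k} (h : ρ b v = δ • v) : ρ b (ρ a⁻¹ v) = δ • ρ a⁻¹ v := by
  have e' : b * a⁻¹ = a⁻¹ * b := by
    rw [eq_inv_mul_iff_mul_eq, ← mul_assoc, e, mul_inv_cancel_right]
  rw [ap22 ρ e', h, map_smul]

theorem comm_apply {a b : W} (e : a * b = b * a) {v : V} {δ : k} (h : ρ b v = δ • v) : ρ b (ρ a v) = δ • ρ a v := by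
  rw [← ap22 ρ e, h, map_smul]

theorem eq_zero_of_two (h2 : (2 : k) ≠ 0) {v : V} (h : v = -v) : v = 0 := by
  have h3 : (2 : k) • v = 0 := by
    rw [two_smul]
    nth_rewrite 1 [h]
    rw [neg_add_cancel]
  exact (smul_eq_zero.1 h3).resolve_left h2

theorem triv_fix (h2 : (2 : k) ≠ 0) (hz : ∀ v, ρ r1 v = v → ρ r2 v = v → v = 0) {v : V} (hv : ρ r1 v = v) : v = 0 := by
  have c1 : ∀ {a : W}, a * r1 = r1 * a → ∀ {u : V}, ρ r1 u = u → ρ r1 (ρ a u) = ρ a u := fun {a} e {u} h => by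
    have := comm_apply (ρ := ρ) e (v := u) (δ := 1) (by rw [h, one_smul])
    rwa [one_smul] at this
  have c2 : ∀ {a : W}, a * r1 = r1 * a → ∀ {u : V}, ρ r1 u = u → ρ r1 (ρ a⁻¹ u) = ρ a⁻¹ u := fun {a} e {u} h => by
    have := inv_comm (ρ := ρ) e (v := u) (δ := 1) (by rw [h, one_smul])
    rwa [one_smul] at this
  have f2 : ∀ {u : V}, ρ r1 u = u → ρ r2 u = -u := fun {u} h => by
    have h3 := hz (u + ρ r2 u) (by rw [map_add, ap22 ρ q_12, h]) (by
      rw [map_add, ap20 ρ q_22, add_comm])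
    rw [eq_neg_iff_add_eq_zero, add_comm, h3]
  have ft : ∀ {u : V}, ρ r1 u = u → ρ sw u = -u := fun {u} h => by
    rw [← inj_iff ρ gg, ← ap22 ρ q_2G, f2 (c1 q_G1 h), map_neg]
  have fI : ∀ {u : V}, ρ r1 u = u → ρ Ii u = -u := fun {u} h => by
    have e := ap ρ q_x2 (ρ xx⁻¹ u)
    rw [ap2, f2 (c2 q_x1 h), map_neg, inv_r, ap2, inv_r, ap2, ap2, ft (c1 q_I1 h), map_neg, f2 (c1 q_I1 h),
      neg_neg] at e
    exact e.symm
  have fJ : ∀ {u : V}, ρ r1 u = u → ρ Jj u = -u := fun {u} h => by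
    have e := ap22 ρ q_cI (ρ om⁻¹ u)
    rw [fI (c2 q_c1 h), map_neg, inv_r] at e
    exact e.symm
  have e := ap ρ q_cJ (ρ om⁻¹ v)
  rw [ap2, fJ (c2 q_c1 hv), map_neg, inv_r, ap2, inv_r, ap2, fJ hv, map_neg, fI hv, neg_neg] at e
  exact eq_zero_of_two h2 e.symm

/-- **the Hall-Janko group** -/
theorem triv_false [FiniteDimensional k V] (h2 : (2 : k) ≠ 0) (hng : ∀ v, ρ ng v = v) (hdim : finrank k V = 12)
    (hirr : ∀ L : Submodule k V, (∀ g, ∀ v ∈ L, ρ g v ∈ L) → L = ⊥ ∨ L = ⊤) : False := by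
  rcases triv_dim h2 hng hdim with h | h
  · have hz : ∀ v, ρ r1 v = v → ρ r2 v = v → v = 0 := by
      intro v h3 h4
      have h5 : v ∈ Wt ρ (1 : k) 1 := mem_Wt.2 ⟨by rw [h3, one_smul], by rw [h4, one_smul]⟩
      rwa [h] at h5
    have h3 : Wt ρ (1 : k) (-1) = ⊥ := by
      rw [eq_bot_iff]
      intro v hv
      rw [Submodule.mem_bot]
      exact triv_fix h2 hz (by rw [(mem_Wt.1 hv).1, one_smul])
    have h4 := dim_formula (ρ := ρ) (ε := (1 : k)) (fun v => by rw [hng, one_smul]) (one_mul 1) h2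
    rw [h, h3, finrank_bot, hdim] at h4
    omega
  · have hr : ρ r1 = 1 := by
      ext v
      have h3 : v ∈ Wt ρ (1 : k) 1 := by rw [h]; trivial
      rw [(mem_Wt.1 h3).1, one_smul]; rfl
    have hn : ρ ng = 1 := by
      ext v
      rw [hng]; rfl
    have hk : ρ.ker = ⊤ := gen_normal inferInstance hn hr
    have hg : ∀ g v, ρ g v = v := fun g v => by
      have h3 : g ∈ ρ.ker := by rw [hk]; trivial
      rw [MonoidHom.mem_ker.1 h3]; rfl
    have : Nontrivial V := Module.nontrivial_of_finrank_pos (R := k) (by rw [hdim]; norm_num)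
    obtain ⟨v, hv⟩ := exists_ne (0 : V)
    rcases hirr (Submodule.span k {v}) (fun g u hu => by rwa [hg]) with h3 | h3
    · rw [Submodule.span_singleton_eq_bot] at h3
      exact hv h3
    · have h4 := finrank_span_singleton (K := k) hv
      rw [h3, finrank_top, hdim] at h4
      omega

end Cfsg.Agent.H905.JD
end

-- part: H905/JDNeg
section
/-!
# The double cover of the Hall-Janko group has no irreducible representation of degree twelve in odd characteristic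
(helper905)

`V₁ = {r1 = -1}`, `E₁ = {r1 = 1}`. The centraliser of `r1` acts on `E₁` by explicit elements of the algebra of the
extraspecial group `⟨r2, sw, Ii, Jj⟩` (`G_act`); this gives `c = -(1 + I + J + IJ)/2` (`two_c`), and on `V₁` a
two-dimensional invariant subspace.
-/

set_option autoImplicit false
set_option linter.unusedSectionVars false

namespace Cfsg.Agent.H905.JD

open Subgroup Cfsg.Spor Cfsg.Agent.J2.ZTau Cfsg.Agent.J2.Ico Cfsg.Agent.J2.Lattice Cfsg.Agent.J2.Refl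
  Cfsg.Agent.J2.Group Cfsg.Agent.J2.Stab Cfsg.Agent.J2.SixGens Cfsg.Agent.H1.J2Lift
open Module

variable {k V : Type*} [Field k] [AddCommGroup V] [Module k V] {ρ : W →* Module.End k V}

/-! ### the representation of the centraliser on the eigenspaces of `r1` -/

/-- the centraliser of `r1` -/
noncomputable def Ce : Subgroup W := centralizer {r1}

theorem mem_Ce {w : W} : w ∈ Ce ↔ w * r1 = r1 * w := by
  rw [Ce, mem_centralizer_iff]
  constructor
  · intro h; exact (h r1 rfl).symm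
  · rintro h _ rfl; exact h.symm

/-- restriction to an eigenspace -/
noncomputable def res (ρ : W →* Module.End k V) (δ : k) : Ce →* Module.End k (Ep (⊤ : Submodule k V) (ρ r1) δ) where
  toFun w := (ρ w).restrict (p := Ep (⊤ : Submodule k V) (ρ r1) δ) (fun _ hv =>
    ⟨trivial, comm_apply (mem_Ce.1 w.2) hv.2⟩)
  map_one' := by
    ext v
    change ρ ((1 : Ce) : W) v.1 = v.1
    rw [OneMemClass.coe_one, map_one]; rfl
  map_mul' a b := by
    ext v
    change ρ ((a * b : Ce) : W) v.1 = ρ a (ρ b v.1)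
    rw [Subgroup.coe_mul, ap2]

section

variable (h2 : (2 : k) ≠ 0) (hng : ∀ v, ρ ng v = -v) (hz : ∀ v, ρ r1 v = -v → ρ r2 v = -v → v = 0)

include h2 hng hz

theorem f1 {a : W} (e : a * r1 = r1 * a) {u : V} (h : ρ r1 u = -u) : ρ r1 (ρ a u) = -ρ a u := by
  have := comm_apply (ρ := ρ) e (v := u) (δ := -1) (by rw [h, neg_one_smul])
  rwa [neg_one_smul] at this

theorem f1' {a : W} (e : a * r1 = r1 * a) {u : V} (h : ρ r1 u = -u) : ρ r1 (ρ a⁻¹ u) = -ρ a⁻¹ u := by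
  have := inv_comm (ρ := ρ) e (v := u) (δ := -1) (by rw [h, neg_one_smul])
  rwa [neg_one_smul] at this

theorem p1 {a : W} (e : a * r1 = r1 * a) {u : V} (h : ρ r1 u = u) : ρ r1 (ρ a u) = ρ a u := by
  have := comm_apply (ρ := ρ) e (v := u) (δ := 1) (by rw [h, one_smul])
  rwa [one_smul] at this

theorem p1' {a : W} (e : a * r1 = r1 * a) {u : V} (h : ρ r1 u = u) : ρ r1 (ρ a⁻¹ u) = ρ a⁻¹ u := by
  have := inv_comm (ρ := ρ) e (v := u) (δ := 1) (by rw [h, one_smul])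
  rwa [one_smul] at this

theorem v_r2 {u : V} (h : ρ r1 u = -u) : ρ r2 u = u := by
  have h3 := hz (u - ρ r2 u) (by rw [map_sub, ap22 ρ q_12, h, map_neg]; abel) (by
    rw [map_sub, ap20 ρ q_22]; abel)
  exact (sub_eq_zero.1 h3).symm

theorem v_r3 {u : V} (h : ρ r1 u = -u) : ρ r3 u = u := by
  have e := ap22 ρ q_12_3 u
  rw [v_r2 h2 hng hz h, h, hng] at e
  exact (neg_injective e).symm

theorem v_sw {u : V} (h : ρ r1 u = -u) : ρ sw u = u := by
  rw [← inj_iff ρ gg, ← ap22 ρ q_2G, v_r2 h2 hng hz (f1 h2 hng hz q_G1 h)]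

theorem v_I {u : V} (h : ρ r1 u = -u) : ρ Ii u = u := by
  have e := ap ρ q_x2 (ρ xx⁻¹ u)
  rw [ap2, v_r2 h2 hng hz (f1' h2 hng hz q_x1 h), inv_r, ap2, inv_r, ap2, ap2,
    v_sw h2 hng hz (f1 h2 hng hz q_I1 h), v_r2 h2 hng hz (f1 h2 hng hz q_I1 h)] at e
  exact e.symm

theorem v_J {u : V} (h : ρ r1 u = -u) : ρ Jj u = u := by
  have e := ap22 ρ q_cI (ρ om⁻¹ u)
  rw [v_I h2 hng hz (f1' h2 hng hz q_c1 h), inv_r] at e
  exact e.symm

/-! ### the second and third line -/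

theorem to_one {u : V} (h : ρ r2 u = -u) : ρ r1 (ρ nn⁻¹ u) = -ρ nn⁻¹ u := by
  have e : r1 * nn⁻¹ = nn⁻¹ * r2 := by
    rw [eq_inv_mul_iff_mul_eq, ← mul_assoc, q_n1, mul_inv_cancel_right]
  rw [ap22 ρ e, h, map_neg]

theorem two_I2 {u : V} (h : ρ r2 u = -u) : ρ I2 u = u := by
  have h3 := to_one h2 hng hz h
  rw [I2, ap2, ap2, v_I h2 hng hz h3, inv_r]

theorem two_r3 {u : V} (h : ρ r2 u = -u) : ρ r3 u = u := by
  have h3 := v_r2 h2 hng hz (to_one h2 hng hz h)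
  have e := ap22 ρ q_n2 (ρ nn⁻¹ u)
  rw [h3, inv_r] at e
  exact e.symm

theorem e_r23 {u : V} (h : ρ r1 u = u) : ρ r2 (ρ r3 u) = -u := by
  have e := ap ρ q_123 u
  have e2 : r1 * r2 * r3 = r2 * r3 * r1 := by
    rw [q_12, mul_assoc, q_13, ← mul_assoc]
  rw [e2, ap2, h, ap2, hng] at e
  exact e

theorem two_I3 {u : V} (h : ρ r1 u = u) : (2 : k) • ρ I3 u = ρ Ii (u - ρ r2 u) + (u + ρ r2 u) := by
  have hp : ρ r2 (u - ρ r2 u) = -(u - ρ r2 u) := by rw [map_sub, ap20 ρ q_22]; abel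
  have hq : ρ r2 (u + ρ r2 u) = u + ρ r2 u := by rw [map_add, ap20 ρ q_22]; abel
  have h3 : ρ I3 (u - ρ r2 u) = ρ Ii (u - ρ r2 u) := by
    rw [ap ρ q_k, ap2, two_r3 h2 hng hz hp, ap2, two_I2 h2 hng hz hp]
  have h4 : ρ I3 (u + ρ r2 u) = u + ρ r2 u := by
    have h5 : ρ r1 (u + ρ r2 u) = u + ρ r2 u := by rw [map_add, ap22 ρ q_12, h]
    have h6 : ρ r3 (u + ρ r2 u) = -(u + ρ r2 u) := by
      have e := e_r23 h2 hng hz h5
      rw [ap22 ρ q_23, hq] at e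
      exact e
    have h7 : ρ r1 (ρ nn (u + ρ r2 u)) = -ρ nn (u + ρ r2 u) := by
      rw [← ap22 ρ q_n3, h6, map_neg]
    rw [I3, ap2, ap2, v_I h2 hng hz h7, inv_l]
  have h5 : ρ I3 (u - ρ r2 u) + (u + ρ r2 u) = ρ I3 (u - ρ r2 u) + ρ I3 (u + ρ r2 u) := by rw [h4]
  rw [← h3, h5, ← map_add, ← map_smul]
  congr 1
  rw [two_smul]; abel

/-- the action of `gg` on `E₁` -/
theorem G_act {v : V} (h : ρ r1 v = v) : (2 : k) • ρ gg v =
    -(ρ Ii (ρ Jj (ρ Ii v)) + ρ r2 (ρ sw (ρ Jj (ρ Ii v))) + ρ Jj (ρ Ii v) +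
      ρ r2 (ρ sw (ρ Ii (ρ Jj (ρ Ii v))))) := by
  set w := ρ Jj (ρ Ii v) with hw
  have hw1 : ρ r1 w = w := p1 h2 hng hz q_J1 (p1 h2 hng hz q_I1 h)
  set u := ρ xx⁻¹ w with hu
  have hu1 : ρ r1 u = u := p1' h2 hng hz q_x1 hw1
  have hxu : ρ xx u = w := inv_r ρ xx w
  have e1 : ρ gg v = -ρ xx (ρ I3 u) := by
    rw [ap ρ q_G, ap2, hng, ap2, ap2, ap2, ap2]
  have e2 := two_I3 h2 hng hz hu1
  have e3 : ρ xx (ρ r2 u) = ρ r2 (ρ sw (ρ Ii w)) := by
    rw [← ap2, q_x2, ap2, hxu, ap2, ap2]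
  have e4 : ρ Ii (ρ r2 (ρ sw (ρ Ii w))) = -ρ r2 (ρ sw w) := by
    rw [ap22 ρ q_I2, ← ap22 ρ q_tI, ap22 ρ q_II]
    have h5 := e_r23 h2 hng hz hw1
    rw [h5, map_neg, map_neg]
  rw [e1, smul_neg, ← map_smul, e2, map_add, map_add, ← ap22 ρ q_xI.symm, map_sub, map_sub, hxu, e3, e4]
  abel

/-! ### the element of order three -/

/-- the action of `om` on `E₁` -/
theorem om_act {v : V} (h : ρ r1 v = v) :
    (2 : k) • ρ om v = -(v + ρ Ii v + ρ Jj v + ρ Ii (ρ Jj v)) := by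
  let cI : Ce := ⟨Ii, mem_Ce.2 q_I1⟩
  let cJ : Ce := ⟨Jj, mem_Ce.2 q_J1⟩
  let c2 : Ce := ⟨r2, mem_Ce.2 q_12.symm⟩
  let ct : Ce := ⟨sw, mem_Ce.2 q_t1⟩
  let co : Ce := ⟨om, mem_Ce.2 q_c1⟩
  let cG : Ce := ⟨gg, mem_Ce.2 q_G1⟩
  have hv : ∀ x : Ep (⊤ : Submodule k V) (ρ r1) 1, ρ r1 (x : V) = x := fun x => by
    rw [x.2.2, one_smul]
  have hI : res ρ 1 cI * res ρ 1 cI = -1 := by
    ext x
    change ρ Ii (ρ Ii (x : V)) = -(x : V)
    rw [ap22 ρ q_II, e_r23 h2 hng hz (hv x)]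
  have hJ : res ρ 1 cJ * res ρ 1 cJ = -1 := by
    ext x
    change ρ Jj (ρ Jj (x : V)) = -(x : V)
    rw [ap22 ρ q_JJ, e_r23 h2 hng hz (hv x)]
  have hJI : res ρ 1 cJ * res ρ 1 cI = -(res ρ 1 cI * res ρ 1 cJ) := by
    ext x
    change ρ Jj (ρ Ii (x : V)) = -ρ Ii (ρ Jj (x : V))
    have e := ap ρ q_IJ (x : V)
    rw [ap2, ap2, ap2, ap2, e_r23 h2 hng hz (p1 h2 hng hz q_J1 (p1 h2 hng hz q_I1 (hv x)))] at e
    rw [e, neg_neg]
  have hbI : (res ρ 1 c2 * res ρ 1 ct) * res ρ 1 cI = res ρ 1 cI * (res ρ 1 c2 * res ρ 1 ct) := by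
    ext x
    change ρ r2 (ρ sw (ρ Ii (x : V))) = ρ Ii (ρ r2 (ρ sw (x : V)))
    rw [ap22 ρ q_tI, ← ap22 ρ q_I2]
  have hbJ : (res ρ 1 c2 * res ρ 1 ct) * res ρ 1 cJ = res ρ 1 cJ * (res ρ 1 c2 * res ρ 1 ct) := by
    ext x
    change ρ r2 (ρ sw (ρ Jj (x : V))) = ρ Jj (ρ r2 (ρ sw (x : V)))
    rw [ap22 ρ q_tJ, ← ap22 ρ q_J2]
  have hbb : (res ρ 1 c2 * res ρ 1 ct) * (res ρ 1 c2 * res ρ 1 ct) = -1 := by
    ext x
    change ρ r2 (ρ sw (ρ r2 (ρ sw (x : V)))) = -(x : V)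
    have e := ap22 ρ q_t2 (ρ sw (x : V))
    rw [e, ap20 ρ q_tt, e_r23 h2 hng hz (hv x)]
  have hG : (2 : k) • res ρ 1 cG =
      -((1 + res ρ 1 c2 * res ρ 1 ct) * (res ρ 1 cJ + res ρ 1 cJ * res ρ 1 cI)) := by
    ext x
    change (2 : k) • ρ gg (x : V) = -((ρ Jj (x : V) + ρ Jj (ρ Ii (x : V))) +
      ρ r2 (ρ sw (ρ Jj (x : V) + ρ Jj (ρ Ii (x : V)))))
    have e : ρ Ii (ρ Jj (ρ Ii (x : V))) = ρ Jj (x : V) := by
      have e1 : ρ Jj (ρ Ii (ρ Ii (x : V))) = -ρ Ii (ρ Jj (ρ Ii (x : V))) :=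
        congrArg (fun y : Ep (⊤ : Submodule k V) (ρ r1) 1 => (y : V))
          (LinearMap.congr_fun hJI (res ρ 1 cI x))
      rw [ap22 ρ q_II, e_r23 h2 hng hz (hv x), map_neg] at e1
      exact (neg_injective e1).symm
    rw [G_act h2 hng hz (hv x), e, map_add, map_add]
    congr 1
    abel
  have hcI : res ρ 1 co * res ρ 1 cI = res ρ 1 cJ * res ρ 1 co := by
    rw [← map_mul, ← map_mul]
    exact congrArg _ (Subtype.ext q_cI)
  have hcJ : res ρ 1 co * res ρ 1 cJ = res ρ 1 cI * res ρ 1 cJ * res ρ 1 co := by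
    rw [← map_mul, ← map_mul, ← map_mul]
    exact congrArg _ (Subtype.ext q_cJ)
  have hcb : res ρ 1 co * (res ρ 1 c2 * res ρ 1 ct) = (res ρ 1 c2 * res ρ 1 ct) * res ρ 1 co := by
    rw [← map_mul, ← map_mul, ← map_mul]
    refine congrArg _ (Subtype.ext ?_)
    change om * (r2 * sw) = r2 * sw * om
    rw [← mul_assoc, q_c2, mul_assoc, q_ct, ← mul_assoc]
  have hcG : res ρ 1 co * res ρ 1 cG * res ρ 1 co = res ρ 1 cG := by
    rw [← map_mul, ← map_mul]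
    exact congrArg _ (Subtype.ext q_cGc)
  have hccc : res ρ 1 co * res ρ 1 co * res ρ 1 co = 1 := by
    rw [← map_mul, ← map_mul, ← map_one (res ρ 1)]
    exact congrArg _ (Subtype.ext q_ccc)
  have key := two_c (k := k) h2 hI hJ hJI hbI hbJ hbb hG hcI hcJ hcb hcG hccc
  have e := congrArg (fun y : Ep (⊤ : Submodule k V) (ρ r1) 1 => (y : V))
    (LinearMap.congr_fun key ⟨v, trivial, by rw [h, one_smul]⟩)
  exact e

theorem v_I3 {u : V} (h : ρ r1 u = -u) : ρ I3 u = ρ I2 u := by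
  rw [ap ρ q_k, ap2, v_r3 h2 hng hz h, ap2, v_I h2 hng hz (f1 h2 hng hz q_i1 h)]

theorem v_J3 {u : V} (h : ρ r1 u = -u) : ρ J3' u = ρ J2' u := by
  rw [ap ρ q_l, ap2, v_r3 h2 hng hz h, ap2, v_J h2 hng hz (f1 h2 hng hz q_j1 h)]

/-- the action of `om` on `V₁` -/
theorem om_one {v : V} (h : ρ r1 v = -v) :
    (2 : k) • ρ om v = -(v + ρ I2 v + ρ J2' v + ρ I2 (ρ J2' v)) := by
  have h1 : ρ r1 (ρ nn v) = ρ nn v := by rw [← ap22 ρ q_n3, v_r3 h2 hng hz h]
  have e := om_act h2 hng hz h1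
  rw [ap22 ρ q_cn] at e
  have e1 := congrArg (fun x => ρ nn⁻¹ x) e
  simp only [map_smul, map_neg, map_add, inv_l] at e1
  have e2 : ρ nn⁻¹ (ρ Ii (ρ nn v)) = ρ I2 v := by
    rw [← v_I3 h2 hng hz h, I3, ap2, ap2]
  have e3 : ρ nn⁻¹ (ρ Jj (ρ nn v)) = ρ J2' v := by
    rw [← v_J3 h2 hng hz h, J3', ap2, ap2]
  have e4 : ρ nn⁻¹ (ρ Ii (ρ Jj (ρ nn v))) = ρ I2 (ρ J2' v) := by
    rw [← v_I3 h2 hng hz (f1 h2 hng hz q_j1 h), I3, ap2, ap2, ← e3, inv_r]
  rw [e2, e3, e4] at e1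
  exact e1

end

end Cfsg.Agent.H905.JD
end

-- part: H905/JDPlane
section
/-!
# An invariant subspace of dimension at most six (helper905)
-/

set_option autoImplicit false
set_option linter.unusedSectionVars false

namespace Cfsg.Agent.H905.JD

open Subgroup Cfsg.Spor Cfsg.Agent.J2.ZTau Cfsg.Agent.J2.Ico Cfsg.Agent.J2.Lattice Cfsg.Agent.J2.Refl
  Cfsg.Agent.J2.Group Cfsg.Agent.J2.Stab Cfsg.Agent.J2.SixGens Cfsg.Agent.H1.J2Lift
open Module

section alg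

variable {k V : Type*} [Field k] [IsAlgClosed k] [AddCommGroup V] [Module k V] [FiniteDimensional k V] [Nontrivial V]

/-- a plane invariant under `i`, `j`, `s` -/
theorem exists_plane (h2 : (2 : k) ≠ 0) {i j s : Module.End k V} (hi : i * i = -1) (hj : j * j = -1)
    (hij : j * i = -(i * j)) (ha : s * (i + j + i * j) = -((i + j + i * j) * s)) (ht : s * i + i * s = -1) :
    ∃ v : V, v ≠ 0 ∧ (∀ u ∈ Submodule.span k {v, j v}, i u ∈ Submodule.span k {v, j v}) ∧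
      (∀ u ∈ Submodule.span k {v, j v}, j u ∈ Submodule.span k {v, j v}) ∧
      (∀ u ∈ Submodule.span k {v, j v}, s u ∈ Submodule.span k {v, j v}) := by
  obtain ⟨ι, hι⟩ := IsAlgClosed.exists_pow_nat_eq (-1 : k) two_pos
  have hι2 : ι * ι = -1 := by rw [← hι]; ring
  have hι0 : ι ≠ 0 := by rintro rfl; rw [mul_zero] at hι2; exact one_ne_zero (neg_eq_zero.1 hι2.symm)
  obtain ⟨haj, hai⟩ := comm_of_trace hi hj hij ha ht
  set a := s * j + j * s with hadef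
  obtain ⟨α, hα⟩ := Module.End.exists_eigenvalue a
  obtain ⟨u, hu⟩ := hα.exists_hasEigenvector
  have hau : a u = α • u := hu.apply_eq_smul
  have hi' : ∀ x, i (i x) = -x := fun x => LinearMap.congr_fun hi x
  have hj' : ∀ x, j (j x) = -x := fun x => LinearMap.congr_fun hj x
  have hij' : ∀ x, j (i x) = -i (j x) := fun x => LinearMap.congr_fun hij x
  have haj' : ∀ x, a (j x) = j (a x) := fun x => LinearMap.congr_fun haj x
  have hai' : ∀ x, a (i x) = i (a x) := fun x => LinearMap.congr_fun hai x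
  -- an eigenvector of `i`
  obtain ⟨v, hv0, hiv, hav⟩ : ∃ v : V, v ≠ 0 ∧ i v = ι • v ∧ a v = α • v := by
    by_cases h : i u + ι • u = 0
    · have h1 : i u = -(ι • u) := eq_neg_of_add_eq_zero_left h
      refine ⟨j u, fun h3 => hu.2 ?_, ?_, ?_⟩
      · have h4 := hj' u
        rw [h3, map_zero] at h4
        exact neg_eq_zero.1 h4.symm
      · have h4 := hij' u
        rw [h1, map_neg, map_smul] at h4
        exact (neg_injective h4).symm
      · rw [haj', hau, map_smul]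
    · refine ⟨_, h, ?_, ?_⟩
      · rw [map_add, hi', map_smul, smul_add, smul_smul, hι2, neg_one_smul, add_comm]
      · rw [map_add, hai', hau, map_smul, map_smul, hau, smul_add, smul_comm]
  refine ⟨v, hv0, ?_⟩
  have hL : ∀ T : Module.End k V, T v ∈ Submodule.span k {v, j v} → T (j v) ∈ Submodule.span k {v, j v} →
      ∀ u ∈ Submodule.span k {v, j v}, T u ∈ Submodule.span k {v, j v} := by
    intro T h1 h3 u hu
    obtain ⟨x, y, rfl⟩ := Submodule.mem_span_pair.1 hu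
    rw [map_add, map_smul, map_smul]
    exact Submodule.add_mem _ (Submodule.smul_mem _ _ h1) (Submodule.smul_mem _ _ h3)
  have mv : v ∈ Submodule.span k {v, j v} := Submodule.subset_span (by simp)
  have mj : j v ∈ Submodule.span k {v, j v} := Submodule.subset_span (by simp)
  have hjv : i (j v) = -(ι • j v) := by
    have h4 := hij' v
    rw [hiv, map_smul] at h4
    rw [h4, neg_neg]
  -- the vector `Q = j s v`
  have e1 : ι • s v + i (s v) = -v := by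
    have := LinearMap.congr_fun ht v
    rw [LinearMap.add_apply, Module.End.mul_apply, Module.End.mul_apply, hiv, map_smul] at this
    exact this
  have e2 : s (j v) = α • v - j (s v) := by
    have h4 : s (j v) + j (s v) = α • v := hav
    rw [← h4]; abel
  have e3 : s (i (j v)) + i (j (s v)) = v - α • v := by
    have h4 : s (i v + j v + i (j v)) = -(i (s v) + j (s v) + i (j (s v))) := LinearMap.congr_fun ha v
    have h5 : s (i v) + i (s v) = -v := LinearMap.congr_fun ht v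
    rw [map_add, map_add, e2] at h4
    have h6 : s (i (j v)) + i (j (s v)) = -(s (i v) + i (s v)) - α • v := by
      have : s (i (j v)) = -(i (s v) + j (s v) + i (j (s v))) - (s (i v) + (α • v - j (s v))) := by
        rw [← h4]; abel
      rw [this]; abel
    rw [h6, h5, neg_neg]
  have e4 : i (j (s v)) + ι • j (s v) = (1 - α + ι * α) • v := by
    rw [hjv, map_neg, map_smul, e2, smul_sub, smul_smul] at e3
    have : i (j (s v)) + ι • j (s v) = -((ι * α) • v - ι • j (s v)) + i (j (s v)) + (ι * α) • v := by abel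
    rw [this, e3, add_smul, sub_smul, one_smul]
  have e5 : i (j (s v)) - ι • j (s v) = j v := by
    have h4 := congrArg (fun x => j x) e1
    simp only [map_add, map_smul, map_neg, hij'] at h4
    rw [← neg_eq_iff_eq_neg] at h4
    rw [← h4]; abel
  have e6 : (2 * ι) • j (s v) = (1 - α + ι * α) • v - j v := by
    rw [← e4, ← e5, mul_smul, two_smul]; abel
  have h2ι : 2 * ι ≠ 0 := mul_ne_zero h2 hι0
  have mQ : j (s v) ∈ Submodule.span k {v, j v} := by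
    have h4 : j (s v) = (2 * ι)⁻¹ • ((1 - α + ι * α) • v - j v) := by
      rw [← e6, smul_smul, inv_mul_cancel₀ h2ι, one_smul]
    rw [h4]
    exact Submodule.smul_mem _ _ (Submodule.sub_mem _ (Submodule.smul_mem _ _ mv) mj)
  have Lj : ∀ u ∈ Submodule.span k {v, j v}, j u ∈ Submodule.span k {v, j v} :=
    hL j mj (by rw [hj']; exact Submodule.neg_mem _ mv)
  refine ⟨hL i (by rw [hiv]; exact Submodule.smul_mem _ _ mv)
    (by rw [hjv]; exact Submodule.neg_mem _ (Submodule.smul_mem _ _ mj)), Lj, hL s ?_ ?_⟩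
  · have h4 : s v = -j (j (s v)) := by rw [hj', neg_neg]
    rw [h4]
    exact Submodule.neg_mem _ (Lj _ mQ)
  · rw [e2]
    exact Submodule.sub_mem _ (Submodule.smul_mem _ _ mv) mQ

end alg

variable {k V : Type*} [Field k] [AddCommGroup V] [Module k V] {ρ : W →* Module.End k V}

section

variable (h2 : (2 : k) ≠ 0) (hng : ∀ v, ρ ng v = -v) (hz : ∀ v, ρ r1 v = -v → ρ r2 v = -v → v = 0)

include h2 hng hz

/-- the plane in `V₁` -/
theorem exists_U [IsAlgClosed k] [FiniteDimensional k V] (hne : ∃ v : V, v ≠ 0 ∧ ρ r1 v = -v) :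
    ∃ U : Submodule k V, U ≠ ⊥ ∧ finrank k U ≤ 2 ∧ (∀ u ∈ U, ρ r1 u = -u) ∧ (∀ u ∈ U, ρ I2 u ∈ U) ∧
      (∀ u ∈ U, ρ J2' u ∈ U) ∧ (∀ u ∈ U, ρ gg u ∈ U) := by
  let E := Ep (⊤ : Submodule k V) (ρ r1) (-1)
  have hE : ∀ x : E, ρ r1 (x : V) = -x := fun x => by rw [x.2.2, neg_one_smul]
  have : Nontrivial E := by
    obtain ⟨v, hv, hv1⟩ := hne
    exact ⟨⟨⟨v, trivial, by rw [hv1, neg_one_smul]⟩, 0, fun h => hv (congrArg Subtype.val h)⟩⟩
  let ci : Ce := ⟨I2, mem_Ce.2 q_i1⟩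
  let cj : Ce := ⟨J2', mem_Ce.2 q_j1⟩
  let co : Ce := ⟨om, mem_Ce.2 q_c1⟩
  let cG : Ce := ⟨gg, mem_Ce.2 q_G1⟩
  let cy : Ce := ⟨yy, mem_Ce.2 q_y1⟩
  have hi : res ρ (-1) ci * res ρ (-1) ci = -1 := by
    ext x
    change ρ I2 (ρ I2 (x : V)) = -(x : V)
    rw [ap22 ρ q_ii, v_r3 h2 hng hz (hE x), hE]
  have hj : res ρ (-1) cj * res ρ (-1) cj = -1 := by
    ext x
    change ρ J2' (ρ J2' (x : V)) = -(x : V)
    rw [ap22 ρ q_jj, v_r3 h2 hng hz (hE x), hE]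
  have hij : res ρ (-1) cj * res ρ (-1) ci = -(res ρ (-1) ci * res ρ (-1) cj) := by
    ext x
    change ρ J2' (ρ I2 (x : V)) = -ρ I2 (ρ J2' (x : V))
    have e := ap ρ q_ij (x : V)
    have h3 := f1 h2 hng hz q_j1 (f1 h2 hng hz q_i1 (hE x))
    rw [ap2, ap2, ap2, ap2, v_r3 h2 hng hz h3, h3] at e
    rw [e, neg_neg]
  have hs : res ρ (-1) cG * res ρ (-1) cG = -1 := by
    ext x
    change ρ gg (ρ gg (x : V)) = -(x : V)
    have e := ap ρ q_GG (x : V)
    rw [ap2, ap2, hng, ap2, v_sw h2 hng hz (hE x), v_r2 h2 hng hz (hE x)] at e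
    exact e
  have hc : (2 : k) • res ρ (-1) co = -(1 + res ρ (-1) ci + res ρ (-1) cj + res ρ (-1) ci * res ρ (-1) cj) := by
    ext x
    exact om_one h2 hng hz (hE x)
  have hcs : res ρ (-1) co * res ρ (-1) cG * res ρ (-1) co = res ρ (-1) cG := by
    rw [← map_mul, ← map_mul]
    exact congrArg _ (Subtype.ext q_cGc)
  have hy : res ρ (-1) cy * res ρ (-1) co = res ρ (-1) cG * res ρ (-1) ci * res ρ (-1) cy := by
    ext x
    change ρ yy (ρ om (x : V)) = ρ gg (ρ I2 (ρ yy (x : V)))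
    have h3 := f1 h2 hng hz q_y1 (hE x)
    have h4 : ρ Jj⁻¹ (ρ yy (x : V)) = ρ yy (x : V) := by
      rw [← inj_iff ρ Jj, inv_r, v_J h2 hng hz h3]
    rw [← ap2, ap ρ q_yc, ap2, ap2, ap2, ap2, v_sw h2 hng hz h3, h4]
  have hyy : res ρ (-1) cy * res ρ (-1) cy⁻¹ = 1 := by
    rw [← map_mul, mul_inv_cancel, map_one]
  have hanti := anti_of_csc (k := k) h2 hi hj hij hc hcs
  have htr := trace_of_conj (k := k) h2 hi hj hij hs hc hy hyy
  obtain ⟨v, hv, si, sj, ss⟩ := exists_plane h2 hi hj hij hanti htr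
  let U₁ := Submodule.span k {v, res ρ (-1) cj v}
  refine ⟨U₁.map E.subtype, ?_, ?_, ?_, ?_, ?_, ?_⟩
  · intro h
    have h3 : (v : V) ∈ U₁.map E.subtype := ⟨v, Submodule.subset_span (by simp), rfl⟩
    rw [h, Submodule.mem_bot] at h3
    exact hv (Subtype.ext h3)
  · classical
    refine (Submodule.finrank_map_le _ _).trans ?_
    have e : U₁ = Submodule.span k ((({v, res ρ (-1) cj v} : Finset E)) : Set E) := by
      rw [Finset.coe_insert, Finset.coe_singleton]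
    rw [e]
    exact (finrank_span_finset_le_card _).trans Finset.card_le_two
  · rintro _ ⟨x, _, rfl⟩
    exact hE x
  · rintro _ ⟨x, hx, rfl⟩
    exact ⟨_, si x hx, rfl⟩
  · rintro _ ⟨x, hx, rfl⟩
    exact ⟨_, sj x hx, rfl⟩
  · rintro _ ⟨x, hx, rfl⟩
    exact ⟨_, ss x hx, rfl⟩

/-- the stabiliser of a subspace -/
noncomputable def Stb (ρ : W →* Module.End k V) (M : Submodule k V) : Subgroup W where
  carrier := {w | ∀ v, ρ w v ∈ M ↔ v ∈ M}
  one_mem' := fun v => by rw [map_one]; rfl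
  mul_mem' := fun {a b} ha hb v => by rw [ap2, ha, hb]
  inv_mem' := fun {a} ha v => by rw [← ha (ρ a⁻¹ v), inv_r]

omit h2 hng hz in
theorem mem_Stb [FiniteDimensional k V] {M : Submodule k V} {w : W} (h : ∀ v ∈ M, ρ w v ∈ M) : w ∈ Stb ρ M := by
  have h3 : M.map (ρ w) ≤ M := by
    rintro _ ⟨v, hv, rfl⟩
    exact h v hv
  have hi : Function.Injective (ρ w) := fun a b hab => (inj_iff ρ w).1 hab
  have h4 : M.map (ρ w) = M := Submodule.eq_of_le_of_finrank_eq h3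
    (LinearEquiv.finrank_eq (Submodule.equivMapOfInjective (ρ w) hi M)).symm
  intro v
  refine ⟨fun h5 => ?_, h v⟩
  rw [← h4] at h5
  obtain ⟨u, hu, e⟩ := h5
  rwa [← hi e]

/-- the invariant subspace -/
theorem exists_M [IsAlgClosed k] [FiniteDimensional k V] (hne : ∃ v : V, v ≠ 0 ∧ ρ r1 v = -v) :
    ∃ M : Submodule k V, M ≠ ⊥ ∧ finrank k M ≤ 6 ∧ ∀ g, ∀ v ∈ M, ρ g v ∈ M := by
  obtain ⟨U, hU0, hU2, u1, ui, uj, ug⟩ := exists_U h2 hng hz hne
  have u2 : ∀ u ∈ U, ρ r2 u = u := fun u hu => v_r2 h2 hng hz (u1 u hu)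
  have u3 : ∀ u ∈ U, ρ r3 u = u := fun u hu => v_r3 h2 hng hz (u1 u hu)
  have us : ∀ u ∈ U, ρ sw u = u := fun u hu => v_sw h2 hng hz (u1 u hu)
  have uI : ∀ u ∈ U, ρ Ii u = u := fun u hu => v_I h2 hng hz (u1 u hu)
  have uJ : ∀ u ∈ U, ρ Jj u = u := fun u hu => v_J h2 hng hz (u1 u hu)
  have g1 : r1 * nn⁻¹ = nn⁻¹ * r2 := by rw [eq_inv_mul_iff_mul_eq, ← mul_assoc, q_n1, mul_inv_cancel_right]
  have g2 : r2 * nn⁻¹ = nn⁻¹ * r3 := by rw [eq_inv_mul_iff_mul_eq, ← mul_assoc, q_n2, mul_inv_cancel_right]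
  have g3 : sw * nn = nn⁻¹ * sw := by rw [eq_inv_mul_iff_mul_eq, ← mul_assoc, q_ntn]
  have g4 : sw * nn⁻¹ = nn * sw := by rw [mul_inv_eq_iff_eq_mul, q_ntn]
  have g5 : Ii * nn = nn * I3 := by rw [I3, mul_assoc, mul_inv_cancel_left]
  have g6 : Ii * nn⁻¹ = nn⁻¹ * I2 := by rw [I2, mul_assoc, inv_mul_cancel_left]
  have g7 : Jj * nn = nn * J3' := by rw [J3', mul_assoc, mul_inv_cancel_left]
  have g8 : Jj * nn⁻¹ = nn⁻¹ * J2' := by rw [J2', mul_assoc, inv_mul_cancel_left]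
  have g9 : nn * nn = nn⁻¹ := by rw [eq_inv_iff_mul_eq_one, q_nnn]
  let A := U.map (ρ nn)
  let B := U.map (ρ nn⁻¹)
  have mA : ∀ {u}, u ∈ U → ρ nn u ∈ A ⊔ B := fun {u} hu => Submodule.mem_sup_left ⟨u, hu, rfl⟩
  have mB : ∀ {u}, u ∈ U → ρ nn⁻¹ u ∈ A ⊔ B := fun {u} hu => Submodule.mem_sup_right ⟨u, hu, rfl⟩
  have ind : ∀ {T : Module.End k V} {L : Submodule k V}, (∀ u ∈ U, T (ρ nn u) ∈ L) → (∀ u ∈ U, T (ρ nn⁻¹ u) ∈ L) →
      ∀ v ∈ A ⊔ B, T v ∈ L := by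
    intro T L hA hB v hv
    obtain ⟨_, ⟨a, ha, rfl⟩, _, ⟨b, hb, rfl⟩, rfl⟩ := Submodule.mem_sup.1 hv
    rw [map_add]
    exact L.add_mem (hA a ha) (hB b hb)
  have l1 : ∀ v ∈ A ⊔ B, ρ r1 v = v := by
    intro v hv
    have : (ρ r1 - 1) v ∈ (⊥ : Submodule k V) := ind (T := ρ r1 - 1) (L := ⊥) (fun u hu => by
      rw [LinearMap.sub_apply, Module.End.one_apply, ← ap22 ρ q_n3, u3 u hu, sub_self]
      exact Submodule.zero_mem _) (fun u hu => by
      rw [LinearMap.sub_apply, Module.End.one_apply, ap22 ρ g1, u2 u hu, sub_self]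
      exact Submodule.zero_mem _) v hv
    rw [Submodule.mem_bot, LinearMap.sub_apply, Module.End.one_apply, sub_eq_zero] at this
    exact this
  have l2 : ∀ v ∈ A ⊔ B, ρ r2 v ∈ A ⊔ B := ind (fun u hu => by
    rw [← ap22 ρ q_n1, u1 u hu, map_neg]; exact Submodule.neg_mem _ (mA hu)) (fun u hu => by
    rw [ap22 ρ g2, u3 u hu]; exact mB hu)
  have ls : ∀ v ∈ A ⊔ B, ρ sw v ∈ A ⊔ B := ind (fun u hu => by
    rw [ap22 ρ g3, us u hu]; exact mB hu) (fun u hu => by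
    rw [ap22 ρ g4, us u hu]; exact mA hu)
  have lI : ∀ v ∈ A ⊔ B, ρ Ii v ∈ A ⊔ B := ind (fun u hu => by
    rw [ap22 ρ g5, v_I3 h2 hng hz (u1 u hu)]; exact mA (ui u hu)) (fun u hu => by
    rw [ap22 ρ g6]; exact mB (ui u hu))
  have lJ : ∀ v ∈ A ⊔ B, ρ Jj v ∈ A ⊔ B := ind (fun u hu => by
    rw [ap22 ρ g7, v_J3 h2 hng hz (u1 u hu)]; exact mA (uj u hu)) (fun u hu => by
    rw [ap22 ρ g8]; exact mB (uj u hu))
  have lG : ∀ v ∈ A ⊔ B, ρ gg v ∈ A ⊔ B := by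
    intro v hv
    have e := G_act h2 hng hz (l1 v hv)
    have h3 : (2 : k) • ρ gg v ∈ A ⊔ B := by
      rw [e]
      exact Submodule.neg_mem _ (Submodule.add_mem _ (Submodule.add_mem _ (Submodule.add_mem _
        (lI _ (lJ _ (lI _ hv))) (l2 _ (ls _ (lJ _ (lI _ hv))))) (lJ _ (lI _ hv)))
        (l2 _ (ls _ (lI _ (lJ _ (lI _ hv))))))
    exact (Submodule.smul_mem_iff _ h2).1 h3
  let M := U ⊔ (A ⊔ B)
  have indM : ∀ {T : Module.End k V}, (∀ u ∈ U, T u ∈ M) → (∀ u ∈ A ⊔ B, T u ∈ M) → ∀ v ∈ M, T v ∈ M := by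
    intro T hA hB v hv
    obtain ⟨a, ha, b, hb, rfl⟩ := Submodule.mem_sup.1 hv
    rw [map_add]
    exact M.add_mem (hA a ha) (hB b hb)
  have mU : ∀ {u}, u ∈ U → u ∈ M := fun hu => Submodule.mem_sup_left hu
  have mL : ∀ {u}, u ∈ A ⊔ B → u ∈ M := fun hu => Submodule.mem_sup_right hu
  have hS : Stb ρ M = ⊤ := gen
    (mem_Stb fun v hv => by rw [hng]; exact Submodule.neg_mem _ hv)
    (mem_Stb (indM (fun u hu => by rw [u1 u hu]; exact Submodule.neg_mem _ (mU hu)) fun u hu => by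
      rw [l1 u hu]; exact mL hu))
    (mem_Stb (indM (fun u hu => mL (mA hu)) (ind (fun u hu => by
      rw [ap21 ρ g9]; exact mL (mB hu)) fun u hu => by rw [inv_r]; exact mU hu)))
    (mem_Stb (indM (fun u hu => mU (ug u hu)) fun u hu => mL (lG u hu)))
    (mem_Stb (indM (fun u hu => by rw [uI u hu]; exact mU hu) fun u hu => mL (lI u hu)))
    (mem_Stb (indM (fun u hu => by rw [uJ u hu]; exact mU hu) fun u hu => mL (lJ u hu)))
  refine ⟨M, ?_, ?_, ?_⟩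
  · intro h
    apply hU0
    rw [eq_bot_iff, ← h]
    exact le_sup_left
  · have e1 : finrank k A ≤ finrank k U := Submodule.finrank_map_le _ _
    have e2 : finrank k B ≤ finrank k U := Submodule.finrank_map_le _ _
    have e3 : finrank k ↥(A ⊔ B) ≤ finrank k A + finrank k B := Submodule.finrank_add_le_finrank_add_finrank _ _
    have e4 : finrank k M ≤ finrank k U + finrank k ↥(A ⊔ B) := Submodule.finrank_add_le_finrank_add_finrank _ _
    omega
  · intro g v hv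
    have : g ∈ Stb ρ M := by rw [hS]; trivial
    exact (this v).2 hv

end

/-- **the double cover** -/
theorem neg_false [IsAlgClosed k] [FiniteDimensional k V] (h2 : (2 : k) ≠ 0) (hng : ∀ v, ρ ng v = -v)
    (hdim : finrank k V = 12)
    (hirr : ∀ L : Submodule k V, (∀ g, ∀ v ∈ L, ρ g v ∈ L) → L = ⊥ ∨ L = ⊤) : False := by
  obtain ⟨ι, hι⟩ := IsAlgClosed.exists_pow_nat_eq (-1 : k) two_pos
  have hι2 : ι * ι = -1 := by rw [← hι]; ring
  have : Nontrivial V := Module.nontrivial_of_finrank_pos (R := k) (by rw [hdim]; norm_num)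
  rcases neg_dim h2 hng hdim hι2 with h | h
  · have hz : ∀ v, ρ r1 v = -v → ρ r2 v = -v → v = 0 := by
      intro v h3 h4
      have h5 : v ∈ Wt ρ (-1 : k) (-1) := mem_Wt.2 ⟨by rw [h3, neg_one_smul], by rw [h4, neg_one_smul]⟩
      rwa [h] at h5
    by_cases hne : ∃ v : V, v ≠ 0 ∧ ρ r1 v = -v
    · obtain ⟨M, hM0, hM6, hM⟩ := exists_M h2 hng hz hne
      rcases hirr M hM with h3 | h3
      · exact hM0 h3
      · rw [h3, finrank_top, hdim] at hM6
        omega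
    · push Not at hne
      have h3 : Wt ρ (-1 : k) (-(-1)) = ⊥ := by
        rw [eq_bot_iff]
        intro v hv
        rw [Submodule.mem_bot]
        by_contra h0
        exact hne v h0 (by rw [(mem_Wt.1 hv).1, neg_one_smul])
      have h4 := dim_formula (ρ := ρ) (ε := (-1 : k)) (fun v => by rw [hng, neg_one_smul]) (by ring) h2
      rw [h, h3, finrank_bot, hdim] at h4
      omega
  · have hr1 : ∀ v, ρ r1 v = -v := fun v => by
      have h3 : v ∈ Wt ρ (-1 : k) (-1) := by rw [h]; trivial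
      rw [(mem_Wt.1 h3).1, neg_one_smul]
    have hr2 : ∀ v, ρ r2 v = -v := fun v => by
      have h3 : v ∈ Wt ρ (-1 : k) (-1) := by rw [h]; trivial
      rw [(mem_Wt.1 h3).2, neg_one_smul]
    have hr3 : ∀ v, ρ r3 v = -v := fun v => by
      have e := ap22 ρ q_12_3 v
      rw [hr2, map_neg, hr1, neg_neg, hng] at e
      exact (neg_eq_iff_eq_neg.2 e).symm
    have hsw : ∀ v, ρ sw v = -v := fun v => by
      rw [← inj_iff ρ gg, ← ap22 ρ q_2G, hr2, map_neg]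
    have hI : ∀ v, ρ Ii v = -v := fun v => by
      have e := ap ρ q_x2 (ρ xx⁻¹ v)
      rw [ap2, hr2, map_neg, inv_r, ap2, inv_r, ap2, ap2, hr2, hsw, neg_neg] at e
      exact e.symm
    obtain ⟨v, hv⟩ := exists_ne (0 : V)
    have e := ap ρ q_Ij v
    rw [ap2, hI, ap2, ap2, hI, hr3, map_neg, neg_neg] at e
    have h3 := eq_zero_of_two h2 e.symm
    exact hv (inj ρ J2' h3)

end Cfsg.Agent.H905.JD
end

private theorem dce_9d1aec313adb : _root_.True := by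
  try have : _root_.True := by simp only [_root_.Cfsg.Agent.H905.JD.Ce.eq_1]
  exact _root_.True.intro
end
end
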