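import Cfsg.Agent.H905.JDPlane
import Cfsg.Agent.H1.TJ2
import Cfsg.Agent.H659.AcIrr
import Cfsg.Agent.H4.JT.Words
import Cfsg.Agent.J2.HundredGens
import Cfsg.Agent.H906.Cover_m3
import Cfsg.Agent.S1619
import Cfsg.Agent.S2040
import Cfsg.Agent.Lib.FinFast
import Cfsg.Agent.FastGrp
import Cfsg.Agent.Prune
set_option linter.all false
prune_inst 0x7f00000000000000000000000000000000000000000000000000000000000000000000000000000000000000000000000000000000000000000000000000000000000000000000000000000000000000003fffffffffffffffffffffffffffbeffbdffffffff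
open scoped Cfsg.Agent.FastGrp

-- part: H905/JDMain
section
/-!
# The Hall-Janko group in degree twelve, odd characteristic (helper905)

**`J2_twelve`** : a core of degree `12` over a field of characteristic not `2` is not the Hall-Janko group modulo scalars.
-/

set_option autoImplicit false
set_option linter.unusedSectionVars false

namespace Cfsg.Agent.H905.JD

open Function Subgroup Cfsg Cfsg.Spor Cfsg.Geo Cfsg.Agent.H915.LD Cfsg.Agent.J2.ZTau Cfsg.Agent.J2.Ico
  Cfsg.Agent.J2.Lattice Cfsg.Agent.J2.Refl Cfsg.Agent.J2.Group Cfsg.Agent.J2.Stab Cfsg.Agent.J2.SixGens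
  Cfsg.Agent.H1.J2Lift
open Module Matrix

universe u

variable {ι : Type} [Fintype ι] [DecidableEq ι] {F : Type u} [Field F] {P : Subgroup (Matrix.GeneralLinearGroup ι F)}

/-- **the Hall-Janko group in degree twelve, odd characteristic** -/
theorem J2_twelve (hC : Core P) (e : Soc P ≃* J2) (hn : Fintype.card ι = 12) (h2 : (2 : F) ≠ 0) : False := by
  obtain ⟨φ, hφ, hp⟩ := Cfsg.Agent.H1.TJ2.exists_cover hC e
  let ψ : W →* Matrix.GeneralLinearGroup ι F := P.subtype.comp φ
  have hr : ψ.range = P := by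
    ext g
    constructor
    · rintro ⟨w, rfl⟩
      exact (φ w).2
    · intro hg
      obtain ⟨w, hw⟩ := hφ ⟨g, hg⟩
      exact ⟨w, congrArg Subtype.val hw⟩
  have hs : Submodule.span F (matrixSet P) = ⊤ := Cfsg.Agent.H920.span_eq_top hC.absIrred
  let K := AlgebraicClosure F
  have hirr := Cfsg.Agent.H659.Ac.rp_irr (K := K) (φ := ψ) hr hs
  have h2' : (2 : K) ≠ 0 := by
    have h3 : algebraMap F K 2 ≠ 0 := (map_ne_zero _).2 h2
    rwa [map_ofNat] at h3
  have hdim : finrank K (ι → K) = 12 := by rw [Module.finrank_fintype_fun_eq_card, hn]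
  rcases Cfsg.Agent.H1.TJ2.ng_image e hp with h | h
  · refine triv_false (ρ := Cfsg.Agent.H659.Ac.rp K ψ) h2' (fun v => ?_) hdim hirr
    have h3 : ((ψ ng : Matrix.GeneralLinearGroup ι F) : Matrix ι ι F) = 1 := h
    rw [Cfsg.Agent.H659.Ac.rp_apply, h3, Matrix.map_one _ (map_zero _) (map_one _), Matrix.one_mulVec]
  · refine neg_false (ρ := Cfsg.Agent.H659.Ac.rp K ψ) h2' (fun v => ?_) hdim hirr
    have h3 : ((ψ ng : Matrix.GeneralLinearGroup ι F) : Matrix ι ι F) = -1 := h
    have h4 : (-1 : Matrix ι ι F).map (algebraMap F K) = -1 := by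
      ext i j
      simp [Matrix.map_apply, Matrix.one_apply, apply_ite (algebraMap F K)]
    rw [Cfsg.Agent.H659.Ac.rp_apply, h3, h4, Matrix.neg_mulVec, Matrix.one_mulVec]

end Cfsg.Agent.H905.JD
end

-- part: H808/JD/Alg
section
/-!
# The Hall-Janko group in characteristic two, degree 12: the linear algebra (helper808)

`Dat x t1 t2 h v r r1 n` : relations of suitable elements of `J2` (`x` of class 3A, `⟨t1, t2⟩ = 3^(1+2)` with centre
`⟨x⟩`, `h` of order 8 in its normaliser, `⟨r, x⟩ = A5`, `n` of order 3 in the normaliser of `5^2`).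

* `Dat.quad` : if `1 + x + x² = 0` there is an invariant subspace of dimension at most 6;
* `Dat.triv` : if `dim C_V(x) < 8`, then `t1`, `t2` are trivial on `C_V(x)`;
* `Dat.reducible` : a representation of dimension 12 has a proper invariant subspace.
-/

set_option autoImplicit false
set_option linter.unusedSectionVars false

namespace Cfsg.Agent.H808.JD

open Module Cfsg.Agent.H4.JT

/-- the relations -/
structure Dat {G : Type*} [Group G] (x t1 t2 h v r r1 n : G) : Prop where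
  x3 : x * (x * x) = 1
  a3 : t1 * (t1 * t1) = 1
  b3 : t2 * (t2 * t2) = 1
  tt : t1 * t2 = x * (t2 * t1)
  ax : t1 * x = x * t1
  bx : t2 * x = x * t2
  hx : h * x = x * x * h
  h1 : h * t1 = t2 * h
  h2 : h * t2 = t1 * (t2 * h)
  v1 : v * t1 = t1 * v
  gen1 : Subgroup.closure {t1, t2, v * t2 * v⁻¹} = ⊤
  r2 : r * r = 1
  y5 : (r * x) * ((r * x) * ((r * x) * ((r * x) * (r * x)))) = 1
  r1w : r1 = x * (r * (x * (x * (r * (x * (r * (x * (x * (r * x)))))))))
  ry : (r * x) * (r1 * (r * x)) = r1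
  n3 : n * (n * n) = 1
  nr : n * (r1 * n) = r1
  ny : (r * x) * (n * (r * x) * n⁻¹) = (n * (r * x) * n⁻¹) * (r * x)
  nyy : (r * x) * (n * (r * x) * n⁻¹) * (n⁻¹ * (r * x) * n) = 1
  gen2 : Subgroup.closure {r, x, n} = ⊤

section

variable {k : Type*} [Field k] {V : Type*} [AddCommGroup V] [Module k V] {G : Type*} [Group G]
  {x t1 t2 h v r r1 n : G} (ρ : G →* Module.End k V)

theorem mul_app (a b : G) (u : V) : ρ (a * b) u = ρ a (ρ b u) := by rw [map_mul]; rfl

theorem one_app (u : V) : ρ 1 u = u := by rw [map_one]; rfl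

theorem inj (a : G) {u u' : V} (h : ρ a u = ρ a u') : u = u' := by
  have h1 := congrArg (ρ a⁻¹) h
  rwa [← mul_app, ← mul_app, inv_mul_cancel, one_app, one_app] at h1

theorem ne_zero (a : G) {u : V} (hu : u ≠ 0) : ρ a u ≠ 0 := fun h => hu (inj ρ a (by rw [h, map_zero]))

/-- a subspace invariant under generators is invariant -/
theorem inv_of_gen {S : Set G} (hS : Subgroup.closure S = ⊤) [FiniteDimensional k V] (M : Submodule k V)
    (hM : ∀ g ∈ S, ∀ u ∈ M, ρ g u ∈ M) (g : G) : ∀ u ∈ M, ρ g u ∈ M := by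
  have hg : g ∈ Subgroup.closure S := by rw [hS]; trivial
  induction hg using Subgroup.closure_induction with
  | mem a ha => exact hM a ha
  | one => intro u hu; rwa [one_app]
  | mul a b _ _ ha hb => intro u hu; rw [mul_app]; exact ha _ (hb _ hu)
  | inv a _ ha =>
    intro u hu
    -- `ρ a` is injective on `M`, hence surjective
    let f : M →ₗ[k] M := (ρ a).restrict ha
    have hf : Function.Injective f := by
      intro p q hpq
      apply Subtype.ext
      exact inj ρ a (congrArg Subtype.val hpq)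
    obtain ⟨p, hp⟩ := (LinearMap.injective_iff_surjective.1 hf) ⟨u, hu⟩
    have h1 : ρ a (p : V) = u := congrArg Subtype.val hp
    rw [← h1, ← mul_app, inv_mul_cancel, one_app]
    exact p.2

/-- vectors fixed by generators are fixed -/
theorem fix_of_gen {S : Set G} (hS : Subgroup.closure S = ⊤) {u : V} (hu : ∀ g ∈ S, ρ g u = u) (g : G) :
    ρ g u = u := by
  have hg : g ∈ Subgroup.closure S := by rw [hS]; trivial
  induction hg using Subgroup.closure_induction with
  | mem a ha => exact hu a ha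
  | one => exact one_app ρ u
  | mul a b _ _ ha hb => rw [mul_app, hb, ha]
  | inv a _ ha =>
    apply inj ρ a
    rw [← mul_app, mul_inv_cancel, one_app, ha]

theorem span_pair_inv {a b : V} {f : Module.End k V} {L : Submodule k V} (ha : f a ∈ L) (hb : f b ∈ L) :
    ∀ u ∈ Submodule.span k {a, b}, f u ∈ L := by
  intro u hu
  obtain ⟨c, d, rfl⟩ := Submodule.mem_span_pair.1 hu
  rw [map_add, map_smul, map_smul]
  exact L.add_mem (L.smul_mem _ ha) (L.smul_mem _ hb)

theorem mem_left {a b : V} : a ∈ Submodule.span k {a, b} := Submodule.subset_span (Or.inl rfl)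

theorem mem_right {a b : V} : b ∈ Submodule.span k {a, b} := Submodule.subset_span (Or.inr rfl)

theorem finrank_pair (a b : V) : finrank k (Submodule.span k ({a, b} : Set V)) ≤ 2 := by
  classical
  have h1 : ({a, b} : Set V) = (({a, b} : Finset V) : Set V) := by simp
  rw [h1]
  exact (finrank_span_finset_le_card _).trans Finset.card_le_two

variable [CharP k 2]

/-- the `A5`-submodule generated by an eigenvector of `y = r x` -/
theorem Dat.pair (D : Dat x t1 t2 h v r r1 n) (hq : ∀ u, u + ρ x u + ρ x (ρ x u) = 0) {u : V} (hu : u ≠ 0) {μ : k}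
    (hy : ρ (r * x) u = μ • u) :
    (∀ z ∈ Submodule.span k {u, ρ r1 u}, ρ r z ∈ Submodule.span k {u, ρ r1 u}) ∧
      ∀ z ∈ Submodule.span k {u, ρ r1 u}, ρ x z ∈ Submodule.span k {u, ρ r1 u} := by
  have hμ : μ ≠ 0 := by
    rintro rfl
    rw [zero_smul] at hy
    exact ne_zero ρ _ hu hy
  set w := ρ r u with hw
  have e0 : ρ r w = u := by rw [hw, ← mul_app, D.r2, one_app]
  have e1 : ρ x u = μ • w := by
    rw [hw, ← map_smul, ← hy, ← mul_app, ← mul_assoc, D.r2, one_mul]
  have e2 : ρ x w = w + μ⁻¹ • u := by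
    have h1 := hq u
    rw [e1, map_smul] at h1
    have h2 : μ • ρ x w = u + μ • w := by
      have h3 : u + μ • w + (μ • ρ x w + (u + μ • w)) = u + μ • w := by
        rw [← add_assoc, h1, zero_add]
      have h4 := add_self k (u + μ • w)
      calc μ • ρ x w = μ • ρ x w + ((u + μ • w) + (u + μ • w)) := by rw [h4, add_zero]
        _ = u + μ • w + (μ • ρ x w + (u + μ • w)) := by abel
        _ = u + μ • w := h3
    have h5 : ρ x w = μ⁻¹ • (μ • ρ x w) := by rw [smul_smul, inv_mul_cancel₀ hμ, one_smul]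
    rw [h5, h2, smul_add, smul_smul, inv_mul_cancel₀ hμ, one_smul, add_comm]
  set S := Submodule.span k {u, w} with hS
  have hrS : ∀ z ∈ S, ρ r z ∈ S := span_pair_inv mem_right (by rw [e0]; exact mem_left)
  have hxS : ∀ z ∈ S, ρ x z ∈ S := span_pair_inv (by rw [e1]; exact S.smul_mem _ mem_right)
    (by rw [e2]; exact S.add_mem mem_right (S.smul_mem _ mem_left))
  have hr1 : ρ r1 u ∈ S := by
    rw [D.r1w]
    simp only [mul_app]
    have hu' : u ∈ S := mem_left
    exact hxS _ (hrS _ (hxS _ (hxS _ (hrS _ (hxS _ (hrS _ (hxS _ (hxS _ (hrS _ (hxS _ hu'))))))))))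
  obtain ⟨α, β, hab⟩ := Submodule.mem_span_pair.1 hr1
  have hβ : β ≠ 0 := by
    rintro rfl
    rw [zero_smul, add_zero] at hab
    have hα : α ≠ 0 := by
      rintro rfl
      rw [zero_smul] at hab
      exact ne_zero ρ r1 hu hab.symm
    have h1 : ρ ((r * x) * (r1 * (r * x))) u = ρ r1 u := by rw [D.ry]
    rw [mul_app ρ (r * x) (r1 * (r * x)), mul_app ρ r1 (r * x), hy, map_smul, ← hab, map_smul, map_smul, hy, smul_smul,
      smul_smul] at h1
    have h2 : μ * α * μ = α := smul_left_injective k hu h1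
    have h3 : (μ - 1) ^ 2 = 0 := by
      have h4 : μ ^ 2 = 1 := by
        apply mul_left_cancel₀ hα
        linear_combination h2
      have h5 : (2 : k) = 0 := CharP.cast_eq_zero k 2
      linear_combination h4 - (μ - 1) * h5
    have h6 : μ = 1 := sub_eq_zero.1 (pow_eq_zero_iff two_ne_zero |>.1 h3)
    subst h6
    rw [one_smul] at hy
    have h7 : ρ (r * x) w = w + u := by rw [mul_app, e2, inv_one, one_smul, map_add, e0, ← hw, add_comm]
    have h8 := congrArg (fun g => ρ g w) D.y5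
    simp only [mul_app ρ (r * x), h7, map_add, hy, one_app] at h8
    have h9 : w + u + u + u + u + u = w + ((u + u) + (u + u)) + u := by abel
    rw [h9, add_self k u, add_zero, add_zero] at h8
    exact hu (by simpa using h8)
  have hwL : w ∈ Submodule.span k {u, ρ r1 u} := by
    rw [Submodule.mem_span_pair]
    refine ⟨-(β⁻¹ * α), β⁻¹, ?_⟩
    rw [← hab, smul_add, smul_smul, smul_smul, inv_mul_cancel₀ hβ, one_smul, neg_smul]
    abel
  have hSL : Submodule.span k {u, ρ r1 u} = S := by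
    apply le_antisymm
    · rw [Submodule.span_le]
      rintro z (rfl | rfl)
      · exact mem_left
      · exact hr1
    · rw [hS, Submodule.span_le]
      rintro z (rfl | rfl)
      · exact mem_left
      · exact hwL
  rw [hSL]
  exact ⟨hrS, hxS⟩

/-- **quadratic case** -/
theorem Dat.quad [IsAlgClosed k] [FiniteDimensional k V] [Nontrivial V] (D : Dat x t1 t2 h v r r1 n)
    (hq : ∀ u, u + ρ x u + ρ x (ρ x u) = 0) :
    ∃ M : Submodule k V, M ≠ ⊥ ∧ finrank k M ≤ 6 ∧ ∀ g, ∀ u ∈ M, ρ g u ∈ M := by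
  -- a common eigenvector of `y` and `n y n⁻¹`
  obtain ⟨u, μ, μ1, hu, hy, hy1⟩ : ∃ (u : V) (μ μ1 : k), u ≠ 0 ∧ ρ (r * x) u = μ • u ∧
      ρ (n * (r * x) * n⁻¹) u = μ1 • u := by
    obtain ⟨μ, hμ⟩ := Module.End.exists_eigenvalue (ρ (r * x))
    let E := Module.End.eigenspace (ρ (r * x)) μ
    have hE : ∀ z ∈ E, ρ (n * (r * x) * n⁻¹) z ∈ E := by
      intro z hz
      rw [Module.End.mem_eigenspace_iff] at hz ⊢
      rw [← mul_app, D.ny, mul_app, hz, map_smul]
    have hne : Nontrivial E := by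
      obtain ⟨z, hz⟩ := hμ.exists_hasEigenvector
      exact ⟨⟨⟨z, hz.1⟩, 0, fun h => hz.2 (congrArg Subtype.val h)⟩⟩
    obtain ⟨μ1, hμ1⟩ := Module.End.exists_eigenvalue ((ρ (n * (r * x) * n⁻¹)).restrict hE)
    obtain ⟨z, hz⟩ := hμ1.exists_hasEigenvector
    refine ⟨z, μ, μ1, fun h => hz.2 (Subtype.ext h), Module.End.mem_eigenspace_iff.1 z.2, ?_⟩
    have h1 := Module.End.mem_eigenspace_iff.1 hz.1
    exact congrArg Subtype.val h1
  have hμ : μ ≠ 0 := by
    rintro rfl
    rw [zero_smul] at hy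
    exact ne_zero ρ _ hu hy
  have hμ1 : μ1 ≠ 0 := by
    rintro rfl
    rw [zero_smul] at hy1
    exact ne_zero ρ _ hu hy1
  have hn3 : n * n * n = 1 := by rw [mul_assoc, D.n3]
  have hninv : n⁻¹ = n * n := by
    rw [inv_eq_iff_mul_eq_one, D.n3]
  have hy2 : ρ (n⁻¹ * (r * x) * n) u = (μ * μ1)⁻¹ • u := by
    apply inj ρ ((r * x) * (n * (r * x) * n⁻¹))
    rw [← mul_app, D.nyy, one_app, map_smul, mul_app, hy1, map_smul, hy, smul_smul, smul_smul]
    have : (μ * μ1)⁻¹ * μ1 * μ = 1 := by field_simp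
    rw [this, one_smul]
  have p0 := D.pair ρ hq hu hy
  have p1 : ρ (r * x) (ρ n u) = (μ * μ1)⁻¹ • ρ n u := by
    rw [← map_smul, ← hy2, ← mul_app, ← mul_app]
    congr 2
    group
  have p2 : ρ (r * x) (ρ n (ρ n u)) = μ1 • ρ n (ρ n u) := by
    rw [← map_smul, ← map_smul, ← hy1, ← mul_app, ← mul_app, ← mul_app, ← mul_app]
    congr 2
    have e1 : n * n * (n * (r * x) * n⁻¹) = (n * n * n) * (r * x) * n⁻¹ := by group
    rw [e1, hn3, one_mul, hninv, mul_assoc]
  have q1 := D.pair ρ hq (ne_zero ρ n hu) p1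
  have q2 := D.pair ρ hq (ne_zero ρ n (ne_zero ρ n hu)) p2
  -- the three planes
  have hnr : n * r1 = r1 * (n * n) := by
    have h1 : n * (r1 * n) * (n * n) = r1 * (n * n) := by rw [D.nr]
    have h2 : n * (r1 * n) * (n * n) = n * r1 * (n * (n * n)) := by group
    rw [h2, D.n3, mul_one] at h1
    exact h1
  have hnr' : ∀ z, ρ n (ρ r1 z) = ρ r1 (ρ n (ρ n z)) := by
    intro z
    rw [← mul_app, hnr, mul_app, mul_app]
  have hn3' : ∀ z, ρ n (ρ n (ρ n z)) = z := by
    intro z
    rw [← mul_app, ← mul_app, hn3, one_app]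
  set L0 := Submodule.span k {u, ρ r1 u} with hL0
  set L1 := Submodule.span k {ρ n u, ρ r1 (ρ n u)} with hL1
  set L2 := Submodule.span k {ρ n (ρ n u), ρ r1 (ρ n (ρ n u))} with hL2
  set M := L0 ⊔ L1 ⊔ L2 with hM
  have l0 : L0 ≤ M := le_sup_left.trans le_sup_left
  have l1 : L1 ≤ M := le_sup_right.trans le_sup_left
  have l2 : L2 ≤ M := le_sup_right
  have hsup : ∀ f : Module.End k V, (∀ z ∈ L0, f z ∈ M) → (∀ z ∈ L1, f z ∈ M) → (∀ z ∈ L2, f z ∈ M) →
      ∀ z ∈ M, f z ∈ M := by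
    intro f h0 h1 h2 z hz
    have h3 : M ≤ M.comap f := sup_le (sup_le h0 h1) h2
    exact h3 hz
  refine ⟨M, ?_, ?_, inv_of_gen ρ D.gen2 M ?_⟩
  · intro h0
    have : u ∈ M := l0 mem_left
    rw [h0, Submodule.mem_bot] at this
    exact hu this
  · have h1 := Submodule.finrank_add_le_finrank_add_finrank (L0 ⊔ L1) L2
    have h2 := Submodule.finrank_add_le_finrank_add_finrank L0 L1
    have h3 : finrank k L0 ≤ 2 := finrank_pair (k := k) u (ρ r1 u)
    have h4 : finrank k L1 ≤ 2 := finrank_pair (k := k) (ρ n u) (ρ r1 (ρ n u))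
    have h5 : finrank k L2 ≤ 2 := finrank_pair (k := k) (ρ n (ρ n u)) (ρ r1 (ρ n (ρ n u)))
    change finrank k (L0 ⊔ L1 ⊔ L2 : Submodule k V) ≤ 6
    omega
  · rintro g (rfl | rfl | rfl)
    · exact hsup _ (fun z hz => l0 (p0.1 z hz)) (fun z hz => l1 (q1.1 z hz)) (fun z hz => l2 (q2.1 z hz))
    · exact hsup _ (fun z hz => l0 (p0.2 z hz)) (fun z hz => l1 (q1.2 z hz)) (fun z hz => l2 (q2.2 z hz))
    · apply hsup
      · refine span_pair_inv (l1 mem_left) ?_
        rw [hnr']
        exact l2 mem_right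
      · refine span_pair_inv (l2 mem_left) ?_
        rw [hnr', hn3']
        exact l0 mem_right
      · refine span_pair_inv ?_ ?_
        · rw [hn3']
          exact l0 mem_left
        · rw [hnr', hn3']
          exact l1 mem_right

end

section weights

variable {k : Type*} [Field k] [CharP k 2] {w : k}

/-- the characters of `Z/3` -/
def ee (w : k) (i : ZMod 3) : k := w ^ i.val

theorem pow_three (hw : w ^ 2 + w + 1 = 0) : w ^ 3 = 1 := by linear_combination (w - 1) * hw

theorem ee_add (hw : w ^ 2 + w + 1 = 0) (i j : ZMod 3) : ee w (i + j) = ee w i * ee w j := by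
  unfold ee
  rw [ZMod.val_add, ← pow_add, ← pow_eq_pow_mod _ (pow_three hw)]

theorem ee_ne (hw : w ^ 2 + w + 1 = 0) (i : ZMod 3) : ee w i ≠ 0 := by
  apply pow_ne_zero
  rintro rfl
  simp at hw

theorem ne_one (hw : w ^ 2 + w + 1 = 0) : w ≠ 1 := by
  rintro rfl
  have h2' : (2 : k) = 0 := CharP.cast_eq_zero k 2
  have : (1 : k) = 0 := by linear_combination hw - h2'
  exact one_ne_zero this

theorem order_three (hw : w ^ 2 + w + 1 = 0) : orderOf w = 3 := by
  have : Fact (Nat.Prime 3) := ⟨Nat.prime_three⟩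
  exact orderOf_eq_prime (pow_three hw) (ne_one hw)

theorem ee_inj (hw : w ^ 2 + w + 1 = 0) {i j : ZMod 3} (h : ee w i = ee w j) : i = j := by
  have h1 : Set.InjOn (fun n : ℕ => w ^ n) (Set.Iio (orderOf w)) := pow_injOn_Iio_orderOf
  rw [order_three hw] at h1
  exact ZMod.val_injective 3 (h1 (ZMod.val_lt i) (ZMod.val_lt j) h)

theorem ee_four (hw : w ^ 2 + w + 1 = 0) (i : ZMod 3) : ee w i ^ 4 = ee w i := by
  unfold ee
  have h1 : w ^ 4 = w := by linear_combination (w ^ 2 - w) * hw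
  rw [← pow_mul, mul_comm, pow_mul, h1]

theorem sub_four {a b : k} (ha : a ^ 4 = a) (hb : b ^ 4 = b) : (a - b) ^ 4 = a - b := by
  have h2 : (2 : k) = 0 := CharP.cast_eq_zero k 2
  linear_combination ha - hb + (-2 * a ^ 3 * b + 3 * a ^ 2 * b ^ 2 - 2 * a * b ^ 3 + b ^ 4) * h2

/-- the permutation of the weights -/
def sg (p : ZMod 3 × ZMod 3) : ZMod 3 × ZMod 3 := (p.2 - p.1, p.1)

theorem sg_inj : ∀ p : ZMod 3 × ZMod 3, p ≠ 0 → ∀ a b : Fin 8, sg^[a] p = sg^[b] p → a = b := by
  decide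

variable {V : Type*} [AddCommGroup V] [Module k V] [FiniteDimensional k V] {G : Type*} [Group G]
  {x t1 t2 h v r r1 n : G} (ρ : G →* Module.End k V)

/-- weight vectors -/
def IsWt (ρ : G →* Module.End k V) (x t1 t2 : G) (w : k) (p : ZMod 3 × ZMod 3) (u : V) : Prop :=
  u ≠ 0 ∧ ρ x u = u ∧ ρ t1 u = ee w p.1 • u ∧ ρ t2 u = ee w p.2 • u

theorem Dat.step (D : Dat x t1 t2 h v r r1 n) (hw : w ^ 2 + w + 1 = 0) {p : ZMod 3 × ZMod 3} {u : V}
    (hu : IsWt ρ x t1 t2 w p u) : IsWt ρ x t1 t2 w (sg p) (ρ h u) := by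
  obtain ⟨h0, h1, h2, h3⟩ := hu
  have e2 : ρ t2 (ρ h u) = ee w p.1 • ρ h u := by
    rw [← mul_app, ← D.h1, mul_app, h2, map_smul]
  refine ⟨ne_zero ρ h h0, ?_, ?_, e2⟩
  · have e1 : ρ x (ρ x (ρ h u)) = ρ h u := by
      rw [← mul_app, ← mul_app, ← D.hx, mul_app, h1]
    have e3 := congrArg (fun g => ρ g (ρ h u)) D.x3
    simp only [mul_app, one_app] at e3
    rwa [e1] at e3
  · have e3 : ρ t1 (ρ t2 (ρ h u)) = ee w p.2 • ρ h u := by
      rw [← mul_app, ← mul_app, mul_assoc, ← D.h2, mul_app, h3, map_smul]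
    rw [e2, map_smul] at e3
    have e4 : ee w p.2 = ee w p.1 * ee w (sg p).1 := by
      rw [← ee_add hw]
      congr 1
      change p.2 = p.1 + (p.2 - p.1)
      ring
    rw [e4, ← smul_smul] at e3
    exact smul_right_injective V (ee_ne hw p.1) e3

theorem Dat.steps (D : Dat x t1 t2 h v r r1 n) (hw : w ^ 2 + w + 1 = 0) {p : ZMod 3 × ZMod 3} {u : V}
    (hu : IsWt ρ x t1 t2 w p u) (m : ℕ) : IsWt ρ x t1 t2 w (sg^[m] p) ((ρ h)^[m] u) := by
  induction m with
  | zero => exact hu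
  | succ m ih =>
    rw [Function.iterate_succ_apply', Function.iterate_succ_apply']
    exact D.step ρ hw ih

theorem exists_kappa [IsAlgClosed k] : ∃ κ : k, κ ^ 4 ≠ κ := by
  by_contra hc
  push Not at hc
  have h1 : (Polynomial.X ^ 4 - Polynomial.X : Polynomial k) ≠ 0 := by
    apply Polynomial.Monic.ne_zero
    monicity!
  apply h1
  apply Polynomial.eq_zero_of_infinite_isRoot
  have h2 : {y : k | (Polynomial.X ^ 4 - Polynomial.X : Polynomial k).IsRoot y} = Set.univ := by
    ext y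
    simp [Polynomial.IsRoot, hc y]
  rw [h2]
  exact Set.infinite_univ

/-- eight weights -/
theorem Dat.no_weight [IsAlgClosed k] (D : Dat x t1 t2 h v r r1 n) (hw : w ^ 2 + w + 1 = 0)
    (hfr : finrank k (fx (ρ x)) < 8) {p : ZMod 3 × ZMod 3} (hp : p ≠ 0) {u : V} (hu : IsWt ρ x t1 t2 w p u) :
    False := by
  obtain ⟨κ, hκ⟩ := exists_kappa (k := k)
  have hs := D.steps ρ hw hu
  have hκ' : ∀ a a' b b' : ZMod 3, ee w a + κ * ee w b = ee w a' + κ * ee w b' → a = a' ∧ b = b' := by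
    intro a a' b b' heq
    by_cases hb : b = b'
    · subst hb
      exact ⟨ee_inj hw (by linear_combination heq), rfl⟩
    · exfalso
      apply hκ
      have hne : ee w b' - ee w b ≠ 0 := fun h0 => hb (ee_inj hw (sub_eq_zero.1 h0).symm)
      have h1 : κ = (ee w a - ee w a') / (ee w b' - ee w b) := by
        rw [eq_div_iff hne]
        linear_combination -heq
      rw [h1, div_pow, sub_four (ee_four hw _) (ee_four hw _), sub_four (ee_four hw _) (ee_four hw _)]
  have hli : LinearIndependent k (fun m : Fin 8 => (ρ h)^[m] u) := by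
    refine Module.End.eigenvectors_linearIndependent' (ρ t1 + κ • ρ t2)
      (fun m : Fin 8 => ee w (sg^[m] p).1 + κ * ee w (sg^[m] p).2) ?_ _ ?_
    · intro a b hab
      obtain ⟨h1, h2⟩ := hκ' _ _ _ _ hab
      exact sg_inj p hp a b (Prod.ext h1 h2)
    · intro m
      obtain ⟨h0, -, h2, h3⟩ := hs m
      refine ⟨?_, h0⟩
      rw [Module.End.mem_eigenspace_iff, LinearMap.add_apply, LinearMap.smul_apply, h2, h3, smul_smul, add_smul]
  have hli' : LinearIndependent k (fun m : Fin 8 => (⟨(ρ h)^[m] u, mem_fx.2 (hs m).2.1⟩ : fx (ρ x))) :=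
    LinearIndependent.of_comp (fx (ρ x)).subtype hli
  have h1 := hli'.fintype_card_le_finrank
  rw [Fintype.card_fin] at h1
  omega

/-- the projections -/
theorem proj_eq (hw : w ^ 2 + w + 1 = 0) {t : G} (ht : t * (t * t) = 1) (i : ZMod 3) (u : V) :
    ρ t (u + ee w (i + i) • ρ t u + ee w i • ρ t (ρ t u)) =
      ee w i • (u + ee w (i + i) • ρ t u + ee w i • ρ t (ρ t u)) := by
  have h3 : ρ t (ρ t (ρ t u)) = u := by
    have := congrArg (fun g => ρ g u) ht
    simpa only [mul_app, one_app] using this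
  rw [map_add, map_add, map_smul, map_smul, h3, smul_add, smul_add, smul_smul, smul_smul, ← ee_add hw, ← ee_add hw]
  have e1 : i + (i + i) = 0 := by revert i; decide
  have e0 : ee w 0 = 1 := by unfold ee; rw [ZMod.val_zero, pow_zero]
  rw [e1, e0, one_smul]
  abel

theorem proj_sum (hw : w ^ 2 + w + 1 = 0) (t : G) (u : V) :
    (u + ee w (0 + 0) • ρ t u + ee w 0 • ρ t (ρ t u)) + (u + ee w (1 + 1) • ρ t u + ee w 1 • ρ t (ρ t u)) +
      (u + ee w (2 + 2) • ρ t u + ee w 2 • ρ t (ρ t u)) = u := by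
  have h2 : (2 : k) = 0 := CharP.cast_eq_zero k 2
  have e0 : ee w (0 + 0) = 1 := by unfold ee; exact pow_zero w
  have e0' : ee w 0 = 1 := by unfold ee; exact pow_zero w
  have e1 : ee w (1 + 1) = w ^ 2 := rfl
  have e1' : ee w 1 = w := pow_one w
  have e2 : ee w (2 + 2) = w := pow_one w
  have e2' : ee w 2 = w ^ 2 := rfl
  rw [e0, e0', e1, e1', e2, e2']
  have e3 : (u + (1 : k) • ρ t u + (1 : k) • ρ t (ρ t u)) + (u + w ^ 2 • ρ t u + w • ρ t (ρ t u)) +
      (u + w • ρ t u + w ^ 2 • ρ t (ρ t u)) =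
      (3 : k) • u + (w ^ 2 + w + 1) • ρ t u + (w ^ 2 + w + 1) • ρ t (ρ t u) := by module
  rw [e3, hw, zero_smul, zero_smul, add_zero, add_zero, show (3 : k) = 1 by linear_combination h2, one_smul]

/-- **`t1` and `t2` are trivial on `C_V(x)`** -/
theorem Dat.triv [IsAlgClosed k] (D : Dat x t1 t2 h v r r1 n) (hw : w ^ 2 + w + 1 = 0)
    (hfr : finrank k (fx (ρ x)) < 8) : ∀ u, ρ x u = u → ρ t1 u = u ∧ ρ t2 u = u := by
  have key : ∀ u, ρ x u = u → ρ t1 u = u := by
    intro u hu
    by_contra hne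
    have hx1 : ∀ z, ρ x z = z → ρ x (ρ t1 z) = ρ t1 z := by
      intro z hz
      rw [← mul_app, ← D.ax, mul_app, hz]
    have hx2 : ∀ z, ρ x z = z → ρ x (ρ t2 z) = ρ t2 z := by
      intro z hz
      rw [← mul_app, ← D.bx, mul_app, hz]
    obtain ⟨i, hi, hpi⟩ : ∃ i : ZMod 3, i ≠ 0 ∧ u + ee w (i + i) • ρ t1 u + ee w i • ρ t1 (ρ t1 u) ≠ 0 := by
      by_contra hc
      push Not at hc
      have h1 := proj_sum ρ hw t1 u
      rw [hc 1 (by decide), hc 2 (by decide), add_zero, add_zero] at h1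
      have h2 := proj_eq ρ hw D.a3 0 u
      rw [h1] at h2
      apply hne
      rw [h2]
      change w ^ 0 • u = u
      rw [pow_zero, one_smul]
    set z := u + ee w (i + i) • ρ t1 u + ee w i • ρ t1 (ρ t1 u) with hz
    have z1 : ρ x z = z := by
      rw [hz, map_add, map_add, map_smul, map_smul, hx1 _ (hx1 _ hu), hx1 _ hu, hu]
    have z2 : ρ t1 z = ee w i • z := proj_eq ρ hw D.a3 i u
    clear_value z
    -- `t2` commutes with `t1` on `C_V(x)`
    have hc12 : ∀ y, ρ x y = y → ρ t1 y = ee w i • y → ρ t1 (ρ t2 y) = ee w i • ρ t2 y := by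
      intro y hy1 hy2
      rw [← mul_app, D.tt, mul_app, mul_app, hy2, map_smul, map_smul, hx2 _ hy1]
    obtain ⟨j, hpj⟩ : ∃ j : ZMod 3, z + ee w (j + j) • ρ t2 z + ee w j • ρ t2 (ρ t2 z) ≠ 0 := by
      by_contra hc
      push Not at hc
      have h1 := proj_sum ρ hw t2 z
      rw [hc 0, hc 1, hc 2, add_zero, add_zero] at h1
      exact hpi h1.symm
    set y := z + ee w (j + j) • ρ t2 z + ee w j • ρ t2 (ρ t2 z) with hy
    refine D.no_weight ρ hw hfr (p := (i, j)) (fun h0 => hi (congrArg Prod.fst h0)) (u := y) ⟨hpj, ?_, ?_, ?_⟩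
    · rw [hy, map_add, map_add, map_smul, map_smul, hx2 _ (hx2 _ z1), hx2 _ z1, z1]
    · change ρ t1 y = ee w i • y
      rw [hy, map_add, map_add, map_smul, map_smul, hc12 _ (hx2 _ z1) (hc12 _ z1 z2), hc12 _ z1 z2, z2, smul_add,
        smul_add, smul_comm (ee w i) (ee w (j + j)) (ρ t2 z), smul_comm (ee w i) (ee w j) (ρ t2 (ρ t2 z))]
    · exact proj_eq ρ hw D.b3 j z
  intro u hu
  refine ⟨key u hu, ?_⟩
  have h1 : ρ x (ρ h⁻¹ u) = ρ h⁻¹ u := by
    have e1 : x * h⁻¹ = h⁻¹ * (x * x) := by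
      rw [eq_inv_mul_iff_mul_eq, ← mul_assoc, D.hx, mul_assoc, mul_inv_cancel, mul_one]
    rw [← mul_app, e1, mul_app, mul_app, hu, hu]
  have h2 := key _ h1
  have e2 : t2 = h * (t1 * h⁻¹) := by rw [← mul_assoc, D.h1, mul_assoc, mul_inv_cancel, mul_one]
  rw [e2, mul_app, mul_app, h2, ← mul_app, mul_inv_cancel, one_app]

/-- the determinant argument -/
theorem Dat.three (D : Dat x t1 t2 h v r r1 n) (hw : w ^ 2 + w + 1 = 0) :
    3 ∣ finrank k (LinearMap.ker (ρ x - w • (1 : Module.End k V))) := by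
  set A := LinearMap.ker (ρ x - w • (1 : Module.End k V)) with hAdef
  have hA : ∀ u, u ∈ A ↔ ρ x u = w • u := by
    intro u
    rw [hAdef, LinearMap.mem_ker, LinearMap.sub_apply, LinearMap.smul_apply, Module.End.one_apply, sub_eq_zero]
  have hinv : ∀ t : G, t * x = x * t → ∀ u ∈ A, ρ t u ∈ A := by
    intro t ht u hu
    rw [hA] at hu ⊢
    rw [← mul_app, ← ht, mul_app, hu, map_smul]
  let f1 : A →ₗ[k] A := (ρ t1).restrict (hinv t1 D.ax)
  let f2 : A →ₗ[k] A := (ρ t2).restrict (hinv t2 D.bx)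
  have e1 : f1 ∘ₗ f2 = (w • (LinearMap.id : A →ₗ[k] A)) ∘ₗ (f2 ∘ₗ f1) := by
    apply LinearMap.ext
    intro u
    apply Subtype.ext
    change ρ t1 (ρ t2 u) = w • ρ t2 (ρ t1 u)
    rw [← mul_app, D.tt, mul_app, mul_app]
    exact (hA _).1 (hinv t2 D.bx _ (hinv t1 D.ax _ u.2))
  have e2 := congrArg LinearMap.det e1
  rw [LinearMap.det_comp, LinearMap.det_comp, LinearMap.det_comp, LinearMap.det_smul, LinearMap.det_id, mul_one] at e2
  have hcube : ∀ (t : G) (ht : t * (t * t) = 1) (hc : t * x = x * t),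
      LinearMap.det ((ρ t).restrict (hinv t hc)) ≠ 0 := by
    intro t ht hc h0
    have h1 : ((ρ t).restrict (hinv t hc)) ∘ₗ (((ρ t).restrict (hinv t hc)) ∘ₗ ((ρ t).restrict (hinv t hc))) =
        (LinearMap.id : A →ₗ[k] A) := by
      apply LinearMap.ext
      intro u
      apply Subtype.ext
      change ρ t (ρ t (ρ t u)) = u
      rw [← mul_app, ← mul_app, mul_assoc, ht, one_app]
    have h2 := congrArg LinearMap.det h1
    rw [LinearMap.det_comp, h0, zero_mul, LinearMap.det_id] at h2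
    exact zero_ne_one h2
  have n1 := hcube t1 D.a3 D.ax
  have n2 := hcube t2 D.b3 D.bx
  have e3 : w ^ finrank k A = 1 := by
    have e4 : LinearMap.det f1 * LinearMap.det f2 ≠ 0 := mul_ne_zero n1 n2
    apply mul_right_cancel₀ e4
    linear_combination -e2
  rw [← order_three hw]
  exact orderOf_dvd_of_pow_eq_one e3

/-- **a representation of dimension 12 is reducible** -/
theorem Dat.reducible [IsAlgClosed k] (D : Dat x t1 t2 h v r r1 n) (hV : finrank k V = 12) (hx : ρ x ≠ 1) :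
    ∃ M : Submodule k V, M ≠ ⊥ ∧ M ≠ ⊤ ∧ ∀ g, ∀ u ∈ M, ρ g u ∈ M := by
  obtain ⟨w, hw⟩ : ∃ w : k, w ^ 2 + w + 1 = 0 := by
    have h1 : (Polynomial.X ^ 2 + Polynomial.X + 1 : Polynomial k).degree ≠ 0 := by
      have : (Polynomial.X ^ 2 + Polynomial.X + 1 : Polynomial k).degree = 2 := by compute_degree!
      rw [this]; norm_num
    obtain ⟨w, hw⟩ := IsAlgClosed.exists_root _ h1
    exact ⟨w, by simpa using hw⟩
  have hx3 : ρ x * (ρ x * ρ x) = 1 := by rw [← map_mul, ← map_mul, D.x3, map_one]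
  have hnt : Nontrivial V := by
    apply Module.nontrivial_of_finrank_pos (R := k)
    omega
  have h1 := even3 hw hx3 (r := ρ h) (fun a b hab => inj ρ h hab) (by rw [← map_mul, D.hx, map_mul, map_mul])
  have h2 := D.three ρ hw
  have h3 : finrank k (LinearMap.ker (ρ x - w • (1 : Module.End k V))) ≠ 0 := by
    intro h0
    apply hx
    have h4 : fx (ρ x) = ⊤ := Submodule.eq_top_of_finrank_eq (by omega)
    apply LinearMap.ext
    intro v
    have : v ∈ fx (ρ x) := by rw [h4]; trivial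
    exact mem_fx.1 this
  have h4 : finrank k (fx (ρ x)) = 6 ∨ finrank k (fx (ρ x)) = 0 := by
    obtain ⟨m, hm⟩ := h2
    omega
  have htop : ∀ M : Submodule k V, finrank k M ≤ 6 → M ≠ ⊤ := by
    rintro M hM rfl
    rw [finrank_top] at hM
    omega
  rcases h4 with h4 | h4
  · have ht := D.triv ρ hw (by omega)
    set U := fx (ρ x) with hU
    let e : V →ₗ[k] V := ρ v
    have he : Function.Injective e := fun a b hab => inj ρ v hab
    set U' := U.map e with hU'
    have hfU' : finrank k U' = 6 := by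
      rw [← h4]
      exact (Submodule.equivMapOfInjective e he U).finrank_eq.symm
    by_cases hint : U ⊓ U' = ⊥
    · exfalso
      have h5 := Submodule.finrank_sup_add_finrank_inf_eq U U'
      rw [hint, finrank_bot, add_zero, h4, hfU'] at h5
      have h6 : U ⊔ U' = ⊤ := Submodule.eq_top_of_finrank_eq (by omega)
      have h7 : U ⊔ U' ≤ fx (ρ t1) := by
        apply sup_le
        · intro u hu
          exact mem_fx.2 (ht u (mem_fx.1 hu)).1
        · rintro _ ⟨u, hu, rfl⟩
          rw [mem_fx]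
          change ρ t1 (ρ v u) = ρ v u
          rw [← mul_app, ← D.v1, mul_app, (ht u (mem_fx.1 hu)).1]
      rw [h6, top_le_iff] at h7
      have h8 : ρ t1 = 1 := by
        apply LinearMap.ext
        intro u
        have : u ∈ fx (ρ t1) := by rw [h7]; trivial
        exact mem_fx.1 this
      apply hx
      have h9 : ρ (t1 * t2) = ρ (x * (t2 * t1)) := by rw [D.tt]
      rw [map_mul, map_mul, map_mul, h8, one_mul, mul_one] at h9
      have h10 : ρ (t2 * t2⁻¹) = 1 := by rw [mul_inv_cancel, map_one]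
      calc ρ x = ρ x * (ρ t2 * ρ t2⁻¹) := by rw [← map_mul, h10, mul_one]
        _ = ρ t2 * ρ t2⁻¹ := by rw [← mul_assoc, ← h9]
        _ = 1 := by rw [← map_mul, h10]
    · obtain ⟨u, hu, hu0⟩ := (Submodule.ne_bot_iff _).1 hint
      obtain ⟨hu1, u', hu', hu2⟩ := hu
      have hfix : ∀ g, ρ g u = u := by
        apply fix_of_gen ρ D.gen1
        rintro g (rfl | rfl | rfl)
        · exact (ht u (mem_fx.1 hu1)).1
        · exact (ht u (mem_fx.1 hu1)).2
        · rw [← hu2]
          change ρ (v * t2 * v⁻¹) (ρ v u') = ρ v u'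
          rw [← mul_app, inv_mul_cancel_right, mul_app, (ht u' (mem_fx.1 hu')).2]
      refine ⟨Submodule.span k {u}, ?_, htop _ ?_, ?_⟩
      · rw [Ne, Submodule.span_singleton_eq_bot]
        exact hu0
      · rw [finrank_span_singleton hu0]
        norm_num
      · intro g z hz
        obtain ⟨c, rfl⟩ := Submodule.mem_span_singleton.1 hz
        rw [map_smul, hfix]
        exact hz
  · have h5 : fx (ρ x) = ⊥ := Submodule.finrank_eq_zero.1 h4
    obtain ⟨M, hM0, hM6, hM⟩ := D.quad ρ (fun u => by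
      have h6 : u + ρ x u + ρ x (ρ x u) ∈ fx (ρ x) := by
        rw [mem_fx, map_add, map_add]
        rw [show ρ x (ρ x (ρ x u)) = u from DFunLike.congr_fun hx3 u]
        abel
      rw [h5] at h6
      exact (Submodule.mem_bot k).1 h6)
    exact ⟨M, hM0, htop M hM6, hM⟩

end weights

end Cfsg.Agent.H808.JD
end

-- part: H808/JD/Words
section
/-!
# The elements of `Dat` in the Hall-Janko group on 100 points (helper808)
-/

set_option autoImplicit false
set_option maxRecDepth 100000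

namespace Cfsg.Agent.H808.JD

open Cfsg.Agent.J2.HundredGens Cfsg.Agent.SporadicA.PermTab Cfsg.Agent.SporadicA.J2Hundred

namespace Words

/-- class 3A -/
def wx : List ℕ := [4, 3]
/-- class 3B -/
def w1 : List ℕ := [1, 0, 1, 2, 3, 4, 2, 3, 1, 2, 3, 4, 1, 2, 3, 2]
/-- class 3B -/
def w2 : List ℕ := [2, 3, 4, 2, 3, 2, 0, 1, 0, 1, 2, 3, 4, 2, 3, 1, 2, 3, 4, 1, 2, 3, 2, 3, 1, 0]
/-- order 8 -/
def wh : List ℕ := [2, 3, 4, 2, 3, 2, 0, 1, 0]
/-- commutes with `w1` -/
def wv : List ℕ := [2, 3, 2, 3, 1, 2, 3, 4, 3, 2, 0, 1, 0, 1, 2, 0]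
/-- an involution, `⟨wr, wx⟩ = A5` -/
def wr : List ℕ := [2, 3, 1, 2, 3, 4, 3, 2, 3, 1, 2, 1]
/-- an involution of `⟨wr, wx⟩` -/
def wr1 : List ℕ := [0, 1, 2, 3, 1, 0, 1, 2, 3, 4, 3, 2, 3, 2, 1, 0, 1, 2, 1, 0]
/-- order 3 -/
def wn : List ℕ := [4, 1, 2, 3, 2, 1, 0, 1, 2, 3, 4, 2]

theorem gm (L M : List ℕ) : gw L * gw M = gw (L ++ M) := Subtype.ext (pw_mul L M)

theorem ge {L M : List ℕ} (h : chk L M = true) : gw L = gw M := Subtype.ext (pw_eq h)

theorem g1 : gw [] = 1 := Subtype.ext pw_nil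

theorem gi (L : List ℕ) : (gw L)⁻¹ = gw L.reverse := Subtype.ext (pw_inv L)

theorem gen_eq {S : Subgroup G} (h : ∀ k < 5, gw [k] ∈ S) : S = ⊤ := by
  have hle : Subgroup.closure gens ≤ S.map G.subtype := by
    rw [Subgroup.closure_le]
    rintro p (rfl | rfl | rfl | rfl | rfl)
    · exact ⟨gw [0], h 0 (by norm_num), mul_one _⟩
    · exact ⟨gw [1], h 1 (by norm_num), mul_one _⟩
    · exact ⟨gw [2], h 2 (by norm_num), mul_one _⟩
    · exact ⟨gw [3], h 3 (by norm_num), mul_one _⟩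
    · exact ⟨gw [4], h 4 (by norm_num), mul_one _⟩
  rw [eq_top_iff]
  intro a _
  obtain ⟨b, hb, hab⟩ := hle a.2
  rwa [← Subtype.ext hab]

/-- words in words -/
theorem mem_flat {S : Subgroup G} {m : ℕ} (lt : Fin m → List ℕ) (h : ∀ i, gw (lt i) ∈ S) (W : List (Fin m)) :
    gw (W.flatMap lt) ∈ S := by
  induction W with
  | nil => rw [List.flatMap_nil, g1]; exact S.one_mem
  | cons i W ih =>
    rw [List.flatMap_cons, ← gm]
    exact S.mul_mem (h i) ih

/-- letters for the first generating set -/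
def lt1 : Fin 6 → List ℕ := ![w1, w1.reverse, w2, w2.reverse, wv ++ w2 ++ wv.reverse, (wv ++ w2 ++ wv.reverse).reverse]

/-- letters for the second generating set -/
def lt2 : Fin 5 → List ℕ := ![wr, wx, wx.reverse, wn, wn.reverse]

private noncomputable def _root_.Cfsg.Agent.LsF.fac9c6d_0 : {f // @Cfsg.Agent.J2.HundredGens.tab = f} := ⟨_, by first | (delta Cfsg.Agent.J2.HundredGens.tab; (try delta Cfsg.Agent.J2.HundredGens.gen.match_1); (try rewrite [Cfsg.Agent.LsF.instDecEq_eq, Cfsg.Agent.LsF.dite_eq]); exact rfl) | exact rfl⟩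
private noncomputable def _root_.Cfsg.Agent.LsF.fac9c6d_1 : {f // @Cfsg.Agent.J2.HundredGens.run = f} := ⟨_, by first | (delta Cfsg.Agent.J2.HundredGens.run; rewrite [Cfsg.Agent.LsF.fac9c6d_0.2, Cfsg.Agent.LsF.foldr_eq]; exact rfl) | exact rfl⟩
private noncomputable def _root_.Cfsg.Agent.LsF.fac9c6d_2 : {f // @Cfsg.Agent.J2.HundredGens.chk = f} := ⟨_, by first | (delta Cfsg.Agent.J2.HundredGens.chk; rewrite [Cfsg.Agent.LsF.fac9c6d_1.2]; exact rfl) | exact rfl⟩
private noncomputable def _root_.Cfsg.Agent.LsF.fac9c6d_3 : {f // @Cfsg.Agent.H808.JD.Words.lt1 = f} := ⟨_, by first | (delta Cfsg.Agent.H808.JD.Words.lt1; rewrite [Cfsg.Agent.LsF.lappend_pat, Cfsg.Agent.LsF.vecCons_eq, Cfsg.Agent.LsF.reverse_eq]; exact rfl) | exact rfl⟩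
private noncomputable def _root_.Cfsg.Agent.LsF.fac9c6d_4 : {f // @Cfsg.Agent.H808.JD.Words.lt2 = f} := ⟨_, by first | (delta Cfsg.Agent.H808.JD.Words.lt2; rewrite [Cfsg.Agent.LsF.vecCons_eq, Cfsg.Agent.LsF.reverse_eq]; exact rfl) | exact rfl⟩
/-- **the data** -/
theorem dat : Dat (gw wx) (gw w1) (gw w2) (gw wh) (gw wv) (gw wr) (gw wr1) (gw wn) where
  x3 := by simp only [gm]; rw [← g1]; exact ge (by decide +kernel)
  a3 := by simp only [gm]; rw [← g1]; exact ge (by decide +kernel)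
  b3 := by simp only [gm]; rw [← g1]; exact ge (by ((try (rewrite [Cfsg.Agent.LsF.fac9c6d_2.2, Cfsg.Agent.LsF.lappend_pat])); decide +kernel))
  tt := by simp only [gm]; exact ge (by ((try (rewrite [Cfsg.Agent.LsF.fac9c6d_2.2, Cfsg.Agent.LsF.lappend_pat])); decide +kernel))
  ax := by simp only [gm]; exact ge (by decide +kernel)
  bx := by simp only [gm]; exact ge (by decide +kernel)
  hx := by simp only [gm]; exact ge (by decide +kernel)
  h1 := by simp only [gm]; exact ge (by decide +kernel)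
  h2 := by simp only [gm]; exact ge (by ((try (rewrite [Cfsg.Agent.LsF.fac9c6d_2.2, Cfsg.Agent.LsF.lappend_pat])); decide +kernel))
  v1 := by simp only [gm]; exact ge (by decide +kernel)
  gen1 := by
    set S := Subgroup.closure {gw w1, gw w2, gw wv * gw w2 * (gw wv)⁻¹} with hS
    have ha : gw w1 ∈ S := Subgroup.subset_closure (Or.inl rfl)
    have hb : gw w2 ∈ S := Subgroup.subset_closure (Or.inr (Or.inl rfl))
    have hc : gw (wv ++ w2 ++ wv.reverse) ∈ S := by
      rw [← gm, ← gm, ← gi]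
      exact Subgroup.subset_closure (Or.inr (Or.inr rfl))
    have hl : ∀ i, gw (lt1 i) ∈ S := by
      intro i
      fin_cases i
      · exact ha
      · change gw w1.reverse ∈ S
        rw [← gi]; exact S.inv_mem ha
      · exact hb
      · change gw w2.reverse ∈ S
        rw [← gi]; exact S.inv_mem hb
      · exact hc
      · change gw (wv ++ w2 ++ wv.reverse).reverse ∈ S
        rw [← gi]; exact S.inv_mem hc
    have hk : ∀ (k : ℕ) (W : List (Fin 6)), chk [k] (W.flatMap lt1) = true → gw [k] ∈ S := by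
      intro k W h
      rw [ge h]
      exact mem_flat lt1 hl W
    apply gen_eq
    intro k hk5
    interval_cases k
    · exact hk 0 [2, 4, 0, 3, 0, 5, 3, 1, 4, 0, 3] (by ((try (rewrite [Cfsg.Agent.LsF.fac9c6d_2.2, Cfsg.Agent.LsF.fac9c6d_3.2, Cfsg.Agent.LsF.flatMap_eq])); decide +kernel))
    · exact hk 1 [3, 1, 5, 0, 2, 0, 4, 2, 1, 5, 0] (by ((try (rewrite [Cfsg.Agent.LsF.fac9c6d_2.2, Cfsg.Agent.LsF.fac9c6d_3.2, Cfsg.Agent.LsF.flatMap_eq])); decide +kernel))
    · exact hk 2 [4, 2, 4, 0, 2, 5, 2, 5, 1, 3, 4, 1] (by ((try (rewrite [Cfsg.Agent.LsF.fac9c6d_2.2, Cfsg.Agent.LsF.fac9c6d_3.2, Cfsg.Agent.LsF.flatMap_eq])); decide +kernel))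
    · exact hk 3 [1, 5, 2, 1, 4, 3, 5, 3, 5, 2, 0] (by ((try (rewrite [Cfsg.Agent.LsF.fac9c6d_2.2, Cfsg.Agent.LsF.fac9c6d_3.2, Cfsg.Agent.LsF.flatMap_eq])); decide +kernel))
    · exact hk 4 [4, 2, 1, 4, 3, 5, 0, 2, 0, 4, 3] (by ((try (rewrite [Cfsg.Agent.LsF.fac9c6d_2.2, Cfsg.Agent.LsF.fac9c6d_3.2, Cfsg.Agent.LsF.flatMap_eq])); decide +kernel))
  r2 := by simp only [gm]; rw [← g1]; exact ge (by decide +kernel)
  y5 := by simp only [gm]; rw [← g1]; exact ge (by decide +kernel)
  r1w := by simp only [gm]; exact ge (by ((try (rewrite [Cfsg.Agent.LsF.fac9c6d_2.2, Cfsg.Agent.LsF.lappend_pat])); decide +kernel))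
  ry := by simp only [gm]; exact ge (by decide +kernel)
  n3 := by simp only [gm]; rw [← g1]; exact ge (by decide +kernel)
  nr := by simp only [gm]; exact ge (by decide +kernel)
  ny := by simp only [gm, gi]; exact ge (by ((try (rewrite [Cfsg.Agent.LsF.fac9c6d_2.2, Cfsg.Agent.LsF.lappend_pat, Cfsg.Agent.LsF.reverse_eq])); decide +kernel))
  nyy := by simp only [gm, gi]; rw [← g1]; exact ge (by ((try (rewrite [Cfsg.Agent.LsF.fac9c6d_2.2, Cfsg.Agent.LsF.lappend_pat, Cfsg.Agent.LsF.reverse_eq])); decide +kernel))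
  gen2 := by
    set S := Subgroup.closure {gw wr, gw wx, gw wn} with hS
    have ha : gw wr ∈ S := Subgroup.subset_closure (Or.inl rfl)
    have hb : gw wx ∈ S := Subgroup.subset_closure (Or.inr (Or.inl rfl))
    have hc : gw wn ∈ S := Subgroup.subset_closure (Or.inr (Or.inr rfl))
    have hl : ∀ i, gw (lt2 i) ∈ S := by
      intro i
      fin_cases i
      · exact ha
      · exact hb
      · change gw wx.reverse ∈ S
        rw [← gi]; exact S.inv_mem hb
      · exact hc
      · change gw wn.reverse ∈ S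
        rw [← gi]; exact S.inv_mem hc
    have hk : ∀ (k : ℕ) (W : List (Fin 5)), chk [k] (W.flatMap lt2) = true → gw [k] ∈ S := by
      intro k W h
      rw [ge h]
      exact mem_flat lt2 hl W
    apply gen_eq
    intro k hk5
    interval_cases k
    · exact hk 0 [4, 0, 4, 0, 3, 0, 2, 4, 1, 4, 2, 0] (by ((try (rewrite [Cfsg.Agent.LsF.fac9c6d_2.2, Cfsg.Agent.LsF.fac9c6d_4.2, Cfsg.Agent.LsF.flatMap_eq])); decide +kernel))
    · exact hk 1 [3, 0, 3, 0, 4, 0, 4, 0, 3, 0, 3, 0] (by ((try (rewrite [Cfsg.Agent.LsF.fac9c6d_2.2, Cfsg.Agent.LsF.fac9c6d_4.2, Cfsg.Agent.LsF.flatMap_eq])); decide +kernel))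
    · exact hk 2 [4, 1, 3, 1, 0, 4, 2, 3, 1, 3, 0, 3, 0] (by ((try (rewrite [Cfsg.Agent.LsF.fac9c6d_2.2, Cfsg.Agent.LsF.fac9c6d_4.2, Cfsg.Agent.LsF.flatMap_eq])); decide +kernel))
    · exact hk 3 [1, 3, 0, 2, 4, 1, 4, 1, 0, 1, 3, 0] (by ((try (rewrite [Cfsg.Agent.LsF.fac9c6d_2.2, Cfsg.Agent.LsF.fac9c6d_4.2, Cfsg.Agent.LsF.flatMap_eq])); decide +kernel))
    · exact hk 4 [4, 0, 1, 4, 2, 4, 2, 4, 1, 0, 3] (by ((try (rewrite [Cfsg.Agent.LsF.fac9c6d_2.2, Cfsg.Agent.LsF.fac9c6d_4.2, Cfsg.Agent.LsF.flatMap_eq])); decide +kernel))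

theorem x_ne : gw wx ≠ 1 := by
  intro h
  have h1 : pw wx = 1 := congrArg Subtype.val h
  have h2 := pw_val wx 0
  rw [h1] at h2
  revert h2
  decide +kernel

end Words

end Cfsg.Agent.H808.JD
end

-- part: H808/JD/Two
section
/-!
# The Hall-Janko group in characteristic two, degree 12 (helper808)

* `not_irr` : `J2` has no absolutely irreducible representation of degree 12 in characteristic two;
* **`core_false`** : `Core P`, `P / scalars ≃ J2`, characteristic two, degree 12 is impossible.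
-/

set_option autoImplicit false

namespace Cfsg.Agent.H808.JD

open Cfsg Cfsg.Geo Matrix

universe u v

/-- the group on 100 points -/
theorem hundred {F : Type u} [Field F] [CharP F 2] {ι : Type} [Fintype ι] [DecidableEq ι]
    (hd : Fintype.card ι = 12) (f : SporadicA.J2Hundred.G →* GL ι F)
    (hs : Submodule.span F (matrixSet f.range) = ⊤) (hx : f (J2.HundredGens.gw Words.wx) ≠ 1) : False := by
  let E := AlgebraicClosure F
  have : CharP E 2 := charP_of_injective_algebraMap (algebraMap F E).injective 2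
  have hfr : Module.finrank E (ι → E) = 12 := by rw [Module.finrank_fintype_fun_eq_card, hd]
  have hρx : H659.Ac.rp E f (J2.HundredGens.gw Words.wx) ≠ 1 := by
    intro h
    apply hx
    apply Units.ext
    have h1 : ((f (J2.HundredGens.gw Words.wx) : GL ι F) : Matrix ι ι F).map (algebraMap F E) = 1 := by
      apply Matrix.mulVec_injective
      funext v
      rw [← H659.Ac.rp_apply, h, one_mulVec]
      rfl
    ext i j
    have h2 := congrFun (congrFun h1 i) j
    rw [Matrix.map_apply] at h2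
    apply (algebraMap F E).injective
    rw [h2, Units.val_one]
    by_cases hij : i = j
    · subst hij; rw [one_apply_eq, one_apply_eq, map_one]
    · rw [one_apply_ne hij, one_apply_ne hij, map_zero]
  obtain ⟨M, hM0, hM1, hM⟩ := Words.dat.reducible (H659.Ac.rp E f) hfr hρx
  rcases H659.Ac.rp_irr E f rfl hs M hM with h | h
  · exact hM0 h
  · exact hM1 h

theorem x_ne_of_inj {F : Type u} [Field F] {ι : Type} [Fintype ι] [DecidableEq ι]
    {f : SporadicA.J2Hundred.G →* GL ι F} (hf : Function.Injective f) : f (J2.HundredGens.gw Words.wx) ≠ 1 := by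
  intro h
  apply Words.x_ne
  apply hf
  rw [h, map_one]

/-- **no absolutely irreducible representation of degree 12** -/
theorem not_irr {F : Type u} [Field F] [CharP F 2] {G : Type v} [Group G] (hJ : Spor.IsoJ2 G) {ι : Type} [Fintype ι]
    [DecidableEq ι] (hd : Fintype.card ι = 12) (f : G →* GL ι F) (hf : Function.Injective f) :
    ¬ ActsAbsolutelyIrreducibly (matrixSet f.range) := by
  intro hirr
  obtain ⟨e⟩ := hJ
  obtain ⟨e'⟩ := Cfsg.Agent.J2.HundredGens.J2_iso Cfsg.Agent.S1619.result.2.2.2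
  let E : G ≃* SporadicA.J2Hundred.G := e.trans e'
  have hr : (f.comp E.symm.toMonoidHom).range = f.range := by
    rw [MonoidHom.range_comp]
    have h2 : (E.symm.toMonoidHom).range = ⊤ := MonoidHom.range_eq_top.2 E.symm.surjective
    rw [h2, ← MonoidHom.range_eq_map]
  apply hundred hd (f.comp E.symm.toMonoidHom)
  · rw [hr]
    exact H920.span_eq_top hirr
  · exact x_ne_of_inj (hf.comp E.symm.injective)

open Cfsg.Agent.H915.LD

/-- the scalars of `P` are trivial -/
theorem scalars_bot {F : Type u} [Field F] [Finite F] [CharP F 2] {ι : Type} [Fintype ι] [DecidableEq ι]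
    {P : Subgroup (GL ι F)} (hC : Core P) (hJ : Spor.IsoJ2 (Soc P)) : (scalars ι F).subgroupOf P = ⊥ := by
  obtain ⟨e⟩ := hJ
  have h1 : Nat.card ((scalars ι F).subgroupOf P) ∣ 2 := by
    have h2 := hC.card_scalars_dvd e Cfsg.Agent.S2040.result
    have h3 : Nat.card (Multiplicative (ZMod 2)) = 2 := by
      rw [Nat.card_eq_fintype_card, Fintype.card_multiplicative, ZMod.card]
    rwa [h3] at h2
  rw [Subgroup.eq_bot_iff_forall]
  intro z hz
  have h3 : z ^ 2 = 1 := by
    have h4 : (⟨z, hz⟩ : (scalars ι F).subgroupOf P) ^ Nat.card ((scalars ι F).subgroupOf P) = 1 := pow_card_eq_one'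
    obtain ⟨m, hm⟩ := h1
    have h5 : z ^ Nat.card ((scalars ι F).subgroupOf P) = 1 := congrArg Subtype.val h4
    rw [hm, pow_mul, h5, one_pow]
  have hne := hC.nonempty
  rw [Subgroup.mem_subgroupOf, mem_scalars_iff] at hz
  obtain ⟨c, hc⟩ := hz
  have h4 : ((z : GL ι F) : Matrix ι ι F) ^ 2 = 1 := by
    rw [← Units.val_pow_eq_pow_val, ← Subgroup.coe_pow, h3]
    rfl
  rw [hc, smul_pow, one_pow] at h4
  have h5 : (c : F) ^ 2 = 1 := by
    obtain ⟨i⟩ := hne
    have := congrFun (congrFun h4 i) i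
    simpa using this
  have h6 : ((c : F) - 1) ^ 2 = 0 := by
    have h7 : (2 : F) = 0 := CharP.cast_eq_zero F 2
    linear_combination h5 - ((c : F) - 1) * h7
  have h7 : (c : F) = 1 := sub_eq_zero.1 (pow_eq_zero_iff two_ne_zero |>.1 h6)
  apply Subtype.ext
  apply Units.ext
  rw [hc, h7, one_smul]
  rfl

/-- **no core of type `J2` of degree 12 in characteristic two** -/
theorem core_false {F : Type u} [Field F] [Finite F] [CharP F 2] {ι : Type} [Fintype ι] [DecidableEq ι]
    {P : Subgroup (GL ι F)} (hC : Core P) (hJ : Spor.IsoJ2 (Soc P)) (hd : Fintype.card ι = 12) : False := by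
  have hb := scalars_bot hC hJ
  have hinj : Function.Injective (toSoc P) := by
    rw [← MonoidHom.ker_eq_bot_iff, ker_toSoc, hb]
  let e : P ≃* Soc P := MulEquiv.ofBijective (toSoc P) ⟨hinj, toSoc_surjective P⟩
  obtain ⟨e'⟩ := hJ
  refine not_irr (G := P) ⟨e.trans e'⟩ hd P.subtype P.subtype_injective ?_
  rw [Subgroup.range_subtype]
  exact hC.absIrred

end Cfsg.Agent.H808.JD
end
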