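import Mathlib
import Cfsg.Agent.H905.MdK
import Cfsg.Agent.H62.SpCross
import Cfsg.Agent.H708.ReeSix_m3
import Cfsg.Agent.FastGrp
import Cfsg.Agent.Prune
set_option linter.all false

section
prune_inst 0x7ffceffbabfc0fffffff7e7ff6d6cffdfcb93fffe6fffdcbffe0e9ff0bdf5f888de5fb858fe010fe1fd7621c50787b53ff7eceffe26bdc7ffffd5ff41ffbff8fedf6b50871f48c3e0fbc6fff83f07f8a7f3fffffffffffffffffffffffffffbeffbfffffffff

-- part: H905/Sp4Act
section
prune_inst 0x310045403700000000180012900000342000009000030000a160014200016420a043a6010a001400080008500000000002000010402000000a000000000501001002400093080104200000800000400000000000000000000000000000000000000000000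
set_option linter.all false
open scoped Cfsg.Agent.FastGrp

-- part: H905/Sp4Def
section
/-!
# The kernel of the modules of `Sp_4(K)` in defining characteristic (definitions) (helper905)

Coordinates of `K^4` in the order `e0, e1, f1, f0`.  An isotropic pair is a pair of linearly independent vectors
`a, b` with `om a b = 0`.  For isotropic pairs `r, s`
`D1 r s = r.a ⬝ s.a`, `D2 r s` = the `2 × 2` minor.  For an irreducible module `V` of `Sp_4(K)` with highest weight
`c₁, c₂` there are functionals `φ r` and vectors `v s` with `φ r (v s) = j (D1 r s) ^ c₁ * j (D2 r s) ^ c₂`.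
-/

set_option autoImplicit false

namespace Cfsg.Agent.H905.Sp4

open Matrix

universe u

/-- the symplectic form on `K^4` in the order `e0, e1, f1, f0` -/
def om {K : Type u} [Field K] (x y : Fin 4 → K) : K := x 0 * y 3 - x 3 * y 0 + x 1 * y 2 - x 2 * y 1

/-- isotropic pairs of linearly independent vectors -/
structure IsoPair (K : Type u) [Field K] where
  a : Fin 4 → K
  b : Fin 4 → K
  iso : om a b = 0
  ind : LinearIndependent K ![a, b]

/-- first coordinate function -/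
def D1 {K : Type u} [Field K] (r s : IsoPair K) : K := r.a ⬝ᵥ s.a

/-- second coordinate function -/
def D2 {K : Type u} [Field K] (r s : IsoPair K) : K :=
  (r.a ⬝ᵥ s.a) * (r.b ⬝ᵥ s.b) - (r.a ⬝ᵥ s.b) * (r.b ⬝ᵥ s.a)

end Cfsg.Agent.H905.Sp4
end

-- part: H905/Sp4Act
section
/-!
# The natural module of `Sp_4(K)` and the root groups (helper905)

`e0, e1, f1, f0` : the coordinates `inr 0, inr 1, inl 1, inl 0`.

* `SUp`, `SLo` : the stabilisers of the flags; `U_le`, `UN_le` : the positive (negative) root groups are contained in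
  them;
* `F1`, `F2` : the two coordinate functions; `F1_inv`, `F2_inv` : invariance under `U⁻` on the left and `U` on the right.
-/

set_option autoImplicit false
set_option linter.unusedSectionVars false
set_option linter.style.haveILetI false

namespace Cfsg.Agent.H905.Sp4

open CoxeterSystem Cfsg.Agent.ChevalleyStructure.CoxeterGeom Cfsg.Agent.Tits.Roots Cfsg.Agent.Nodes.TypeC
open Cfsg.Agent.Nodes.Comb Cfsg.Agent.Nodes.Reps Cfsg.Agent.Nodes.WittRoot Cfsg.Agent.Nodes.BNOf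
open Cfsg.Agent.Nodes.WittRGD Cfsg.Agent.Nodes.RGDLib Cfsg.Agent.Nodes.OppDec
open Cfsg.Agent.TitsThree Cfsg.Agent.TitsThree.Siegel Cfsg.Agent.TitsThree.WittFrame
  Cfsg.Agent.TitsThree.FrameCN Cfsg.Agent.TitsThree.SpIdent Cfsg.Agent.TitsThree.SpGen
open Cfsg.Agent.H62.SpCross

universe u

variable {K : Type u} [Field K]

/-- the natural module -/
abbrev V4 (K : Type u) := Fin 2 ⊕ Fin 2 → K

theorem h_eq (v w : V4 K) : (form 2 K).h v w =
    v (.inr 0) * w (.inl 0) - v (.inl 0) * w (.inr 0) + (v (.inr 1) * w (.inl 1) - v (.inl 1) * w (.inr 1)) := by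
  change Cfsg.sympForm 2 K v w = _
  rw [Cfsg.Agent.ClassicalGeometry.SympBasic.sympForm_eq_sum, Fin.sum_univ_two]

theorem pg_form {a b : Fin 2 × Bool} {g : V4 K ≃ₗ[K] V4 K} (hg : g ∈ PG (frame 2 K) a b) :
    ∃ s c : K, (a ≠ b → c = 0) ∧ ∀ v, g v = v + ((form 2 K).h v ((frame 2 K).b a) * s) • (frame 2 K).b b +
      (s * (form 2 K).h v ((frame 2 K).b b)) • (frame 2 K).b a + (c * (form 2 K).h v ((frame 2 K).b a)) • (frame 2 K).b a := by
  unfold PG at hg
  by_cases hab : a = b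
  · rw [if_pos hab] at hg
    obtain ⟨p, rfl⟩ := hg
    refine ⟨0, p.c, fun h => absurd hab h, fun v => ?_⟩
    have hw : p.w = 0 := p.ok
    change (form 2 K).sie _ _ _ _ _ v = _
    rw [HForm.sie_apply, hw, (form 2 K).zero_right]
    simp
  · rw [if_neg hab] at hg
    obtain ⟨t, rfl⟩ := hg
    by_cases h1 : a.1 ≠ b.1
    · refine ⟨(frame 2 K).sc b t, 0, fun _ => rfl, fun v => ?_⟩
      rw [Frame.X_eq (frame 2 K) h1, HForm.sie_apply, (form 2 K).smul_right]
      simp only [form_ε, inv_neg, inv_one, neg_mul, one_mul, neg_smul, sub_neg_eq_add, form_σ, zero_mul, zero_smul,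
        add_zero, smul_smul, form_h]
    · refine ⟨0, 0, fun _ => rfl, fun v => ?_⟩
      rw [Frame.X, dif_neg h1]
      simp


/-- the isometries which fix `e0` and `e1` modulo `e0` -/
def SUp (K : Type u) [Field K] : Subgroup (V4 K ≃ₗ[K] V4 K) where
  carrier := {g | (form 2 K).IsIso g ∧ g (Pi.single (.inr 0) 1) = Pi.single (.inr 0) 1 ∧
    ∃ a : K, g (Pi.single (.inr 1) 1) = Pi.single (.inr 1) 1 + a • Pi.single (.inr 0) 1}
  one_mem' := ⟨fun _ _ => rfl, rfl, 0, by rw [zero_smul, add_zero]; rfl⟩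
  mul_mem' := by
    rintro g k ⟨hg, g0, a, g1⟩ ⟨hk, k0, b, k1⟩
    refine ⟨HForm.IsIso.mul _ hg hk, ?_, a + b, ?_⟩
    · change g (k _) = _
      rw [k0, g0]
    · change g (k _) = _
      rw [k1, map_add, map_smul, g1, g0, add_smul, add_assoc]
  inv_mem' := by
    rintro g ⟨hg, g0, a, g1⟩
    have h0 : g⁻¹ (Pi.single (.inr 0) 1) = Pi.single (.inr 0) 1 := by
      conv_lhs => rw [← g0]
      exact g.symm_apply_apply _
    refine ⟨HForm.IsIso.inv _ hg, h0, -a, ?_⟩
    have h1 : g⁻¹ (g (Pi.single (.inr 1) 1)) = (Pi.single (.inr 1) 1 : V4 K) := g.symm_apply_apply _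
    rw [g1, map_add, map_smul, h0] at h1
    rw [neg_smul, ← sub_eq_add_neg, eq_sub_iff_add_eq]
    exact h1

/-- the isometries which fix `f0` and `f1` modulo `f0` -/
def SLo (K : Type u) [Field K] : Subgroup (V4 K ≃ₗ[K] V4 K) where
  carrier := {g | (form 2 K).IsIso g ∧ g (Pi.single (.inl 0) 1) = Pi.single (.inl 0) 1 ∧
    ∃ a : K, g (Pi.single (.inl 1) 1) = Pi.single (.inl 1) 1 + a • Pi.single (.inl 0) 1}
  one_mem' := ⟨fun _ _ => rfl, rfl, 0, by rw [zero_smul, add_zero]; rfl⟩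
  mul_mem' := by
    rintro g k ⟨hg, g0, a, g1⟩ ⟨hk, k0, b, k1⟩
    refine ⟨HForm.IsIso.mul _ hg hk, ?_, a + b, ?_⟩
    · change g (k _) = _
      rw [k0, g0]
    · change g (k _) = _
      rw [k1, map_add, map_smul, g1, g0, add_smul, add_assoc]
  inv_mem' := by
    rintro g ⟨hg, g0, a, g1⟩
    have h0 : g⁻¹ (Pi.single (.inl 0) 1) = Pi.single (.inl 0) 1 := by
      conv_lhs => rw [← g0]
      exact g.symm_apply_apply _
    refine ⟨HForm.IsIso.inv _ hg, h0, -a, ?_⟩
    have h1 : g⁻¹ (g (Pi.single (.inl 1) 1)) = (Pi.single (.inl 1) 1 : V4 K) := g.symm_apply_apply _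
    rw [g1, map_add, map_smul, h0] at h1
    rw [neg_smul, ← sub_eq_add_neg, eq_sub_iff_add_eq]
    exact h1

theorem ee0 (x : Fin 2 → ℤ) : Cfsg.Agent.Nodes.TypeC.ee x 0 = x 0 := by
  unfold Cfsg.Agent.Nodes.TypeC.ee
  rw [Fin.sum_univ_two]
  simp [bt_apply]

theorem ee1 (x : Fin 2 → ℤ) : Cfsg.Agent.Nodes.TypeC.ee x 1 = 2 * x 1 - x 0 := by
  unfold Cfsg.Agent.Nodes.TypeC.ee
  rw [Fin.sum_univ_two]
  simp [bt_apply]
  ring

/-- positive roots -/
theorem pos_cases {a b : Fin 2 × Bool} (hab : Ok a b) (h0 : 0 ≤ (wt a + wt b) 0)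
    (h1 : 0 ≤ (wt a + wt b) 0 + (wt a + wt b) 1) :
    a ≠ (0, false) ∧ b ≠ (0, false) ∧ (a = (1, false) → b = (0, true)) ∧ (b = (1, false) → a = (0, true)) := by
  rw [Pi.add_apply, wt_apply, wt_apply] at h0
  rw [Pi.add_apply, Pi.add_apply, wt_apply, wt_apply, wt_apply, wt_apply] at h1
  unfold Ok at hab
  revert hab h0 h1
  revert a b
  decide


theorem pg_le_up {a b : Fin 2 × Bool} (hab : Ok a b) (ha : a ≠ (0, false)) (hb : b ≠ (0, false))
    (h1 : a = (1, false) → b = (0, true)) (h2 : b = (1, false) → a = (0, true)) :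
    PG (frame 2 K) a b ≤ SUp K := by
  intro g hg
  have hiso : (form 2 K).IsIso g := (Cfsg.Agent.KFacts.Mult.SpTwo.amb 2 K).PG_le hg
  obtain ⟨s, c, hc, e⟩ := pg_form hg
  refine ⟨hiso, ?_, ?_⟩
  · rw [e, h_eq, h_eq]
    obtain ⟨i, x⟩ := a
    obtain ⟨j, y⟩ := b
    fin_cases i <;> fin_cases j <;> cases x <;> cases y <;>
      simp [SpIdent.e, SpIdent.f] at ha hb h1 h2 ⊢
  · rw [e, h_eq, h_eq]
    obtain ⟨i, x⟩ := a
    obtain ⟨j, y⟩ := b
    fin_cases i <;> fin_cases j <;> cases x <;> cases y <;>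
      simp [SpIdent.e, SpIdent.f] at ha hb h1 h2 hc ⊢
    all_goals first
      | fail
      | fail
      | (refine ⟨s, ?_⟩; simp [hc]; done)

theorem pg_le_lo {a b : Fin 2 × Bool} (hab : Ok a b) (ha : a ≠ (0, true)) (hb : b ≠ (0, true))
    (h1 : a = (1, true) → b = (0, false)) (h2 : b = (1, true) → a = (0, false)) :
    PG (frame 2 K) a b ≤ SLo K := by
  intro g hg
  have hiso : (form 2 K).IsIso g := (Cfsg.Agent.KFacts.Mult.SpTwo.amb 2 K).PG_le hg
  obtain ⟨s, c, hc, e⟩ := pg_form hg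
  refine ⟨hiso, ?_, ?_⟩
  · rw [e, h_eq, h_eq]
    obtain ⟨i, x⟩ := a
    obtain ⟨j, y⟩ := b
    fin_cases i <;> fin_cases j <;> cases x <;> cases y <;>
      simp [SpIdent.e, SpIdent.f] at ha hb h1 h2 ⊢
  · rw [e, h_eq, h_eq]
    obtain ⟨i, x⟩ := a
    obtain ⟨j, y⟩ := b
    fin_cases i <;> fin_cases j <;> cases x <;> cases y <;>
      simp [SpIdent.e, SpIdent.f] at ha hb h1 h2 hc ⊢
    all_goals first
      | fail
      | fail
      | (refine ⟨-s, ?_⟩; simp; done)
      | fail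
      | (refine ⟨-s, ?_⟩; simp [hc]; done)


section Roots

variable {W : Type*} [Group W] {cs : CoxeterSystem (CoxeterMatrix.B 2) W}

/-- positive root groups -/
theorem rg_le_up {x : Fin 2 → ℤ} (hx : IsRoot cs (isCartan 2) x) (h0 : 0 ≤ x) : rg (frame 2 K) x ≤ SUp K := by
  obtain ⟨a, b, hab, e⟩ := exists_of_isRoot cs hx
  rw [rg_eq (frame 2 K) hab e]
  have e0 := congrFun e 0
  have e1 := congrFun e 1
  rw [ee0] at e0
  rw [ee1] at e1
  have h2 := h0 0
  have h3 := h0 1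
  simp only [Pi.zero_apply] at h2 h3
  obtain ⟨h4, h5, h6, h7⟩ := pos_cases hab (by omega) (by omega)
  exact pg_le_up hab h4 h5 h6 h7

/-- negative root groups -/
theorem rg_le_lo {x : Fin 2 → ℤ} (hx : IsRoot cs (isCartan 2) x) (h0 : x ≤ 0) : rg (frame 2 K) x ≤ SLo K := by
  obtain ⟨a, b, hab, e⟩ := exists_of_isRoot cs hx
  rw [rg_eq (frame 2 K) hab e]
  have e0 := congrFun e 0
  have e1 := congrFun e 1
  rw [ee0] at e0
  rw [ee1] at e1
  have h2 := h0 0
  have h3 := h0 1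
  simp only [Pi.zero_apply] at h2 h3
  have hw : wt (ng a) + wt (ng b) = -(wt a + wt b) := by rw [wt_ng, wt_ng, neg_add]
  obtain ⟨h4, h5, h6, h7⟩ := pos_cases hab.ng (by rw [hw, Pi.neg_apply]; omega)
    (by rw [hw, Pi.neg_apply, Pi.neg_apply]; omega)
  refine pg_le_lo hab ?_ ?_ ?_ ?_
  · rintro rfl; exact h4 rfl
  · rintro rfl; exact h5 rfl
  · rintro rfl
    have h8 := h6 rfl
    rw [← ng_ng b, h8]
    rfl
  · rintro rfl
    have h8 := h7 rfl
    rw [← ng_ng a, h8]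
    rfl

theorem U_le {u : isos (form 2 K)} (hu : u ∈ RGD.Sup (Cfsg.Agent.Nodes.WittModel.X (model 2 K))
    (RGD.Pos cs (isCartan 2))) : u.1 ∈ SUp K := by
  have h1 : RGD.Sup (Cfsg.Agent.Nodes.WittModel.X (model 2 K)) (RGD.Pos cs (isCartan 2)) ≤
      (SUp K).subgroupOf (isos (form 2 K)) := by
    refine RGD.Sup_le fun x hx => ?_
    rw [X_eq]
    intro g hg
    rw [Subgroup.mem_subgroupOf] at hg ⊢
    exact rg_le_up hx.1 hx.2 hg
  exact Subgroup.mem_subgroupOf.1 (h1 hu)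

theorem UN_le {u : isos (form 2 K)} (hu : u ∈ UN cs (isCartan 2) (Cfsg.Agent.Nodes.WittModel.X (model 2 K))) :
    u.1 ∈ SLo K := by
  have h1 : UN cs (isCartan 2) (Cfsg.Agent.Nodes.WittModel.X (model 2 K)) ≤
      (SLo K).subgroupOf (isos (form 2 K)) := by
    unfold UN
    refine RGD.Sup_le fun x hx => ?_
    rw [X_eq]
    intro g hg
    rw [Subgroup.mem_subgroupOf] at hg ⊢
    exact rg_le_lo hx.1 hx.2 hg
  exact Subgroup.mem_subgroupOf.1 (h1 hu)

end Roots

/-! ### the coordinate functions -/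

/-- the first coordinate function -/
def F1 (g : V4 K ≃ₗ[K] V4 K) : K := g (Pi.single (.inr 0) 1) (.inr 0)

/-- the second coordinate function -/
def F2 (g : V4 K ≃ₗ[K] V4 K) : K :=
  g (Pi.single (.inr 0) 1) (.inr 0) * g (Pi.single (.inr 1) 1) (.inr 1) -
    g (Pi.single (.inr 0) 1) (.inr 1) * g (Pi.single (.inr 1) 1) (.inr 0)

theorem F1_mul_up {u : V4 K ≃ₗ[K] V4 K} (hu : u ∈ SUp K) (g : V4 K ≃ₗ[K] V4 K) : F1 (g * u) = F1 g := by
  obtain ⟨-, h0, a, h1⟩ := hu
  unfold F1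
  change g (u _) _ = _
  rw [h0]

theorem F2_mul_up {u : V4 K ≃ₗ[K] V4 K} (hu : u ∈ SUp K) (g : V4 K ≃ₗ[K] V4 K) : F2 (g * u) = F2 g := by
  obtain ⟨-, h0, a, h1⟩ := hu
  unfold F2
  change g (u _) _ * g (u _) _ - g (u _) _ * g (u _) _ = _
  rw [h0, h1, map_add, map_smul]
  simp only [Pi.add_apply, Pi.smul_apply, smul_eq_mul]
  ring

theorem coord_inr (v : V4 K) (i : Fin 2) : v (.inr i) = (form 2 K).h v (Pi.single (.inl i) 1) := by
  rw [h_eq]
  fin_cases i <;> simp

theorem lo_coord {u : V4 K ≃ₗ[K] V4 K} (hu : u ∈ SLo K) (v : V4 K) : u v (.inr 0) = v (.inr 0) ∧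
    ∃ a : K, ∀ v : V4 K, u v (.inr 1) = v (.inr 1) + a * v (.inr 0) := by
  obtain ⟨hi, h0, a, h1⟩ := (SLo K).inv_mem hu
  have key : ∀ v w : V4 K, (form 2 K).h (u v) w = (form 2 K).h v (u⁻¹ w) := by
    intro v w
    rw [← hi (u v) w]
    congr 1
    exact u.symm_apply_apply v
  refine ⟨?_, a, fun v => ?_⟩
  · rw [coord_inr (u v) 0, key, h0, ← coord_inr v 0]
  · rw [coord_inr (u v) 1, key, h1, (form 2 K).add_right, (form 2 K).smul_right, ← coord_inr v 0, ← coord_inr v 1]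
    rfl

theorem F1_lo_mul {u : V4 K ≃ₗ[K] V4 K} (hu : u ∈ SLo K) (g : V4 K ≃ₗ[K] V4 K) : F1 (u * g) = F1 g :=
  (lo_coord hu _).1

theorem F2_lo_mul {u : V4 K ≃ₗ[K] V4 K} (hu : u ∈ SLo K) (g : V4 K ≃ₗ[K] V4 K) : F2 (u * g) = F2 g := by
  unfold F2
  change u (g _) _ * u (g _) _ - u (g _) _ * u (g _) _ = _
  obtain ⟨a, ha⟩ := (lo_coord hu 0).2
  rw [(lo_coord hu _).1, (lo_coord hu _).1, ha, ha]
  ring

end Cfsg.Agent.H905.Sp4
end
end

-- part: H905/MdQ
section
set_option linter.all false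
open scoped Cfsg.Agent.FastGrp

/-!
# Matrix coefficients of simple modules in defining characteristic (helper905)

* `exists_opp_dec` : `G = U⁻ N U` if `w₀ = -1`;
* `coeff_eq` : a function which is invariant under `U⁻` on the left and `U` on the right and agrees with
  `g ↦ φ (g c)` on `N` agrees with it everywhere;
* `finrank_le_of_kernel` : the dimension is at most the rank of the kernel `φ (g h c)`.
-/

set_option autoImplicit false
set_option linter.unusedSectionVars false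
set_option linter.style.haveILetI false

namespace Cfsg.Agent.H905.Md

open CoxeterSystem Cfsg.Agent.ChevalleyStructure.CoxeterGeom Cfsg.Agent.Tits.Roots Cfsg.Agent.Tits.Core
  Cfsg.Agent.Tits.Exchange Cfsg.Agent.Nodes.Reps Cfsg.Agent.Nodes.BNOf Cfsg.Agent.Nodes.StabComb
  Cfsg.Agent.Nodes.Bruhat Cfsg.Agent.Nodes.OppDec Cfsg.Agent.Nodes.LeviDec Cfsg.Agent.KFacts.RgdOpp
  Cfsg.Agent.Omega.CR Cfsg.Agent.Omega.FOne.Lift.Sd Cfsg.Agent.H911

variable {I W Y : Type*} [Fintype I] [DecidableEq I] [Group W] [Group Y] {M : CoxeterMatrix I}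
  {cs : CoxeterSystem M W} {A : I → I → ℤ} {h : IsCartan M A} {p : ℕ} {T : Subgroup Y} {n : I → Y}
  {X : (I → ℤ) → Subgroup Y} {k V : Type*} [Field k] [AddCommGroup V] [Module k V]

/-- `G = U⁻ N U` -/
theorem exists_opp_dec (R : RGD cs h p T n X) [Finite W] {v0 : W} (hv : ∀ x, rep cs h v0 x = -x) {g : Y}
    (hg : g ∈ GG cs h T X) : ∃ a ∈ UN cs h X, ∃ (w : W) (y : Y), Rp cs R.nsys w y ∧
      ∃ u ∈ RGD.Sup X (RGD.Pos cs h), g = a * y * u := by
  obtain ⟨n0, hn0⟩ := exists_rp cs R.nsys v0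
  have h1 : n0⁻¹ * g ∈ GG cs h T X := mul_mem (inv_mem (NN_le_GG R ⟨v0, hn0⟩)) hg
  obtain ⟨w, b₁, hb₁, y, hy, b₂, hb₂, e⟩ := (mem_GG R).1 h1
  obtain ⟨t₁, ht₁, u₁, hu₁, rfl⟩ := RGD.mem_B R |>.1 hb₁
  obtain ⟨t₂, ht₂, u₂, hu₂, rfl⟩ := RGD.mem_B R |>.1 hb₂
  have hn1 : Rp cs R.nsys v0 (n0 * t₁) := hn0.mul_mem_right ht₁
  refine ⟨(n0 * t₁) * u₁ * (n0 * t₁)⁻¹, ?_, v0 * w, (n0 * t₁) * (y * t₂), hn1.mul (hy.mul_mem_right ht₂), u₂, hu₂, ?_⟩
  · rw [← conj_UN R hv hn1]
    exact conj_mem_cj.2 hu₁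
  · have h2 : g = n0 * (t₁ * u₁ * y * (t₂ * u₂)) := by rw [← e]; group
    rw [h2]
    group

/-- the comparison of two functions on the group -/
theorem coeff_eq (R : RGD cs h p T n X) [Finite W] {v0 : W} (hv : ∀ x, rep cs h v0 x = -x)
    {ρ : Y →* Module.End k V} {φ : Module.Dual k V} (hφ : φ ∈ fx (dualRep ρ) (UN cs h X)) {c : V}
    (hc : c ∈ D cs h X ρ) {F : Y → k} (hFl : ∀ a ∈ UN cs h X, ∀ g, F (a * g) = F g)
    (hFr : ∀ u ∈ RGD.Sup X (RGD.Pos cs h), ∀ g, F (g * u) = F g)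
    (hF : ∀ w y, Rp cs R.nsys w y → φ (ρ y c) = F y) {g : Y} (hg : g ∈ GG cs h T X) : φ (ρ g c) = F g := by
  obtain ⟨a, ha, w, y, hy, u, hu, rfl⟩ := exists_opp_dec R hv hg
  rw [hFr u hu, hFl a ha, mul_assoc, rho_mul, (mem_fx_dual ρ).1 hφ a ha, rho_mul, hc u hu]
  exact hF w y hy

/-- the elements killed by all the functionals `φ g` -/
theorem eq_zero_of_coeff {ρ : Y →* Module.End k V} {G : Subgroup Y}
    (hirr : ∀ L : Submodule k V, Ivt ρ G L → L = ⊥ ∨ L = ⊤) {φ : Module.Dual k V} (hφ0 : φ ≠ 0) {v : V}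
    (h0 : ∀ g ∈ G, φ (ρ g v) = 0) : v = 0 := by
  let L : Submodule k V :=
    { carrier := {v | ∀ g ∈ G, φ (ρ g v) = 0}
      zero_mem' := fun g _ => by rw [map_zero, map_zero]
      add_mem' := fun {a b} ha hb g hg => by rw [map_add, map_add, ha g hg, hb g hg, add_zero]
      smul_mem' := fun r a ha g hg => by rw [map_smul, map_smul, ha g hg, smul_zero] }
  rcases hirr L (fun x hx a ha g hg => by
    rw [← rho_mul]; exact ha _ (mul_mem hg hx)) with h1 | h1
  · have h2 : v ∈ L := h0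
    rw [h1] at h2
    exact h2
  · exfalso
    apply hφ0
    ext w
    have h2 : w ∈ L := by rw [h1]; trivial
    have h3 := h2 1 (one_mem _)
    rwa [map_one] at h3

/-- `V` is spanned by the translates of a nonzero vector -/
theorem span_translates {ρ : Y →* Module.End k V} {G : Subgroup Y}
    (hirr : ∀ L : Submodule k V, Ivt ρ G L → L = ⊥ ∨ L = ⊤) {c : V} (hc0 : c ≠ 0) :
    Submodule.span k (Set.range fun g : G => ρ g.1 c) = ⊤ := by
  refine (hirr _ ?_).resolve_left ?_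
  · intro g hg v hv
    induction hv using Submodule.span_induction with
    | mem x hx =>
      obtain ⟨y, rfl⟩ := hx
      refine Submodule.subset_span ⟨⟨g, hg⟩ * y, ?_⟩
      change ρ (g * y.1) c = ρ g (ρ y.1 c)
      rw [rho_mul]
    | zero => rw [map_zero]; exact zero_mem _
    | add x y _ _ hx hy => rw [map_add]; exact add_mem hx hy
    | smul r x _ hx => rw [map_smul]; exact Submodule.smul_mem _ _ hx
  · intro h1
    apply hc0
    have h2 : ρ (1 : G).1 c ∈ Submodule.span k (Set.range fun g : G => ρ g.1 c) := Submodule.subset_span ⟨1, rfl⟩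
    rw [h1, Submodule.mem_bot] at h2
    rw [← h2]
    change c = ρ 1 c
    rw [map_one]
    rfl

/-- the dimension is at most the rank of the kernel -/
theorem finrank_le_of_kernel [FiniteDimensional k V] {ρ : Y →* Module.End k V} {G : Subgroup Y}
    (hirr : ∀ L : Submodule k V, Ivt ρ G L → L = ⊥ ∨ L = ⊤) {c : V} (hc0 : c ≠ 0) {φ : Module.Dual k V} (hφ0 : φ ≠ 0)
    {α : Type*} [Fintype α] (P Q : Y → α → k) (hK : ∀ g ∈ G, ∀ y ∈ G, φ (ρ (g * y) c) = ∑ a, P g a * Q y a) :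
    Module.finrank k V ≤ Fintype.card α := by
  classical
  let L : (G →₀ k) →ₗ[k] V := Finsupp.linearCombination k fun y : G => ρ y.1 c
  let N : (G →₀ k) →ₗ[k] (α → k) := Finsupp.linearCombination k fun y : G => Q y.1
  have hL : LinearMap.range L = ⊤ := by
    rw [Finsupp.range_linearCombination]
    exact span_translates hirr hc0
  have hker : LinearMap.ker N ≤ LinearMap.ker L := by
    intro f hf
    rw [LinearMap.mem_ker] at hf ⊢
    refine eq_zero_of_coeff hirr hφ0 fun g hg => ?_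
    have h1 : L f = f.sum fun y r => r • ρ y.1 c := Finsupp.linearCombination_apply _ _
    have h2 : N f = f.sum fun y r => r • Q y.1 := Finsupp.linearCombination_apply _ _
    rw [h1, Finsupp.sum, map_sum, map_sum]
    have h3 : ∀ y ∈ f.support, φ (ρ g (f y • ρ y.1 c)) = ∑ a, P g a * (f y * Q y.1 a) := by
      intro y _
      rw [map_smul, map_smul, ← rho_mul, hK g hg y.1 y.2, smul_eq_mul, Finset.mul_sum]
      exact Finset.sum_congr rfl fun a _ => by ring
    rw [Finset.sum_congr rfl h3, Finset.sum_comm]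
    refine Finset.sum_eq_zero fun a _ => ?_
    rw [← Finset.mul_sum]
    have h4 := congrFun h2 a
    rw [hf, Finsupp.sum, Finset.sum_apply] at h4
    have h5 : ∑ y ∈ f.support, f y * Q y.1 a = 0 := h4.symm
    rw [h5, mul_zero]
  obtain ⟨S, hS⟩ : ∃ S : LinearMap.range N →ₗ[k] V, ∀ f, S ⟨N f, LinearMap.mem_range_self N f⟩ = L f := by
    obtain ⟨s, hs⟩ := N.rangeRestrict.exists_rightInverse_of_surjective N.range_rangeRestrict
    refine ⟨L.comp s, fun f => ?_⟩
    have h1 : N (s ⟨N f, LinearMap.mem_range_self N f⟩) = N f :=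
      congrArg Subtype.val (LinearMap.congr_fun hs ⟨N f, LinearMap.mem_range_self N f⟩)
    have h2 : L (s ⟨N f, LinearMap.mem_range_self N f⟩ - f) = 0 := by
      apply hker
      rw [LinearMap.mem_ker, map_sub, h1, sub_self]
    rw [map_sub, sub_eq_zero] at h2
    exact h2
  have h1 : LinearMap.range S = ⊤ := by
    rw [eq_top_iff, ← hL]
    rintro _ ⟨f, rfl⟩
    exact ⟨_, hS f⟩
  calc Module.finrank k V = Module.finrank k (LinearMap.range S) := by rw [h1, finrank_top]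
    _ ≤ Module.finrank k (LinearMap.range N) := LinearMap.finrank_range_le S
    _ ≤ Module.finrank k (α → k) := Submodule.finrank_le _
    _ = Fintype.card α := Module.finrank_fintype_fun_eq_card k

end Cfsg.Agent.H905.Md
end

-- part: H905/Sp4Main
section
prune_inst 0x10000400000000000000000000000200000009000000000400002000200200000000000002000020000000000000008110000100200000000000000000000000000000000000000000000000000000000000000000000000000000000000000000000000
set_option linter.all false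
open scoped Cfsg.Agent.FastGrp

-- part: H905/Sp4Mono
section
/-!
# The coordinate functions of `Sp_4(K)` on the monomial elements (helper905)

* `exists_pi` : the representatives of `w ∈ W` are monomial with the permutation given by `w`;
* `of_F1` : `F1 k ≠ 0` implies that `w` preserves the `0`-coordinate;
* `of_F2` : `F2 k ≠ 0` implies that `w` preserves the `1`-coordinate.
-/

set_option autoImplicit false
set_option linter.unusedSectionVars false
set_option linter.style.haveILetI false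

namespace Cfsg.Agent.H905.Sp4

open CoxeterSystem Cfsg.Agent.ChevalleyStructure.CoxeterGeom Cfsg.Agent.Tits.Roots Cfsg.Agent.Nodes.TypeC
open Cfsg.Agent.Nodes.Comb Cfsg.Agent.Nodes.Reps Cfsg.Agent.Nodes.WittRoot Cfsg.Agent.Nodes.BNOf
open Cfsg.Agent.Nodes.WittRGD Cfsg.Agent.Nodes.RGDLib Cfsg.Agent.Nodes.OppDec Cfsg.Agent.Nodes.WittAll
open Cfsg.Agent.TitsThree Cfsg.Agent.TitsThree.Siegel Cfsg.Agent.TitsThree.WittFrame
  Cfsg.Agent.TitsThree.FrameCN Cfsg.Agent.TitsThree.SpIdent Cfsg.Agent.TitsThree.SpGen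
open Cfsg.Agent.H62.SpCross

universe u

variable {K : Type u} [Field K] {W : Type*} [Group W] {cs : CoxeterSystem (CoxeterMatrix.B 2) W} {p : ℕ}
  {hA : AmbT (frame 2 K) p (model 2 K).I} {p0 : (frame 2 K).Adm} (hp0 : p0.c ≠ 0)
  {hN : NSys (CoxeterMatrix.B 2) (Cfsg.Agent.Nodes.WittModel.T (model 2 K))
    (fun i => (model 2 K).φ ⟨_root_.Cfsg.Agent.Nodes.WittRGD.nn (frame 2 K) p0 i, Cfsg.Agent.Nodes.WittAll.nn_mem hA p0 i⟩)}

include hp0 in
theorem exists_pi (w : W) : ∃ π : Fin 2 × Bool → Fin 2 × Bool, Md.Act cs w π ∧ (∀ x, π (ng x) = ng (π x)) ∧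
    Function.Injective π ∧ ∀ k : isos (_root_.Cfsg.Agent.TitsThree.SpIdent.form 2 K), Rp cs hN w k → Mono (frame 2 K) k.1 π := by
  have hmain := cs.simple_induction_left (p := fun w => ∃ π : Fin 2 × Bool → Fin 2 × Bool, Md.Act cs w π ∧
    (∀ x, π (ng x) = ng (π x)) ∧ Function.Injective π ∧
    ∀ k : isos (_root_.Cfsg.Agent.TitsThree.SpIdent.form 2 K), Rp cs hN w k → Mono (frame 2 K) k.1 π) w
  refine hmain ?_ fun w i ih => ?_
  · refine ⟨id, Md.Act.one, fun _ => rfl, Function.injective_id, fun k hk => ?_⟩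
    exact mem_T.1 hk.mem_of_one
  · obtain ⟨π, h1, h2, h3, h4⟩ := ih
    refine ⟨fun x => sg i (π x), (Md.act_simple i).mul h1, fun x => ?_, fun x y hxy => ?_, fun k hk => ?_⟩
    · change sg i (π (ng x)) = _
      rw [h2, sg_ng]
    · apply h3
      have h5 : sg i (sg i (π x)) = sg i (sg i (π y)) := congrArg (sg i) hxy
      rwa [sg_sg, sg_sg] at h5
    · have h5 := (rp_simple cs hN i).inv.mul hk
      rw [inv_mul_cancel_left] at h5
      have h6 := (mono_nn (Fr := frame 2 K) hp0 i).mul (h4 _ h5)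
      have h7 : k.1 = _root_.Cfsg.Agent.Nodes.WittRGD.nn (frame 2 K) p0 i * ((((model 2 K).φ ⟨_root_.Cfsg.Agent.Nodes.WittRGD.nn (frame 2 K) p0 i,
          Cfsg.Agent.Nodes.WittAll.nn_mem hA p0 i⟩)⁻¹ * k : isos (_root_.Cfsg.Agent.TitsThree.SpIdent.form 2 K)) : V4 K ≃ₗ[K] V4 K) := by
        change k.1 = _root_.Cfsg.Agent.Nodes.WittRGD.nn (frame 2 K) p0 i * ((_root_.Cfsg.Agent.Nodes.WittRGD.nn (frame 2 K) p0 i)⁻¹ * k.1)
        rw [mul_inv_cancel_left]
      rw [h7]
      exact h6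

theorem b_coord (x : Fin 2 × Bool) (i : Fin 2) : (frame 2 K).b x (.inr i) = if x = (i, true) then 1 else 0 := by
  obtain ⟨j, s⟩ := x
  cases s
  · rw [if_neg (by simp)]
    change (Pi.single (.inl j) 1 : V4 K) (.inr i) = 0
    simp
  · change (Pi.single (.inr j) 1 : V4 K) (.inr i) = _
    by_cases h : j = i
    · subst h; simp
    · rw [if_neg (by simpa using h), Pi.single_eq_of_ne (by simpa using fun e => h e.symm)]

theorem rep_coord (w : W) (x : Fin 2 → ℤ) (i : Fin 2) : rep cs (isCartan 2) w x i =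
    x 0 * rep cs (isCartan 2) w (sr 0) i + x 1 * rep cs (isCartan 2) w (sr 1) i := by
  have h1 : x = x 0 • sr 0 + x 1 • sr 1 := by
    funext j
    (revert j; simp only [sr, _root_.Fin.forall_fin_succ, Fin.isValue, _root_.zsmul_eq_mul, _root_.Pi.add_apply, _root_.Pi.mul_apply, _root_.Pi.intCast_apply, _root_.Int.cast_eq, _root_.Pi.single_eq_same, _root_.mul_one, _root_.ne_eq, _root_.zero_ne_one, _root_.not_false_eq_true, _root_.Pi.single_eq_of_ne, _root_.MulZeroClass.mul_zero, _root_.add_zero, _root_.Fin.succ_ne_zero, _root_.zero_add, _root_.Fin.succ_zero_eq_one, _root_.IsEmpty.forall_iff, _root_.and_self])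
  conv_lhs => rw [h1]
  rw [map_add, map_smul, map_smul]
  rfl

theorem act_sr {w : W} {π : Fin 2 × Bool → Fin 2 × Bool} (h : Md.Act cs w π) (i : Fin 2) :
    Cfsg.Agent.Nodes.TypeC.ee (rep cs (isCartan 2) w (sr i)) = wt (π (i, true)) + wt (π (nx i)) :=
  h _ _ _ (ee_sr i)

include hp0 in
/-- the first coordinate function -/
theorem of_F1 {w : W} {k : isos (_root_.Cfsg.Agent.TitsThree.SpIdent.form 2 K)} (hk : Rp cs hN w k) (h : F1 k.1 ≠ 0) (x : Fin 2 → ℤ) :
    rep cs (isCartan 2) w x 0 = x 0 := by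
  obtain ⟨π, h1, h2, h3, h4⟩ := exists_pi (hA := hA) hp0 (hN := hN) w
  obtain ⟨l, hl, e⟩ := h4 k hk (0, true)
  have h5 : π (0, true) = (0, true) := by
    by_contra hne
    apply h
    unfold F1
    change k.1 ((frame 2 K).b (0, true)) (.inr 0) = 0
    rw [e, Pi.smul_apply, b_coord, if_neg hne, smul_zero]
  have h6 : π (0, false) = (0, false) := by
    have := h2 (0, true)
    rw [h5] at this
    exact this
  have h7 : ∀ s, (π (1, s)).1 = 1 := by
    intro s
    by_contra hne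
    have h8 : (π (1, s)).1 = 0 := by omega
    rcases hπ : π (1, s) with ⟨j, t⟩
    rw [hπ] at h8
    change j = 0 at h8
    subst h8
    cases t
    · exact absurd (h3 (hπ.trans h6.symm)) (by simp)
    · exact absurd (h3 (hπ.trans h5.symm)) (by simp)
  have h8 : ∀ s, wt (π (1, s)) 0 = 0 := by
    intro s
    rw [wt_apply, if_neg]
    rw [h7]
    decide
  rw [rep_coord, ← ee0 (rep cs (isCartan 2) w (sr 0)), ← ee0 (rep cs (isCartan 2) w (sr 1)), act_sr h1, act_sr h1, h5]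
  have h9 : (nx (0 : Fin 2)) = (1, false) := rfl
  have h10 : (nx (1 : Fin 2)) = (1, true) := rfl
  rw [h9, h10, Pi.add_apply, Pi.add_apply, h8, h8]
  simp [wt_apply]

include hp0 in
/-- the second coordinate function -/
theorem of_F2 {w : W} {k : isos (_root_.Cfsg.Agent.TitsThree.SpIdent.form 2 K)} (hk : Rp cs hN w k) (h : F2 k.1 ≠ 0) (x : Fin 2 → ℤ) :
    rep cs (isCartan 2) w x 1 = x 1 := by
  obtain ⟨π, h1, h2, h3, h4⟩ := exists_pi (hA := hA) hp0 (hN := hN) w
  obtain ⟨l, hl, e⟩ := h4 k hk (0, true)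
  obtain ⟨l', hl', e'⟩ := h4 k hk (1, true)
  have h5 : (π (0, true) = (0, true) ∧ π (1, true) = (1, true)) ∨
      (π (0, true) = (1, true) ∧ π (1, true) = (0, true)) := by
    by_contra hne
    apply h
    unfold F2
    change k.1 ((frame 2 K).b (0, true)) (.inr 0) * k.1 ((frame 2 K).b (1, true)) (.inr 1) -
      k.1 ((frame 2 K).b (0, true)) (.inr 1) * k.1 ((frame 2 K).b (1, true)) (.inr 0) = 0
    rw [e, e']
    simp only [Pi.smul_apply, b_coord]
    by_cases c1 : π (0, true) = (0, true)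
    · have c2 : ¬ π (1, true) = (1, true) := fun c => hne (Or.inl ⟨c1, c⟩)
      have c3 : ¬ π (0, true) = (1, true) := by rw [c1]; simp
      rw [if_neg c2, if_neg c3]
      simp
    · rw [if_neg c1]
      by_cases c2 : π (0, true) = (1, true)
      · have c3 : ¬ π (1, true) = (0, true) := fun c => hne (Or.inr ⟨c2, c⟩)
        rw [if_neg c3]
        simp
      · rw [if_neg c2]
        simp
  have key : ∀ y : Fin 2 → ℤ, 2 * y 1 = Cfsg.Agent.Nodes.TypeC.ee y 0 + Cfsg.Agent.Nodes.TypeC.ee y 1 := by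
    intro y
    rw [ee0, ee1]; ring
  have h9 : (nx (0 : Fin 2)) = ng (1, true) := rfl
  have h10 : (nx (1 : Fin 2)) = (1, true) := rfl
  have h11 := key (rep cs (isCartan 2) w (sr 0))
  have h12 := key (rep cs (isCartan 2) w (sr 1))
  rw [act_sr h1, h9, h2, wt_ng] at h11
  rw [act_sr h1, h10] at h12
  rw [rep_coord]
  rcases h5 with ⟨c1, c2⟩ | ⟨c1, c2⟩
  · rw [c1, c2] at h11
    rw [c2] at h12
    simp only [wt_apply, _root_.Fin.isValue, _root_.Pi.add_apply, ↓ _root_.reduceIte, _root_.Pi.neg_apply, _root_.zero_ne_one, _root_.neg_zero, _root_.add_zero, _root_.one_ne_zero, _root_.Int.reduceNeg, _root_.zero_add, _root_.add_neg_cancel, _root_.mul_eq_zero, _root_.OfNat.ofNat_ne_zero, _root_.false_or, _root_.Int.reduceAdd, _root_.ne_eq, _root_.not_false_eq_true, _root_.mul_eq_left₀] at h11 h12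
    rw [h11]
    have h13 : rep cs (isCartan 2) w (sr 1) 1 = 1 := by omega
    rw [h13]
    ring
  · rw [c1, c2] at h11
    rw [c2] at h12
    simp only [wt_apply, _root_.Fin.isValue, _root_.Pi.add_apply, _root_.zero_ne_one, ↓ _root_.reduceIte, _root_.Pi.neg_apply, _root_.Int.reduceNeg, _root_.zero_add, _root_.one_ne_zero, _root_.neg_zero, _root_.add_zero, _root_.neg_add_cancel, _root_.mul_eq_zero, _root_.OfNat.ofNat_ne_zero, _root_.false_or, _root_.Int.reduceAdd, _root_.ne_eq, _root_.not_false_eq_true, _root_.mul_eq_left₀] at h11 h12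
    rw [h11]
    have h13 : rep cs (isCartan 2) w (sr 1) 1 = 1 := by omega
    rw [h13]
    ring

end Cfsg.Agent.H905.Sp4
end

-- part: H905/Sp4Main
section
/-!
# The matrix coefficient of the simple modules of `Sp_4(K)` in defining characteristic (helper905)

* `exists_exp` : a character of `Kˣ` is a power of an embedding;
* **`master`** : `φ (g c) = φ(c) j(F1 g)^c₁ j(F2 g)^c₂`.
-/

set_option autoImplicit false
set_option linter.unusedSectionVars false
set_option linter.style.haveILetI false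

namespace Cfsg.Agent.H905.Sp4

open CoxeterSystem Cfsg.Agent.ChevalleyStructure.CoxeterGeom Cfsg.Agent.Tits.Roots Cfsg.Agent.Nodes.TypeC
open Cfsg.Agent.Nodes.Comb Cfsg.Agent.Nodes.Reps Cfsg.Agent.Nodes.WittRoot Cfsg.Agent.Nodes.BNOf
open Cfsg.Agent.Nodes.WittRGD Cfsg.Agent.Nodes.RGDLib Cfsg.Agent.Nodes.OppDec Cfsg.Agent.Nodes.WittAll
open Cfsg.Agent.Nodes.Bruhat Cfsg.Agent.Omega.CR Cfsg.Agent.Omega.FOne.Lift.Sd Cfsg.Agent.Nodes.StabComb
open Cfsg.Agent.Tits.Core Cfsg.Agent.Tits.Exchange Cfsg.Agent.H905.Md Cfsg.Agent.KFacts.RgdOpp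
open Cfsg.Agent.TitsThree Cfsg.Agent.TitsThree.Siegel Cfsg.Agent.TitsThree.WittFrame
  Cfsg.Agent.TitsThree.FrameCN Cfsg.Agent.TitsThree.SpIdent Cfsg.Agent.TitsThree.SpGen
open Cfsg.Agent.H62.SpCross Cfsg.Agent.H62.FrameSL
open scoped MatrixGroups

universe u

/-! ### characters of `Kˣ` -/

/-- the characters of `Kˣ` are the powers of an embedding -/
theorem exists_exp {K k : Type*} [Field K] [Fintype K] [Field k] (j : K →+* k) (a : Kˣ →* kˣ) :
    ∃ e, e < Fintype.card K - 1 ∧ ∀ s : Kˣ, (a s : k) = j s ^ e := by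
  classical
  obtain ⟨ζ, hζ⟩ := IsCyclic.exists_generator (α := Kˣ)
  have hord : orderOf ζ = Fintype.card K - 1 := by
    rw [orderOf_eq_card_of_forall_mem_zpowers hζ, Nat.card_eq_fintype_card, Fintype.card_units]
  have hpos : 0 < Fintype.card K - 1 := by
    rw [← hord]; exact orderOf_pos ζ
  have hprim : IsPrimitiveRoot (j (ζ : K)) (Fintype.card K - 1) := by
    rw [← hord, ← orderOf_units]
    exact (IsPrimitiveRoot.orderOf (ζ : K)).map_of_injective j.injective
  have h1 : (a ζ : k) ^ (Fintype.card K - 1) = 1 := by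
    rw [← hord, ← Units.val_pow_eq_pow_val, ← map_pow, pow_orderOf_eq_one, map_one, Units.val_one]
  have : NeZero (Fintype.card K - 1) := ⟨hpos.ne'⟩
  obtain ⟨e, he, h2⟩ := hprim.eq_pow_of_pow_eq_one h1
  refine ⟨e, he, fun s => ?_⟩
  obtain ⟨m, hm⟩ := (mem_powers_iff_mem_zpowers.2 (hζ s) : s ∈ Submonoid.powers ζ)
  have hm' : ζ ^ m = s := hm
  rw [← hm', map_pow, Units.val_pow_eq_pow_val, Units.val_pow_eq_pow_val, map_pow, ← h2, ← pow_mul, ← pow_mul, mul_comm]

/-- the same with an exponent in `[1, q - 1]` -/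
theorem exists_exp' {K k : Type*} [Field K] [Fintype K] [Field k] (j : K →+* k) (a : Kˣ →* kˣ) :
    ∃ e, 1 ≤ e ∧ e ≤ Fintype.card K - 1 ∧ ∀ s : Kˣ, (a s : k) = j s ^ e := by
  obtain ⟨e, h1, h2⟩ := exists_exp j a
  rcases Nat.eq_zero_or_pos e with rfl | h3
  · refine ⟨Fintype.card K - 1, by omega, le_rfl, fun s => ?_⟩
    rw [h2, pow_zero, ← map_pow, FiniteField.pow_card_sub_one_eq_one _ (Units.ne_zero s), map_one]
  · exact ⟨e, h3, by omega, h2⟩

/-! ### the torus -/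

section Torus

variable {K : Type u} [Field K]

theorem dg_e (l : Fin 2 → Kˣ) (i : Fin 2) :
    dg l (Pi.single (.inr i) 1 : V4 K) = (l i : K) • (Pi.single (.inr i) 1 : V4 K) := by
  funext x
  rcases x with x | x
  · change (((l x)⁻¹ : Kˣ) : K) * _ = _
    simp
  · change (l x : K) * _ = _
    by_cases h : x = i
    · subst h; simp
    · simp [Pi.single_apply, h]

theorem dg_f (l : Fin 2 → Kˣ) (i : Fin 2) :
    dg l (Pi.single (.inl i) 1 : V4 K) = ((l i)⁻¹ : Kˣ) • (Pi.single (.inl i) 1 : V4 K) := by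
  funext x
  rcases x with x | x
  · change (((l x)⁻¹ : Kˣ) : K) * _ = _
    by_cases h : x = i
    · subst h; simp [Units.smul_def]
    · simp [Pi.single_apply, h, Units.smul_def]
  · change (l x : K) * _ = _
    simp [Units.smul_def]

theorem ext4 {g k : V4 K ≃ₗ[K] V4 K} (h1 : ∀ i : Fin 2, g (Pi.single (.inr i) 1) = k (Pi.single (.inr i) 1))
    (h2 : ∀ i : Fin 2, g (Pi.single (.inl i) 1) = k (Pi.single (.inl i) 1)) : g = k := by
  apply LinearEquiv.toLinearMap_injective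
  apply LinearMap.pi_ext'
  rintro (i | i)
  · ext
    simpa using congrFun (h2 i) _
  · ext
    simpa using congrFun (h1 i) _

/-- the elements of the torus -/
def dgY (l : Fin 2 → Kˣ) : isos (_root_.Cfsg.Agent.TitsThree.SpIdent.form 2 K) := ⟨dg l, dg_mem l⟩

theorem dgY_mul (l m : Fin 2 → Kˣ) : dgY (l * m) = (dgY l : isos (_root_.Cfsg.Agent.TitsThree.SpIdent.form 2 K)) * dgY m := by
  apply Subtype.ext
  refine ext4 (fun i => ?_) (fun i => ?_)
  · change dg (l * m) _ = dg l (dg m _)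
    rw [dg_e, dg_e, map_smul, dg_e, smul_smul, Pi.mul_apply, Units.val_mul, mul_comm]
  · change dg (l * m) _ = dg l (dg m _)
    rw [dg_f, dg_f]
    rw [Units.smul_def, Units.smul_def, map_smul, dg_f, Units.smul_def, smul_smul, Pi.mul_apply, mul_inv,
      Units.val_mul, mul_comm]

theorem dgY_mem (l : Fin 2 → Kˣ) : dgY l ∈ Cfsg.Agent.Nodes.WittModel.T (model 2 K) := mem_T.2 (dg_mono l)

theorem F1_dg (l : Fin 2 → Kˣ) : F1 (dgY l : isos (_root_.Cfsg.Agent.TitsThree.SpIdent.form 2 K)).1 = l 0 := by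
  unfold F1
  change dg l _ _ = _
  rw [dg_e]
  simp

theorem F2_dg (l : Fin 2 → Kˣ) : F2 (dgY l : isos (_root_.Cfsg.Agent.TitsThree.SpIdent.form 2 K)).1 = l 0 * l 1 := by
  unfold F2
  change dg l _ _ * dg l _ _ - dg l _ _ * dg l _ _ = _
  rw [dg_e, dg_e]
  simp

theorem exists_dg {t : isos (_root_.Cfsg.Agent.TitsThree.SpIdent.form 2 K)} (ht : t ∈ Cfsg.Agent.Nodes.WittModel.T (model 2 K)) : ∃ l, t = dgY l := by
  have hm := mem_T.1 ht
  have h1 : ∀ i : Fin 2, ∃ l : Kˣ, t.1 (Pi.single (.inr i) 1) = (l : K) • Pi.single (.inr i) 1 := by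
    intro i
    obtain ⟨l, hl, e⟩ := hm (i, true)
    exact ⟨Units.mk0 l hl, e⟩
  choose l hl using h1
  refine ⟨l, Subtype.ext (ext4 (fun i => ?_) (fun i => ?_))⟩
  · rw [hl]
    exact (dg_e l i).symm
  · obtain ⟨m, hm0, e⟩ := hm (i, false)
    have e' : t.1 (Pi.single (.inl i) 1) = m • Pi.single (.inl i) 1 := e
    have h2 : (_root_.Cfsg.Agent.TitsThree.SpIdent.form 2 K).h (t.1 (Pi.single (.inr i) 1)) (t.1 (Pi.single (.inl i) 1)) =
        (_root_.Cfsg.Agent.TitsThree.SpIdent.form 2 K).h (Pi.single (.inr i) 1) (Pi.single (.inl i) 1) := t.2 _ _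
    rw [hl, e', (_root_.Cfsg.Agent.TitsThree.SpIdent.form 2 K).smul_left, (_root_.Cfsg.Agent.TitsThree.SpIdent.form 2 K).smul_right] at h2
    have h3 : (_root_.Cfsg.Agent.TitsThree.SpIdent.form 2 K).h (Pi.single (.inr i) 1) (Pi.single (.inl i) 1) = 1 := by
      rw [h_eq]
      fin_cases i <;> simp
    rw [h3, form_σ, mul_one] at h2
    rw [e']
    have h4 : m = ((l i)⁻¹ : Kˣ) := by
      rw [Units.val_inv_eq_inv_val]
      exact eq_inv_of_mul_eq_one_right h2
    rw [h4, ← Units.smul_def]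
    exact (dg_f l i).symm

/-- diagonal matrices -/
def sdiag (s : Kˣ) : SL(2, K) := ⟨!![(s : K), 0; 0, ((s⁻¹ : Kˣ) : K)], by simp⟩

theorem sd00 (s : Kˣ) : (sdiag s).1 0 0 = (s : K) := rfl
theorem sd01 (s : Kˣ) : (sdiag s).1 0 1 = (0 : K) := rfl
theorem sd10 (s : Kˣ) : (sdiag s).1 1 0 = (0 : K) := rfl
theorem sd11 (s : Kˣ) : (sdiag s).1 1 1 = ((s⁻¹ : Kˣ) : K) := rfl

/-- the rank one torus for the long root -/
theorem dg_long (s : Kˣ) : dg ![1, s] ∈ rg (frame 2 K) (sr 1) ⊔ rg (frame 2 K) (-sr 1) := by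
  have h1 : (dg ![1, s] : V4 K ≃ₗ[K] V4 K) = phiL (frame 2 K) 1 (sdiag s) := by
    refine ext4 (fun i => ?_) (fun i => ?_)
    · rw [dg_e, phiL_apply, linL_apply, sd00, sd01, sd10, sd11]
      simp only [h_eq]
      fin_cases i
      · simp [SpIdent.e, SpIdent.f]
      · simp [SpIdent.e, SpIdent.f]
        module
    · rw [dg_f, phiL_apply, linL_apply, sd00, sd01, sd10, sd11]
      simp only [h_eq]
      fin_cases i
      · simp [SpIdent.e, SpIdent.f, Units.smul_def]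
      · simp [SpIdent.e, SpIdent.f, Units.smul_def]
        module
  rw [h1, rg_sr, rg_neg_sr]
  have h2 : (phiL (frame 2 K) 1).range = _ := phiL_range (F := K) (m := 2) 1
  have h3 : phiL (frame 2 K) 1 (sdiag s) ∈ (phiL (frame 2 K) 1).range := ⟨_, rfl⟩
  rw [h2] at h3
  have h4 : (nx (1 : Fin 2)) = (1, true) := rfl
  rw [h4, PG_self, PG_self]
  exact h3

/-- the rank one torus for the short root -/
theorem dg_short (s : Kˣ) : dg ![s, s⁻¹] ∈ rg (frame 2 K) (sr 0) ⊔ rg (frame 2 K) (-sr 0) := by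
  have h01 : (0 : Fin 2) ≠ 1 := by decide
  have h1 : (dg ![s, s⁻¹] : V4 K ≃ₗ[K] V4 K) =
      phiS (frame 2 K) h01 (sdiag s) := by
    refine ext4 (fun i => ?_) (fun i => ?_)
    · rw [dg_e, phiS_apply, linS_apply, sd00, sd01, sd10, sd11]
      simp only [h_eq]
      fin_cases i
      · simp [SpIdent.e, SpIdent.f]
        module
      · simp [SpIdent.e, SpIdent.f]
        module
    · rw [dg_f, phiS_apply, linS_apply, sd00, sd01, sd10, sd11]
      simp only [h_eq]
      fin_cases i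
      · simp [SpIdent.e, SpIdent.f, Units.smul_def]
        module
      · simp [SpIdent.e, SpIdent.f, Units.smul_def]
        module
  rw [h1, rg_sr, rg_neg_sr]
  have h2 := phiS_range (frame 2 K) h01
  have h3 : phiS (frame 2 K) h01 (sdiag s) ∈ (phiS (frame 2 K) h01).range := ⟨_, rfl⟩
  rw [h2] at h3
  have h4 : (nx (0 : Fin 2)) = (1, false) := rfl
  have h5 : ((0, true) : Fin 2 × Bool).1 ≠ ((1, false) : Fin 2 × Bool).1 := h01
  rw [h4, PG_ne _ h5, PG_ne _ (a := ng (0, true)) (b := ng (1, false)) h5,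
    XG_swap _ (a := ng (0, true)) (b := ng (1, false)) h5]
  exact h3

end Torus

/-! ### the coefficient -/

theorem F2_mul_det {K : Type u} [Field K] (g : V4 K ≃ₗ[K] V4 K) (h01 : (0 : Fin 2) ≠ 1) (x : SL(2, K)) :
    F2 (g * phiS (frame 2 K) h01 x) = F2 g := by
  unfold F2
  change g (phiS (frame 2 K) h01 x ((frame 2 K).b (0, true))) _ * g (phiS (frame 2 K) h01 x ((frame 2 K).b (1, true))) _ -
    g (phiS (frame 2 K) h01 x ((frame 2 K).b (0, true))) _ * g (phiS (frame 2 K) h01 x ((frame 2 K).b (1, true))) _ = _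
  rw [phiS_e, phiS_e', map_add, map_add, map_smul, map_smul, map_smul, map_smul]
  have hd : x.1 0 0 * x.1 1 1 - x.1 0 1 * x.1 1 0 = 1 := by
    rw [← Matrix.det_fin_two]; exact x.2
  simp only [Pi.add_apply, Pi.smul_apply, smul_eq_mul]
  change _ = g ((frame 2 K).b (0, true)) _ * g ((frame 2 K).b (1, true)) _ -
    g ((frame 2 K).b (0, true)) _ * g ((frame 2 K).b (1, true)) _
  linear_combination (g ((frame 2 K).b (0, true)) (Sum.inr 0) * g ((frame 2 K).b (1, true)) (Sum.inr 1) -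
    g ((frame 2 K).b (0, true)) (Sum.inr 1) * g ((frame 2 K).b (1, true)) (Sum.inr 0)) * hd

theorem F1_mul_long {K : Type u} [Field K] (g : V4 K ≃ₗ[K] V4 K) (x : SL(2, K)) :
    F1 (g * phiL (frame 2 K) 1 x) = F1 g := by
  unfold F1
  change g (phiL (frame 2 K) 1 x (Pi.single (.inr 0) 1)) _ = _
  congr 2
  rw [phiL_apply, linL_apply]
  simp only [h_eq]
  simp [SpIdent.e, SpIdent.f]

theorem nn_zero {K : Type u} [Field K] (h01 : (0 : Fin 2) ≠ 1) (p0 : (frame 2 K).Adm) :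
    ∃ x, _root_.Cfsg.Agent.Nodes.WittRGD.nn (frame 2 K) p0 0 = phiS (frame 2 K) h01 x := by
  have h1 := nn_mem_sup (Fr := frame 2 K) p0 0
  rw [rg_sr, rg_neg_sr] at h1
  have h4 : (nx (0 : Fin 2)) = (1, false) := rfl
  have h5 : ((0, true) : Fin 2 × Bool).1 ≠ ((1, false) : Fin 2 × Bool).1 := h01
  rw [h4, PG_ne _ h5, PG_ne _ (a := ng (0, true)) (b := ng (1, false)) h5,
    XG_swap _ (a := ng (0, true)) (b := ng (1, false)) h5] at h1
  have h2 := phiS_range (frame 2 K) h01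
  have h3 : _root_.Cfsg.Agent.Nodes.WittRGD.nn (frame 2 K) p0 0 ∈ (phiS (frame 2 K) h01).range := by
    rw [h2]; exact h1
  obtain ⟨x, hx⟩ := h3
  exact ⟨x, hx.symm⟩

theorem nn_one {K : Type u} [Field K] (p0 : (frame 2 K).Adm) : ∃ x, _root_.Cfsg.Agent.Nodes.WittRGD.nn (frame 2 K) p0 1 = phiL (frame 2 K) 1 x := by
  have h1 := nn_mem_sup (Fr := frame 2 K) p0 1
  rw [rg_sr, rg_neg_sr] at h1
  have h4 : (nx (1 : Fin 2)) = (1, true) := rfl
  rw [h4, PG_self, PG_self] at h1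
  have h2 : (phiL (frame 2 K) 1).range = _ := phiL_range (F := K) (m := 2) 1
  have h3 : _root_.Cfsg.Agent.Nodes.WittRGD.nn (frame 2 K) p0 1 ∈ (phiL (frame 2 K) 1).range := by
    rw [h2]; exact h1
  obtain ⟨x, hx⟩ := h3
  exact ⟨x, hx.symm⟩

section WJ

variable {I W : Type*} [Group W] {M : CoxeterMatrix I} (cs : CoxeterSystem M W)

theorem mem_WJ_sub {J : Set I} {i : I} (hJ : J ⊆ {i}) {w : W} (hw : w ∈ WJ cs J) :
    w = 1 ∨ (i ∈ J ∧ w = cs.simple i) := by
  unfold WJ at hw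
  induction hw using Subgroup.closure_induction with
  | mem x hx =>
    obtain ⟨j, hj, rfl⟩ := hx
    have h1 : j = i := hJ hj
    subst h1
    exact Or.inr ⟨hj, rfl⟩
  | one => exact Or.inl rfl
  | mul x y _ _ hx hy =>
    rcases hx with rfl | ⟨h1, rfl⟩
    · rw [one_mul]; exact hy
    · rcases hy with rfl | ⟨h2, rfl⟩
      · rw [mul_one]; exact Or.inr ⟨h1, rfl⟩
      · rw [cs.simple_mul_simple_self]; exact Or.inl rfl
  | inv x _ hx =>
    rcases hx with rfl | ⟨h1, rfl⟩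
    · exact Or.inl inv_one
    · rw [cs.inv_simple]; exact Or.inr ⟨h1, rfl⟩

end WJ

section Rep

variable {K : Type u} [Field K] [Finite K] {W : Type*} [Group W] (cs : CoxeterSystem (CoxeterMatrix.B 2) W) {p : ℕ}
  [hp : Fact p.Prime] [CharP K p]

theorem ambT (K : Type u) [Field K] (p : ℕ) [Fact p.Prime] [CharP K p] : AmbT (frame 2 K) p (model 2 K).I :=
  AmbT.of_amb (Cfsg.Agent.KFacts.Mult.SpTwo.amb 2 K) p

/-- the representatives of the simple reflections -/
noncomputable def n4 (K : Type u) [Field K] (p : ℕ) [Fact p.Prime] [CharP K p] (i : Fin 2) : isos (_root_.Cfsg.Agent.TitsThree.SpIdent.form 2 K) :=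
  (model 2 K).φ ⟨_root_.Cfsg.Agent.Nodes.WittRGD.nn (frame 2 K) (adm 1) i, Cfsg.Agent.Nodes.WittAll.nn_mem (ambT K p) (adm 1) i⟩

/-- the torus -/
noncomputable abbrev T4 (K : Type u) [Field K] : Subgroup (isos (_root_.Cfsg.Agent.TitsThree.SpIdent.form 2 K)) := Cfsg.Agent.Nodes.WittModel.T (model 2 K)

/-- the root groups -/
noncomputable abbrev X4 (K : Type u) [Field K] : (Fin 2 → ℤ) → Subgroup (isos (_root_.Cfsg.Agent.TitsThree.SpIdent.form 2 K)) :=
  Cfsg.Agent.Nodes.WittModel.X (model 2 K)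

/-- the root group datum of `Sp_4(K)` -/
theorem R4 : RGD cs (isCartan 2) p (T4 K) (n4 K p) (X4 K) :=
  rgdC_model (model 2 K) (ambT K p) (p0 := adm 1) (show (1 : K) ≠ 0 from one_ne_zero) cs

theorem GG4 : GG cs (isCartan 2) (T4 K) (X4 K) = ⊤ :=
  Md.gg_top (Cfsg.Agent.Nodes.WittModel.G1_eq_top (model 2 K) (by norm_num) cs)


variable {k V : Type*} [Field k] [CharP k p] [AddCommGroup V] [Module k V] [FiniteDimensional k V]
  [Nontrivial V] {ρ : isos (_root_.Cfsg.Agent.TitsThree.SpIdent.form 2 K) →* Module.End k V}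
  (hirr : ∀ L : Submodule k V, Ivt ρ (GG cs (isCartan 2) (T4 K) (X4 K)) L → L = ⊥ ∨ L = ⊤)
  {c : V} (hc : c ∈ D cs (isCartan 2) (X4 K) ρ) (hc0 : c ≠ 0) {χ : isos (_root_.Cfsg.Agent.TitsThree.SpIdent.form 2 K) → k}
  (hχ : ∀ t ∈ T4 K, ρ t c = χ t • c)

include hc in
/-- the rank one group fixes `c` if `i ∈ J` -/
theorem fix_of_mem {i : Fin 2} (hi : i ∈ Jx cs (isCartan 2) (X4 K) ρ) {y : isos (_root_.Cfsg.Agent.TitsThree.SpIdent.form 2 K)}
    (hy : y.1 ∈ rg (frame 2 K) (sr i) ⊔ rg (frame 2 K) (-sr i)) : ρ y c = c := by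
  have h1 : y ∈ X4 K (sr i) ⊔ X4 K (-sr i) := by
    have hX : ∀ x, X4 K x = (rg (frame 2 K) x).subgroupOf (isos (_root_.Cfsg.Agent.TitsThree.SpIdent.form 2 K)) := fun x => X_eq x
    rw [hX, hX, ← Subgroup.subgroupOf_sup (rg_le _) (rg_le _), Subgroup.mem_subgroupOf]
    exact hy
  have h2 : c ∈ fx ρ (X4 K (sr i) ⊔ X4 K (-sr i)) := by
    rw [fx_sup]
    refine ⟨fun b hb => ?_, fun b hb => hi b hb c hc⟩
    exact hc b (RGD.le_Sup (S := RGD.Pos cs (isCartan 2)) ⟨isRoot_sr cs _ i, sr_nonneg i⟩ hb)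
  exact h2 y h1

include hc0 hχ in
theorem chi_mul' {t t' : isos (_root_.Cfsg.Agent.TitsThree.SpIdent.form 2 K)} (ht : t ∈ T4 K) (ht' : t' ∈ T4 K) : χ (t * t') = χ t * χ t' := by
  have h1 := hχ _ (mul_mem ht ht')
  rw [rho_mul, hχ t' ht', map_smul, hχ t ht, smul_smul, mul_comm] at h1
  exact (smul_left_injective k hc0 h1).symm

include hc0 hχ in
theorem chi_one' : χ 1 = 1 := by
  have h1 := hχ 1 (one_mem _)
  rw [map_one] at h1
  have h2 : (1 : k) • c = χ 1 • c := by rw [one_smul]; exact h1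
  exact (smul_left_injective k hc0 h2).symm

/-- the characters of the rank one tori -/
noncomputable def chU (hc0 : c ≠ 0) (hχ : ∀ t ∈ T4 K, ρ t c = χ t • c) (f : Kˣ →* (Fin 2 → Kˣ)) : Kˣ →* kˣ where
  toFun s := ⟨χ (dgY (f s)), χ (dgY (f s⁻¹)), by
      rw [← chi_mul' hc0 hχ (dgY_mem _) (dgY_mem _), ← dgY_mul, ← map_mul, mul_inv_cancel, map_one]
      have h1 : (dgY 1 : isos (_root_.Cfsg.Agent.TitsThree.SpIdent.form 2 K)) = 1 := by
        have := dgY_mul (1 : Fin 2 → Kˣ) 1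
        rw [one_mul] at this
        exact (mul_eq_left.1 this.symm)
      rw [h1, chi_one' hc0 hχ], by
      rw [← chi_mul' hc0 hχ (dgY_mem _) (dgY_mem _), ← dgY_mul, ← map_mul, inv_mul_cancel, map_one]
      have h1 : (dgY 1 : isos (_root_.Cfsg.Agent.TitsThree.SpIdent.form 2 K)) = 1 := by
        have := dgY_mul (1 : Fin 2 → Kˣ) 1
        rw [one_mul] at this
        exact (mul_eq_left.1 this.symm)
      rw [h1, chi_one' hc0 hχ]⟩
  map_one' := by
    apply Units.ext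
    change χ (dgY (f 1)) = 1
    rw [map_one]
    have h1 : (dgY 1 : isos (_root_.Cfsg.Agent.TitsThree.SpIdent.form 2 K)) = 1 := by
      have := dgY_mul (1 : Fin 2 → Kˣ) 1
      rw [one_mul] at this
      exact (mul_eq_left.1 this.symm)
    rw [h1, chi_one' hc0 hχ]
  map_mul' s t := by
    apply Units.ext
    change χ (dgY (f (s * t))) = χ (dgY (f s)) * χ (dgY (f t))
    rw [map_mul, dgY_mul, chi_mul' hc0 hχ (dgY_mem _) (dgY_mem _)]


/-- `s ↦ (1, s)` -/
def mLong (K : Type u) [Field K] : Kˣ →* (Fin 2 → Kˣ) where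
  toFun s := ![1, s]
  map_one' := by funext i; fin_cases i <;> rfl
  map_mul' s t := by funext i; fin_cases i <;> simp

/-- `s ↦ (s, s⁻¹)` -/
def mShort (K : Type u) [Field K] : Kˣ →* (Fin 2 → Kˣ) where
  toFun s := ![s, s⁻¹]
  map_one' := by funext i; fin_cases i <;> simp
  map_mul' s t := by
    funext i
    fin_cases i
    · simp
    · simp [mul_comm]

include hc hc0 hχ in
/-- **the highest weight** -/
theorem exists_weight (j : K →+* k) : ∃ c₁ c₂ : ℕ, c₁ ≤ Nat.card K - 1 ∧ c₂ ≤ Nat.card K - 1 ∧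
    (c₁ = 0 ↔ (0 : Fin 2) ∈ Jx cs (isCartan 2) (X4 K) ρ) ∧ (c₂ = 0 ↔ (1 : Fin 2) ∈ Jx cs (isCartan 2) (X4 K) ρ) ∧
    ∀ t ∈ T4 K, χ t = j (F1 t.1) ^ c₁ * j (F2 t.1) ^ c₂ := by
  classical
  letI := Fintype.ofFinite K
  rw [Nat.card_eq_fintype_card]
  have key : ∀ (i : Fin 2) (f : Kˣ →* (Fin 2 → Kˣ)), (∀ s, dg (f s) ∈ rg (frame 2 K) (sr i) ⊔ rg (frame 2 K) (-sr i)) →
      ∃ e, e ≤ Fintype.card K - 1 ∧ (e = 0 ↔ i ∈ Jx cs (isCartan 2) (X4 K) ρ) ∧ ∀ s, χ (dgY (f s)) = j (s : K) ^ e := by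
    intro i f hf
    by_cases hi : i ∈ Jx cs (isCartan 2) (X4 K) ρ
    · refine ⟨0, Nat.zero_le _, ⟨fun _ => hi, fun _ => rfl⟩, fun s => ?_⟩
      have h1 := fix_of_mem cs hc hi (y := dgY (f s)) (hf s)
      rw [hχ _ (dgY_mem _)] at h1
      rw [pow_zero]
      have h2 : χ (dgY (f s)) • c = (1 : k) • c := by rw [one_smul]; exact h1
      exact smul_left_injective k hc0 h2
    · obtain ⟨e, h1, h2, h3⟩ := exists_exp' j (chU hc0 hχ f)
      exact ⟨e, h2, ⟨fun h => absurd h (by omega), fun h => absurd h hi⟩, h3⟩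
  obtain ⟨c₁, h1, h2, h3⟩ := key 0 (mShort K) dg_short
  obtain ⟨c₂, h4, h5, h6⟩ := key 1 (mLong K) dg_long
  refine ⟨c₁, c₂, h1, h4, h2, h5, fun t ht => ?_⟩
  obtain ⟨l, rfl⟩ := exists_dg ht
  have h7 : l = mShort K (l 0) * mLong K (l 0 * l 1) := by
    funext i
    fin_cases i
    · simp [mShort, mLong]
    · simp [mShort, mLong]
  rw [F1_dg, F2_dg]
  conv_lhs => rw [h7]
  rw [dgY_mul, chi_mul' hc0 hχ (dgY_mem _) (dgY_mem _), h3, h6, Units.val_mul]

include hirr hc hc0 hχ in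
/-- the monomial elements -/
theorem coeff_rp {j : K →+* k} {c₁ c₂ : ℕ} (h₁ : c₁ = 0 ↔ (0 : Fin 2) ∈ Jx cs (isCartan 2) (X4 K) ρ)
    (h₂ : c₂ = 0 ↔ (1 : Fin 2) ∈ Jx cs (isCartan 2) (X4 K) ρ)
    (hT : ∀ t ∈ T4 K, χ t = j (F1 t.1) ^ c₁ * j (F2 t.1) ^ c₂) {φ : Module.Dual k V}
    (hφ : φ ∈ fx ((dualRep ρ :)) (UN cs (isCartan 2) (X4 K))) {w : W} {y : isos (_root_.Cfsg.Agent.TitsThree.SpIdent.form 2 K)}
    (hy : Rp cs (R4 (p := p) cs).nsys w y) : φ (ρ y c) = φ c * (j (F1 y.1) ^ c₁ * j (F2 y.1) ^ c₂) := by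
  haveI := finite_isos (m := 2) (F := K)
  haveI : Finite W := finite_W cs
  have h01 : (0 : Fin 2) ≠ 1 := by decide
  by_cases hw : w ∈ WJ cs (Jx cs (isCartan 2) (X4 K) ρ)
  · have hmain : ρ y c = (j (F1 y.1) ^ c₁ * j (F2 y.1) ^ c₂) • c := by
      by_cases hu : (0 : Fin 2) ∈ Jx cs (isCartan 2) (X4 K) ρ ∧ (1 : Fin 2) ∈ Jx cs (isCartan 2) (X4 K) ρ
      · rw [h₁.2 hu.1, h₂.2 hu.2, pow_zero, pow_zero, one_mul, one_smul]
        let S : Subgroup (isos (_root_.Cfsg.Agent.TitsThree.SpIdent.form 2 K)) :=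
          { carrier := {z | ρ z c = c}
            one_mem' := rho_one ρ _
            mul_mem' := fun {a b} ha hb => by
              change ρ (a * b) c = c
              rw [rho_mul, show ρ b c = c from hb, show ρ a c = c from ha]
            inv_mem' := fun {a} ha => by
              change ρ a⁻¹ c = c
              conv_lhs => rw [← show ρ a c = c from ha]
              rw [← rho_mul, inv_mul_cancel, rho_one] }
        have hall : ∀ i : Fin 2, i ∈ Jx cs (isCartan 2) (X4 K) ρ := by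
          intro i
          fin_cases i
          · exact hu.1
          · exact hu.2
        have h3 : (⊤ : Subgroup (isos (_root_.Cfsg.Agent.TitsThree.SpIdent.form 2 K))) ≤ S := by
          rw [← Cfsg.Agent.Nodes.WittModel.iSup_eq_top (model 2 K) (by norm_num)]
          refine iSup_le fun i => sup_le (fun z hz => ?_) (fun z hz => hall i z hz c hc)
          exact hc z (RGD.le_Sup (S := RGD.Pos cs (isCartan 2)) ⟨isRoot_sr cs _ i, sr_nonneg i⟩ hz)
        exact h3 trivial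
      · have hex : ∃ i, Jx cs (isCartan 2) (X4 K) ρ ⊆ {i} := by
          by_cases h0 : (0 : Fin 2) ∈ Jx cs (isCartan 2) (X4 K) ρ
          · refine ⟨0, fun x hx => ?_⟩
            fin_cases x
            · rfl
            · exact absurd ⟨h0, hx⟩ hu
          · refine ⟨1, fun x hx => ?_⟩
            fin_cases x
            · exact absurd hx h0
            · rfl
        obtain ⟨i, hi⟩ := hex
        rcases mem_WJ_sub cs hi hw with rfl | ⟨hiJ, rfl⟩
        · have ht := hy.mem_of_one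
          rw [hχ y ht, hT y ht]
        · have ht := (hy.mul (rp_simple cs (R4 (p := p) cs).nsys i).inv)
          rw [mul_inv_cancel] at ht
          have ht' := ht.mem_of_one
          have e : y = (y * (n4 K p i)⁻¹) * n4 K p i := by group
          have hn : ρ (n4 K p i) c = c := fix_of_mem cs hc hiJ (nn_mem_sup (Fr := frame 2 K) (adm 1) i)
          have h3 : F1 y.1 ^ c₁ = F1 (y * (n4 K p i)⁻¹).1 ^ c₁ ∧ F2 y.1 ^ c₂ = F2 (y * (n4 K p i)⁻¹).1 ^ c₂ := by
            have e' : y.1 = (y * (n4 K p i)⁻¹).1 * (n4 K p i).1 := congrArg Subtype.val e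
            fin_cases i
            · have h5 : c₁ = 0 := h₁.2 hiJ
              obtain ⟨x, hx⟩ := nn_zero h01 (adm (1 : K))
              have hx' : (n4 K p 0).1 = phiS (frame 2 K) h01 x := hx
              refine ⟨by rw [h5, pow_zero, pow_zero], ?_⟩
              conv_lhs => rw [e']
              change F2 (_ * (n4 K p 0).1) ^ c₂ = _
              rw [hx', F2_mul_det]
            · have h5 : c₂ = 0 := h₂.2 hiJ
              obtain ⟨x, hx⟩ := nn_one (adm (1 : K))
              have hx' : (n4 K p 1).1 = phiL (frame 2 K) 1 x := hx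
              refine ⟨?_, by rw [h5, pow_zero, pow_zero]⟩
              conv_lhs => rw [e']
              change F1 (_ * (n4 K p 1).1) ^ c₁ = _
              rw [hx', F1_mul_long]
          conv_lhs => rw [e, rho_mul, hn, hχ _ ht', hT _ ht']
          rw [← map_pow, ← map_pow, ← map_pow, ← map_pow, h3.1, h3.2]
    rw [hmain, map_smul, smul_eq_mul, mul_comm]
  · have h3 : φ (ρ y c) = 0 := by
      by_contra hne
      exact hw (mem_WJ_of_pair (R4 (p := p) cs) hirr hφ hy hc hne)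
    rw [h3]
    symm
    by_contra hne
    apply hw
    rw [mem_WJ_iff]
    have h4 : j (F1 y.1) ^ c₁ * j (F2 y.1) ^ c₂ ≠ 0 := fun h => hne (by rw [h, mul_zero])
    intro x i hi
    fin_cases i
    · have h5 : c₁ ≠ 0 := fun h => hi (h₁.1 h)
      have h6 : F1 y.1 ≠ 0 := by
        intro h
        apply h4
        rw [h, map_zero, zero_pow h5, zero_mul]
      exact of_F1 (hA := ambT K p) (p0 := adm 1) one_ne_zero hy h6 x
    · have h5 : c₂ ≠ 0 := fun h => hi (h₂.1 h)
      have h6 : F2 y.1 ≠ 0 := by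
        intro h
        apply h4
        rw [h, map_zero, zero_pow h5, mul_zero]
      exact of_F2 (hA := ambT K p) (p0 := adm 1) one_ne_zero hy h6 x


omit [CharP k p] hp [CharP K p] in
include hirr hc hc0 hχ in
/-- **The matrix coefficient.** -/
theorem master (p : ℕ) [Fact p.Prime] [CharP K p] [CharP k p] {j : K →+* k} {c₁ c₂ : ℕ} (h₁ : c₁ = 0 ↔ (0 : Fin 2) ∈ Jx cs (isCartan 2) (X4 K) ρ)
    (h₂ : c₂ = 0 ↔ (1 : Fin 2) ∈ Jx cs (isCartan 2) (X4 K) ρ)
    (hT : ∀ t ∈ T4 K, χ t = j (F1 t.1) ^ c₁ * j (F2 t.1) ^ c₂) {φ : Module.Dual k V}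
    (hφ : φ ∈ fx ((dualRep ρ :)) (UN cs (isCartan 2) (X4 K))) (y : isos (_root_.Cfsg.Agent.TitsThree.SpIdent.form 2 K)) :
    φ (ρ y c) = φ c * (j (F1 y.1) ^ c₁ * j (F2 y.1) ^ c₂) := by
  haveI := finite_isos (m := 2) (F := K)
  haveI : Finite W := finite_W cs
  obtain ⟨v, hv, -⟩ := exists_neg (model 2 K) (ambT K p) (p0 := adm 1) one_ne_zero (cs := cs) (R4 (p := p) cs).nsys
  refine coeff_eq (R4 (p := p) cs) hv hφ hc (F := fun y => φ c * (j (F1 y.1) ^ c₁ * j (F2 y.1) ^ c₂))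
    (fun a ha g => ?_) (fun u hu g => ?_)
    (fun w z hz => coeff_rp cs hirr hc hc0 hχ h₁ h₂ hT hφ hz) (g := y) (by rw [GG4]; trivial)
  · change φ c * (j (F1 (a.1 * g.1)) ^ c₁ * j (F2 (a.1 * g.1)) ^ c₂) = _
    rw [F1_lo_mul (UN_le ha), F2_lo_mul (UN_le ha)]
  · change φ c * (j (F1 (g.1 * u.1)) ^ c₁ * j (F2 (g.1 * u.1)) ^ c₂) = _
    rw [F1_mul_up (U_le hu), F2_mul_up (U_le hu)]

end Rep

end Cfsg.Agent.H905.Sp4
end

private theorem dce_0428b84d04ea : _root_.True := by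
  try have : _root_.True := by simp only [_root_.Cfsg.Agent.H905.Sp4.mLong.eq_1]
  try have : _root_.True := by simp only [_root_.Cfsg.Agent.H905.Sp4.n4.congr_simp]
  try have : _root_.True := by simp only [_root_.Cfsg.Agent.H905.Sp4.mShort.eq_1]
  exact _root_.True.intro
end
end
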