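import Mathlib
import Cfsg.Agent.H875.FnIso_m3
import Cfsg.Agent.H905.Sp4Main
import Cfsg.Agent.H905.MdR
import Cfsg.Agent.H905.MdL
import Cfsg.Agent.FastGrp
import Cfsg.Agent.Prune
set_option linter.all false

section
prune_inst 0x7ffffff9fbbc7bffdfff7e7ff7dccffc3b931fffe6dff94bffeae9ff2b9f338209ed6bad0de090fe1ff6e21410b87843fbfffeffe06ffc7ffffdfff41ffbee4ff5f7350851d48c340f380ff703f0778e7f3fffffffffffffffffffffffffffbeffbfffffffff

-- part: H909/Sp4KerArith
section
prune_inst 0x6044384002000018008013000000480001000000000041200d02000100000041000102801400100a800008010000001000a000000000000004000002000008801200300000084a008e000080000000000000000000000000000000000004000000000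
set_option linter.all false
open scoped Cfsg.Agent.FastGrp

-- part: H909/Sp4KerBase
section
/-!
# Kernels: biorthogonal systems from power functions on a finite field (helper909)
-/

set_option autoImplicit false
set_option linter.unusedSectionVars false

namespace Cfsg.Agent.H909.Sp4Ker

open Cfsg.Agent.H875.Fn Matrix

universe u v w

section biorth

variable {k : Type v} [Field k] {V : Type w} [AddCommGroup V] [Module k V] [FiniteDimensional k V]

/-- a biorthogonal system bounds the dimension -/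
theorem le_of_biorth {ι : Type*} [Fintype ι] [DecidableEq ι] (G : ι → Module.Dual k V) (W : ι → V) {d : k}
    (hd : d ≠ 0) (h : ∀ i l, G i (W l) = if i = l then d else 0) : Fintype.card ι ≤ Module.finrank k V := by
  have hli : LinearIndependent k W := by
    rw [Fintype.linearIndependent_iff]
    intro c hc i
    have h1 := congrArg (G i) hc
    rw [map_sum, map_zero] at h1
    simp only [map_smul, h, smul_eq_mul, mul_ite, mul_zero, Finset.sum_ite_eq, Finset.mem_univ,
      if_true] at h1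
    exact (mul_eq_zero.1 h1).resolve_right hd
  exact hli.fintype_card_le_finrank

end biorth

section dual

variable {E : Type u} [Field E] [Fintype E] {k : Type v} [Field k] (j : E →+* k)

open Classical in
/-- dual functions of the powers -/
noncomputable def be (m : ℕ) (t : E) : k :=
  if m = 0 then (if t = 0 then 1 else 0) else - j t ^ (Fintype.card E - 1 - m)

theorem sum_be {m m' : ℕ} (hm : m ≤ Fintype.card E - 1) (hm' : m' ≤ Fintype.card E - 1) :
    ∑ t : E, be j m t * j t ^ m' = if m = m' then 1 else 0 := by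
  classical
  have hq := two_le_card (E := E)
  unfold be
  by_cases h0 : m = 0
  · simp only [h0, if_true, ite_mul, one_mul, zero_mul]
    rw [Finset.sum_ite_eq' Finset.univ (0 : E) (fun t => j t ^ m')]
    simp only [Finset.mem_univ, if_true, map_zero]
    by_cases h1 : m' = 0
    · simp [h1]
    · rw [zero_pow h1, if_neg (fun h => h1 h.symm)]
  · simp only [h0, if_false, neg_mul, ← pow_add, Finset.sum_neg_distrib]
    by_cases h2 : Fintype.card E - 1 - m + m' = 0
    · rw [h2, if_neg (by omega)]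
      simp only [pow_zero]
      rw [Finset.sum_const, Finset.card_univ, nsmul_eq_mul, card_cast_zero j, zero_mul, neg_zero]
    · rw [sum_map_pow j h2]
      by_cases h3 : m = m'
      · rw [if_pos h3, if_pos, neg_neg]
        rw [← h3, Nat.sub_add_cancel hm]
      · rw [if_neg h3, if_neg, neg_zero]
        rintro ⟨d, hd⟩
        have hd1 : d < 2 := by
          by_contra hd2
          have : (Fintype.card E - 1) * 2 ≤ (Fintype.card E - 1) * d := Nat.mul_le_mul_left _ (by omega)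
          omega
        interval_cases d
        · omega
        · apply h3; omega

/-! ### reduction of exponents -/

/-- the exponent in `[1, q - 1]` with the same power function (`0` for `0`) -/
def red (q n : ℕ) : ℕ := if n = 0 then 0 else (n - 1) % (q - 1) + 1

theorem red_zero (q : ℕ) : red q 0 = 0 := by rw [red, if_pos rfl]

theorem red_le {q : ℕ} (hq : 2 ≤ q) (n : ℕ) : red q n ≤ q - 1 := by
  unfold red
  split_ifs
  · omega
  · have := Nat.mod_lt (n - 1) (show 0 < q - 1 by omega)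
    omega

theorem red_ne_zero {q n : ℕ} (hn : n ≠ 0) : red q n ≠ 0 := by
  unfold red
  rw [if_neg hn]
  omega

theorem red_eq {q n : ℕ} (h : n ≤ q - 1) : red q n = n := by
  unfold red
  split_ifs with h0
  · exact h0.symm
  · rw [Nat.mod_eq_of_lt (by omega)]
    omega

theorem red_congr {q n m : ℕ} (hn : n ≠ 0) (hm : m ≠ 0) (h : n ≡ m [MOD q - 1]) :
    red q n = red q m := by
  unfold red
  rw [if_neg hn, if_neg hm]
  have h1 : n - 1 ≡ m - 1 [MOD q - 1] := by
    have h2 : (n - 1) + 1 ≡ (m - 1) + 1 [MOD q - 1] := by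
      rw [Nat.sub_add_cancel (by omega), Nat.sub_add_cancel (by omega)]
      exact h
    exact Nat.ModEq.add_right_cancel' 1 h2
  rw [h1]

theorem red_modEq (q n : ℕ) : red q n ≡ n [MOD q - 1] := by
  unfold red
  split_ifs with h0
  · rw [h0]
  · have h1 : (n - 1) % (q - 1) + 1 ≡ (n - 1) + 1 [MOD q - 1] :=
      (Nat.mod_modEq (n - 1) (q - 1)).add_right 1
    rwa [Nat.sub_add_cancel (by omega)] at h1

theorem red_add {q n m : ℕ} (hn : n ≠ 0) : red q (n + m) = red q (red q n + m) :=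
  red_congr (by omega) (by have := red_ne_zero (q := q) hn; omega)
    ((red_modEq q n).symm.add_right m)

theorem pow_red (x : E) (n : ℕ) : x ^ n = x ^ red (Fintype.card E) n := by
  unfold red
  split_ifs with h0
  · rw [h0]
  · by_cases hx : x = 0
    · rw [hx, zero_pow h0, zero_pow (by omega)]
    · have h1 : n = (Fintype.card E - 1) * ((n - 1) / (Fintype.card E - 1)) +
        ((n - 1) % (Fintype.card E - 1) + 1) := by
        have := Nat.div_add_mod (n - 1) (Fintype.card E - 1)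
        omega
      conv_lhs => rw [h1]
      rw [pow_add, pow_mul, FiniteField.pow_card_sub_one_eq_one x hx, one_pow, one_mul]

variable (p : ℕ) [hp : Fact p.Prime] [CharP k p]

/-- the rank of `(1 + u t)^n` -/
def Rk (q n : ℕ) : ℕ := (SS p (red q n)).card

theorem exists_al (n : ℕ) {m : ℕ} (hm : m ∈ SS p (red (Fintype.card E) n)) :
    ∃ α : E → k, ∀ u : E, ∑ t, α t * j (1 + u * t) ^ n = j u ^ m := by
  have hq := two_le_card (E := E)
  set r := red (Fintype.card E) n with hr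
  have hrq : r ≤ Fintype.card E - 1 := red_le hq n
  have hmr : m ≤ r := (mem_SS.1 hm).1
  have hC : ((r.choose m : ℕ) : k) ≠ 0 := choose_ne_zero p hm
  refine ⟨fun t => ((r.choose m : ℕ) : k)⁻¹ * be j m t, fun u => ?_⟩
  have h1 : ∀ t : E, j (1 + u * t) ^ n = ∑ i ∈ Finset.range (r + 1),
      (j u ^ i * (r.choose i : k)) * j t ^ i := by
    intro t
    rw [← map_pow, pow_red, ← hr, map_pow, map_add, map_one, map_mul, add_comm, add_pow]
    refine Finset.sum_congr rfl fun i _ => ?_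
    rw [one_pow, mul_one, mul_pow]
    ring
  simp only [h1, Finset.mul_sum]
  rw [Finset.sum_comm]
  rw [Finset.sum_eq_single m]
  · have h2 : ∀ t : E, ((r.choose m : ℕ) : k)⁻¹ * be j m t * (j u ^ m * (r.choose m : k) * j t ^ m) =
        (((r.choose m : ℕ) : k)⁻¹ * (r.choose m : k) * j u ^ m) * (be j m t * j t ^ m) := by
      intro t; ring
    simp only [h2]
    rw [← Finset.mul_sum, sum_be j (by omega) (by omega), if_pos rfl, inv_mul_cancel₀ hC,
      one_mul, mul_one]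
  · intro i hi hne
    rw [Finset.mem_range] at hi
    have h2 : ∀ t : E, ((r.choose m : ℕ) : k)⁻¹ * be j m t * (j u ^ i * (r.choose i : k) * j t ^ i) =
        (((r.choose m : ℕ) : k)⁻¹ * (r.choose i : k) * j u ^ i) * (be j m t * j t ^ i) := by
      intro t; ring
    simp only [h2]
    rw [← Finset.mul_sum, sum_be j (by omega) (by omega), if_neg (Ne.symm hne), mul_zero]
  · intro h
    exact absurd (Finset.mem_range.2 (by omega)) h

variable {V : Type w} [AddCommGroup V] [Module k V]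

/-- the kernel `(1 + c z)^n₁ (1 + d w)^n₂` -/
theorem block (f : E × E → Module.Dual k V) (v : E × E → V) {n₁ n₂ : ℕ}
    (h : ∀ x y, f x (v y) = j (1 + x.1 * y.1) ^ n₁ * j (1 + x.2 * y.2) ^ n₂) :
    ∃ (G : SS p (red (Fintype.card E) n₁) × SS p (red (Fintype.card E) n₂) → Module.Dual k V)
      (W : SS p (red (Fintype.card E) n₁) × SS p (red (Fintype.card E) n₂) → V),
      (∀ i, G i ∈ Submodule.span k (Set.range f)) ∧ (∀ i, W i ∈ Submodule.span k (Set.range v)) ∧
      ∀ i l, G i (W l) = if i = l then 1 else 0 := by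
  classical
  have hq := two_le_card (E := E)
  choose α₁ hα₁ using fun m : SS p (red (Fintype.card E) n₁) => exists_al j p n₁ m.2
  choose α₂ hα₂ using fun m : SS p (red (Fintype.card E) n₂) => exists_al j p n₂ m.2
  refine ⟨fun i => ∑ x : E × E, (be j i.1 x.1 * be j i.2 x.2) • f x,
    fun i => ∑ y : E × E, (α₁ i.1 y.1 * α₂ i.2 y.2) • v y, fun i => ?_, fun i => ?_, fun i l => ?_⟩
  · exact Submodule.sum_mem _ fun x _ => Submodule.smul_mem _ _ (Submodule.subset_span ⟨x, rfl⟩)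
  · exact Submodule.sum_mem _ fun x _ => Submodule.smul_mem _ _ (Submodule.subset_span ⟨x, rfl⟩)
  · have h1 : ∀ x : E × E, f x (∑ y : E × E, (α₁ l.1 y.1 * α₂ l.2 y.2) • v y) =
        j x.1 ^ (l.1 : ℕ) * j x.2 ^ (l.2 : ℕ) := by
      intro x
      rw [map_sum, ← hα₁ l.1 x.1, ← hα₂ l.2 x.2, Finset.sum_mul_sum, Fintype.sum_prod_type]
      refine Finset.sum_congr rfl fun y₁ _ => Finset.sum_congr rfl fun y₂ _ => ?_
      rw [map_smul, h, smul_eq_mul]
      ring
    rw [LinearMap.sum_apply]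
    simp only [LinearMap.smul_apply, h1, smul_eq_mul]
    have h2 : ∀ x : E × E, be j i.1 x.1 * be j i.2 x.2 * (j x.1 ^ (l.1 : ℕ) * j x.2 ^ (l.2 : ℕ)) =
        (be j i.1 x.1 * j x.1 ^ (l.1 : ℕ)) * (be j i.2 x.2 * j x.2 ^ (l.2 : ℕ)) := by
      intro x; ring
    simp only [h2]
    have hb : ∀ (n : ℕ) (m : SS p (red (Fintype.card E) n)), (m : ℕ) ≤ Fintype.card E - 1 := by
      intro n m
      have h3 := (mem_SS.1 m.2).1
      have h4 := red_le hq n
      omega
    rw [Fintype.sum_prod_type]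
    dsimp only
    rw [← Finset.sum_mul_sum, sum_be j (hb _ _) (hb _ _), sum_be j (hb _ _) (hb _ _)]
    by_cases h5 : i = l
    · rw [if_pos h5, h5, if_pos rfl, if_pos rfl, mul_one]
    · rw [if_neg h5]
      by_cases h6 : i.1 = l.1
      · have h7 : (i.2 : ℕ) ≠ l.2 := fun h8 => h5 (Prod.ext h6 (Subtype.ext h8))
        rw [if_neg h7, mul_zero]
      · have h7 : (i.1 : ℕ) ≠ l.1 := fun h8 => h6 (Subtype.ext h8)
        rw [if_neg h7, zero_mul]

variable [FiniteDimensional k V]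

theorem block_le (f : E × E → Module.Dual k V) (v : E × E → V) {n₁ n₂ : ℕ}
    (h : ∀ x y, f x (v y) = j (1 + x.1 * y.1) ^ n₁ * j (1 + x.2 * y.2) ^ n₂) :
    Rk p (Fintype.card E) n₁ * Rk p (Fintype.card E) n₂ ≤ Module.finrank k V := by
  classical
  obtain ⟨G, W, -, -, hGW⟩ := block j p f v h
  have := le_of_biorth G W one_ne_zero hGW
  rwa [Fintype.card_prod, Fintype.card_coe, Fintype.card_coe] at this

/-- two blocks -/
theorem two_block_le (f f' : E × E → Module.Dual k V) (v v' : E × E → V) {n₁ n₂ n₁' n₂' : ℕ}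
    (h : ∀ x y, f x (v y) = j (1 + x.1 * y.1) ^ n₁ * j (1 + x.2 * y.2) ^ n₂)
    (h' : ∀ x y, f' x (v' y) = j (1 + x.1 * y.1) ^ n₁' * j (1 + x.2 * y.2) ^ n₂')
    (h1 : ∀ x y, f x (v' y) = 0) (h2 : ∀ x y, f' x (v y) = 0) :
    Rk p (Fintype.card E) n₁ * Rk p (Fintype.card E) n₂ +
      Rk p (Fintype.card E) n₁' * Rk p (Fintype.card E) n₂' ≤ Module.finrank k V := by
  classical
  obtain ⟨G, W, hG, hW, hGW⟩ := block j p f v h
  obtain ⟨G', W', hG', hW', hGW'⟩ := block j p f' v' h'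
  have key : ∀ {f : E × E → Module.Dual k V} {v : E × E → V} (_ : ∀ x y, f x (v y) = 0)
      {g : Module.Dual k V} (_ : g ∈ Submodule.span k (Set.range f)) {w : V}
      (_ : w ∈ Submodule.span k (Set.range v)), g w = 0 := by
    intro f v hfv g hg w hw
    induction hg using Submodule.span_induction with
    | mem g hg =>
      obtain ⟨x, rfl⟩ := hg
      induction hw using Submodule.span_induction with
      | mem w hw => obtain ⟨y, rfl⟩ := hw; exact hfv x y
      | zero => exact map_zero _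
      | add a b _ _ ha hb => rw [map_add, ha, hb, add_zero]
      | smul c a _ ha => rw [map_smul, ha, smul_zero]
    | zero => rfl
    | add a b _ _ ha hb => rw [LinearMap.add_apply, ha, hb, add_zero]
    | smul c a _ ha => rw [LinearMap.smul_apply, ha, smul_zero]
  have := le_of_biorth (Sum.elim G G') (Sum.elim W W') (one_ne_zero (α := k)) (by
    rintro (i | i) (l | l)
    · simp only [Sum.elim_inl, hGW, Sum.inl.injEq]
    · simp only [Sum.elim_inl, Sum.elim_inr, reduceCtorEq, if_false]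
      exact key h1 (hG i) (hW' l)
    · simp only [Sum.elim_inl, Sum.elim_inr, reduceCtorEq, if_false]
      exact key h2 (hG' i) (hW l)
    · simp only [Sum.elim_inr, hGW', Sum.inr.injEq])
  rwa [Fintype.card_sum, Fintype.card_prod, Fintype.card_prod, Fintype.card_coe, Fintype.card_coe,
    Fintype.card_coe, Fintype.card_coe] at this

end dual

end Cfsg.Agent.H909.Sp4Ker
end

-- part: H909/Sp4KerArith
section
/-!
# Arithmetic of the exponents for `Sp₄`, defining characteristic, dimension at most 12 (helper909)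
-/

set_option autoImplicit false
set_option linter.unusedSectionVars false

namespace Cfsg.Agent.H909.Sp4Ker

open Cfsg.Agent.H875.Fn

variable {p : ℕ} [hp : Fact p.Prime]

theorem card_SS_zero : (SS p 0).card = 1 := card_SS_lt hp.out.pos

theorem exists_of_card_le_three {c : ℕ} (hc : c ≠ 0) (h : (SS p c).card ≤ 3) :
    ∃ e t : ℕ, (e = 1 ∨ e = 2) ∧ e < p ∧ c = p ^ t * e ∧ (SS p c).card = e + 1 := by
  obtain ⟨t, e, x, he, hep, hcx⟩ := exists_digit (p := p) hc
  have h1 : p ^ t * e < p ^ (t + 1) := by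
    rw [pow_succ]
    exact Nat.mul_lt_mul_of_pos_left hep (pow_pos hp.out.pos t)
  have h2 : (SS p c).card = (e + 1) * (SS p x).card := by
    rw [hcx, card_SS_add h1 (Dvd.intro _ rfl), card_SS_digit hep, card_SS_pow_mul]
  by_cases hx : x = 0
  · rw [hx, card_SS_zero, mul_one] at h2
    refine ⟨e, t, by omega, hep, ?_, h2⟩
    rw [hcx, hx, mul_zero, add_zero]
  · have h3 := two_le_card_SS (p := p) hx
    have h4 : 2 * 2 ≤ (e + 1) * (SS p x).card := Nat.mul_le_mul (by omega) h3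
    omega

theorem card_pair {c d a b : ℕ} (hc : c < p) (hd : d < p) (hab : a ≠ b) :
    (SS p (p ^ a * c + p ^ b * d)).card = (c + 1) * (d + 1) := by
  have key : ∀ {c d a b : ℕ}, c < p → d < p → a < b →
      (SS p (p ^ a * c + p ^ b * d)).card = (c + 1) * (d + 1) := by
    intro c d a b hc hd hab
    have h1 : p ^ a * c < p ^ (a + 1) := by
      rw [pow_succ]
      exact Nat.mul_lt_mul_of_pos_left hc (pow_pos hp.out.pos a)
    have h2 : p ^ (a + 1) ∣ p ^ b * d := Dvd.dvd.mul_right (pow_dvd_pow p hab) d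
    rw [card_SS_add h1 h2, card_SS_digit hc, card_SS_digit hd]
  rcases lt_or_gt_of_ne hab with h | h
  · exact key hc hd h
  · rw [add_comm, key hd hc h, mul_comm]

theorem card_same {c d a : ℕ} (h : c + d < p) : (SS p (p ^ a * c + p ^ a * d)).card = c + d + 1 := by
  rw [← mul_add, card_SS_digit h]

theorem le_card_pred {n : ℕ} (hn : n ≠ 0) : p ≤ (SS p (p ^ n - 1)).card := by
  obtain ⟨m, rfl⟩ := Nat.exists_eq_succ_of_ne_zero hn
  have hp1 := hp.out.pos
  have h0 : 0 < p ^ m := pow_pos hp1 m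
  have h1 : p ^ (m + 1) - 1 = (p - 1) + p * (p ^ m - 1) := by
    rw [Nat.mul_sub, mul_one, pow_succ']
    have : p * 1 ≤ p * p ^ m := Nat.mul_le_mul_left p h0
    omega
  rw [Nat.succ_eq_add_one, h1, card_SS_add (t := 1) (by rw [pow_one]; omega)
    (by rw [pow_one]; exact Dvd.intro _ rfl), card_SS_lt (by omega)]
  have h3 := card_SS_pos (p := p) (p * (p ^ m - 1))
  have h4 : p - 1 + 1 = p := by omega
  rw [h4]
  exact Nat.le_mul_of_pos_right p h3

/-- bounds -/
theorem lt_of_pow_mul_le {n t e : ℕ} (he : e ≠ 0) (h : p ^ t * e ≤ p ^ n - 1) : t < n := by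
  have hp1 := hp.out.one_lt
  have h0 : 0 < p ^ n := pow_pos hp.out.pos n
  have h1 : p ^ t < p ^ n := by
    calc p ^ t ≤ p ^ t * e := Nat.le_mul_of_pos_right _ (by omega)
      _ < p ^ n := by omega
  exact (Nat.pow_lt_pow_iff_right hp1).1 h1

theorem sum_le {n a b c d : ℕ} (ha : a < n) (hb : b < n) (h : c + d < p) :
    p ^ a * c + p ^ b * d ≤ p ^ n - 1 := by
  obtain ⟨m, rfl⟩ := Nat.exists_eq_succ_of_ne_zero (show n ≠ 0 by omega)
  have h0 : 0 < p ^ m := pow_pos hp.out.pos m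
  have h1 : p ^ a ≤ p ^ m := Nat.pow_le_pow_right hp.out.pos (by omega)
  have h2 : p ^ b ≤ p ^ m := Nat.pow_le_pow_right hp.out.pos (by omega)
  have h3 : p ^ a * c + p ^ b * d ≤ p ^ m * (c + d) := by
    rw [mul_add]
    exact Nat.add_le_add (Nat.mul_le_mul_right c h1) (Nat.mul_le_mul_right d h2)
  have h4 : p ^ m * (c + d) ≤ p ^ m * (p - 1) := Nat.mul_le_mul_left _ (by omega)
  have h5 : p ^ m * (p - 1) + p ^ m = p ^ (m + 1) := by
    rw [pow_succ, ← Nat.mul_succ, Nat.succ_eq_add_one, Nat.sub_add_cancel hp.out.pos]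
  rw [Nat.succ_eq_add_one]
  omega

theorem Rk_eq {q c : ℕ} (h : c ≤ q - 1) : Rk p q c = (SS p c).card := by rw [Rk, red_eq h]

theorem two_le_Rk {q c : ℕ} (h : c ≠ 0) : 2 ≤ Rk p q c := two_le_card_SS (red_ne_zero h)

/-- **The exponents for `p ≥ 5`.** -/
theorem eq_pow_pow (h5 : 5 ≤ p) {n c₁ c₂ : ℕ} (h₁ : c₁ ≤ p ^ n - 1) (h₂ : c₂ ≤ p ^ n - 1)
    (h₁0 : c₁ ≠ 0) (h₂0 : c₂ ≠ 0)
    (hA : 2 * (Rk p (p ^ n) (c₁ + c₂) * Rk p (p ^ n) c₂) ≤ 12)
    (hB : Rk p (p ^ n) c₁ * Rk p (p ^ n) (c₁ + 2 * c₂) ≤ 12) :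
    ∃ m, c₁ = p ^ m ∧ c₂ = p ^ m := by
  have hn : n ≠ 0 := by
    rintro rfl
    rw [pow_zero] at h₁
    omega
  rw [Rk_eq h₂] at hA
  rw [Rk_eq h₁] at hB
  have hs2 := two_le_card_SS (p := p) h₂0
  have hs1 := two_le_card_SS (p := p) h₁0
  have hs12 : 2 ≤ Rk p (p ^ n) (c₁ + c₂) := two_le_Rk (by omega)
  have hx0 : red (p ^ n) (c₁ + c₂) ≠ 0 := red_ne_zero (by omega)
  have h2q : 2 ≤ p ^ n := (show 2 ≤ p by omega).trans (Nat.le_self_pow hn p)
  obtain ⟨e₂, m, he₂, he₂p, hc₂, hs2'⟩ := exists_of_card_le_three (p := p) h₂0 (by nlinarith only [hA, hs12])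
  have hx : ∃ x, x = red (p ^ n) (c₁ + c₂) := ⟨_, rfl⟩
  obtain ⟨x, hx⟩ := hx
  have hR : Rk p (p ^ n) (c₁ + c₂) = (SS p x).card := by rw [Rk, hx]
  rw [hR] at hA hs12
  obtain ⟨e, l, he, hep, hxe, hsx⟩ := exists_of_card_le_three (p := p) (hx ▸ hx0) (by nlinarith only [hs2, hA])
  have hm : m < n := lt_of_pow_mul_le (by omega) (hc₂ ▸ h₂)
  have hxq : x ≤ p ^ n - 1 := hx ▸ red_le h2q _
  have hl : l < n := lt_of_pow_mul_le (by omega) (hxe ▸ hxq)
  have hR2 : Rk p (p ^ n) (c₁ + 2 * c₂) = (SS p (x + c₂)).card := by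
    rw [Rk, show c₁ + 2 * c₂ = (c₁ + c₂) + c₂ by ring, red_add (by (clear * - h₂0; omega)), ← hx, red_eq]
    rw [hxe, hc₂]
    exact sum_le hl hm (by omega)
  rw [hR2] at hB
  have hnot : ¬ (e = 2 ∧ e₂ = 2) := by
    rintro ⟨rfl, rfl⟩
    rw [hsx, hs2'] at hA
    omega
  -- `|SS c₁| ≤ 3`
  have hs1' : (SS p c₁).card ≤ 3 := by
    by_cases hlm : l = m
    · subst hlm
      have h3 : (SS p (x + c₂)).card = e + e₂ + 1 := by
        rw [hxe, hc₂]; exact card_same (by (clear * - h5 he₂ he; omega))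
      by_cases h4 : e = 1 ∧ e₂ = 1
      · -- `c₁ = q - 1`
        exfalso
        obtain ⟨rfl, rfl⟩ := h4
        have h6 : c₁ + c₂ ≡ 0 + c₂ [MOD p ^ n - 1] := by
          have h7 := red_modEq (p ^ n) (c₁ + c₂)
          rw [← hx, hxe, ← hc₂] at h7
          rw [zero_add]
          exact h7.symm
        have h8 : c₁ ≡ 0 [MOD p ^ n - 1] := Nat.ModEq.add_right_cancel' _ h6
        have h9 : p ^ n - 1 ∣ c₁ := (Nat.modEq_zero_iff_dvd).1 h8
        have h10 : c₁ = p ^ n - 1 := le_antisymm h₁ (Nat.le_of_dvd (by omega) h9)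
        have h11 := le_card_pred (p := p) hn
        rw [← h10] at h11
        rw [h3] at hB
        linarith only [h5, hB, h11]
      · have h5' : 4 ≤ (SS p (x + c₂)).card := by omega
        nlinarith only [hB, h5']
    · have h3 : (SS p (x + c₂)).card = (e + 1) * (e₂ + 1) := by
        rw [hxe, hc₂]; exact card_pair hep he₂p hlm
      have h5' : 2 * 2 ≤ (e + 1) * (e₂ + 1) := Nat.mul_le_mul (by omega) (by omega)
      rw [h3] at hB
      nlinarith only [hB, h5']
  obtain ⟨e₁, a, he₁, he₁p, hc₁, hs1''⟩ := exists_of_card_le_three (p := p) h₁0 hs1'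
  have ha : a < n := lt_of_pow_mul_le (by omega) (hc₁ ▸ h₁)
  have hx2 : x = c₁ + c₂ := by
    rw [hx, red_eq]
    rw [hc₁, hc₂]
    exact sum_le ha hm (by (clear * - h5 he₂ he₁; omega))
  by_cases ham : a = m
  · subst ham
    have h3 : (SS p x).card = e₁ + e₂ + 1 := by
      rw [hx2, hc₁, hc₂]; exact card_same (by (clear * - h5 he₂ he₁; omega))
    have h4 : e₁ = 1 ∧ e₂ = 1 := by (clear * - hs2 hs1 hs2' he hsx hs1'' h3; omega)
    exact ⟨a, by rw [hc₁, h4.1, mul_one], by rw [hc₂, h4.2, mul_one]⟩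
  · exfalso
    have h3 : (SS p x).card = (e₁ + 1) * (e₂ + 1) := by
      rw [hx2, hc₁, hc₂]; exact card_pair he₁p he₂p ham
    have h4 : 2 * 2 ≤ (e₁ + 1) * (e₂ + 1) := Nat.mul_le_mul (by omega) (by omega)
    (clear * - he hsx h3 h4; omega)

end Cfsg.Agent.H909.Sp4Ker
end

private theorem dce_eeed74afa067 : _root_.True := by
  try have : _root_.True := by simp only [_root_.Cfsg.Agent.H909.Sp4Ker.Rk.eq_1]
  try have : _root_.True := by simp only [_root_.Cfsg.Agent.H909.Sp4Ker.red.eq_1]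
  exact _root_.True.intro
end

-- part: H905/Sp4Final
section
prune_inst 0x200000000000000000400000000000040000004000000800000000000000000000000000000000000000000000000000000000000000000000000000000000000000000000000000000000000000000000000000000000000
set_option linter.all false
open scoped Cfsg.Agent.FastGrp

-- part: H905/Sp4Pair
section
/-!
# Isotropic pairs and the group `Sp_4(K)` (helper905)

* `exists_iso` : an isotropic pair is the image of `(e0, e1)`;
* **`exists_kernel`** : a simple module in defining characteristic has functionals `φ r` and vectors `v s` with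
  `φ r (v s) = j (D1 r s) ^ c₁ * j (D2 r s) ^ c₂`.
-/

set_option autoImplicit false
set_option linter.unusedSectionVars false
set_option linter.style.haveILetI false

namespace Cfsg.Agent.H905.Sp4

open CoxeterSystem Cfsg.Agent.ChevalleyStructure.CoxeterGeom Cfsg.Agent.Tits.Roots Cfsg.Agent.Nodes.TypeC
open Cfsg.Agent.Nodes.Comb Cfsg.Agent.Nodes.Reps Cfsg.Agent.Nodes.WittRoot Cfsg.Agent.Nodes.BNOf
open Cfsg.Agent.Nodes.WittRGD Cfsg.Agent.Nodes.RGDLib Cfsg.Agent.Nodes.OppDec Cfsg.Agent.Nodes.WittAll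
open Cfsg.Agent.Nodes.Bruhat Cfsg.Agent.Omega.CR Cfsg.Agent.Omega.FOne.Lift.Sd Cfsg.Agent.Nodes.StabComb
open Cfsg.Agent.Tits.Core Cfsg.Agent.Tits.Exchange Cfsg.Agent.H905.Md Cfsg.Agent.KFacts.RgdOpp
open Cfsg.Agent.TitsThree Cfsg.Agent.TitsThree.Siegel Cfsg.Agent.TitsThree.WittFrame
  Cfsg.Agent.TitsThree.FrameCN Cfsg.Agent.TitsThree.SpIdent Cfsg.Agent.TitsThree.SpGen
open Cfsg.Agent.H62.SpCross Cfsg.Agent.H62.FrameSL
open scoped MatrixGroups

universe u

section Witt

variable {K : Type u} [Field K]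

theorem h_self (v : V4 K) : (_root_.Cfsg.Agent.TitsThree.SpIdent.form 2 K).h v v = 0 := by rw [h_eq]; ring

theorem h_swap (v w : V4 K) : (_root_.Cfsg.Agent.TitsThree.SpIdent.form 2 K).h v w = -(_root_.Cfsg.Agent.TitsThree.SpIdent.form 2 K).h w v := by rw [h_eq, h_eq]; ring

/-- the dual vectors -/
def du (i : Fin 2 ⊕ Fin 2) : V4 K := match i with
  | .inr m => Pi.single (.inl m) 1
  | .inl m => -Pi.single (.inr m) 1

theorem h_du (v : V4 K) (i : Fin 2 ⊕ Fin 2) : (_root_.Cfsg.Agent.TitsThree.SpIdent.form 2 K).h v (du i) = v i := by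
  rw [h_eq]
  rcases i with i | i
  · (revert i; simp only [du, _root_.Fin.forall_fin_succ, Fin.isValue, _root_.Pi.neg_apply, _root_.ne_eq, reduceCtorEq, _root_.not_false_eq_true, _root_.Pi.single_eq_of_ne, _root_.neg_zero, _root_.MulZeroClass.mul_zero, _root_.mul_neg, _root_.sub_neg_eq_add, _root_.zero_add, _root_.Pi.single_eq_same, _root_.mul_one, _root_.Sum.inr.injEq, _root_.one_ne_zero, _root_.add_zero, _root_.Fin.succ_ne_zero, _root_.Pi.single_eq_of_ne', _root_.Fin.succ_zero_eq_one, _root_.IsEmpty.forall_iff, _root_.and_self])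
  · fin_cases i <;> simp [du]

theorem exists_minor {A B : V4 K} (h : LinearIndependent K ![A, B]) : ∃ i l, A i * B l - A l * B i ≠ 0 := by
  rw [LinearIndependent.pair_iff] at h
  by_contra hcon
  push Not at hcon
  have hA : A ≠ 0 := by
    rintro rfl
    have := (h 1 0 (by simp)).1
    exact one_ne_zero this
  obtain ⟨i, hi⟩ : ∃ i, A i ≠ 0 := by
    by_contra h0
    push Not at h0
    exact hA (funext h0)
  have h1 := (h (-(B i)) (A i) (by
    funext l
    have := hcon i l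
    simp only [Pi.add_apply, Pi.smul_apply, smul_eq_mul, Pi.zero_apply]
    linear_combination this)).2
  exact hi h1

theorem exists_dual {A B : V4 K} (h : LinearIndependent K ![A, B]) (hAB : (_root_.Cfsg.Agent.TitsThree.SpIdent.form 2 K).h A B = 0) : ∃ C D : V4 K, (_root_.Cfsg.Agent.TitsThree.SpIdent.form 2 K).h A C = 1 ∧
    (_root_.Cfsg.Agent.TitsThree.SpIdent.form 2 K).h B C = 0 ∧ (_root_.Cfsg.Agent.TitsThree.SpIdent.form 2 K).h A D = 0 ∧ (_root_.Cfsg.Agent.TitsThree.SpIdent.form 2 K).h B D = 1 ∧ (_root_.Cfsg.Agent.TitsThree.SpIdent.form 2 K).h C D = 0 := by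
  obtain ⟨i, l, hd⟩ := exists_minor h
  set d := A i * B l - A l * B i with hdd
  obtain ⟨C, hC⟩ : ∃ C : V4 K, C = d⁻¹ • (B l • du i - B i • du l) := ⟨_, rfl⟩
  obtain ⟨E, hE⟩ : ∃ E : V4 K, E = d⁻¹ • (A i • du l - A l • du i) := ⟨_, rfl⟩
  have e : ∀ (v : V4 K) (x y : K) (a b : V4 K), (_root_.Cfsg.Agent.TitsThree.SpIdent.form 2 K).h v (d⁻¹ • (x • a - y • b)) =
      d⁻¹ * (x * (_root_.Cfsg.Agent.TitsThree.SpIdent.form 2 K).h v a - y * (_root_.Cfsg.Agent.TitsThree.SpIdent.form 2 K).h v b) := by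
    intro v x y a b
    rw [h_eq, h_eq, h_eq]
    simp only [Pi.smul_apply, Pi.sub_apply, smul_eq_mul]
    ring
  have h1 : (_root_.Cfsg.Agent.TitsThree.SpIdent.form 2 K).h A C = 1 := by
    rw [hC, e, h_du, h_du, hdd]
    rw [hdd] at hd
    field_simp
  have h2 : (_root_.Cfsg.Agent.TitsThree.SpIdent.form 2 K).h B C = 0 := by
    rw [hC, e, h_du, h_du]
    ring
  have h3 : (_root_.Cfsg.Agent.TitsThree.SpIdent.form 2 K).h A E = 0 := by
    rw [hE, e, h_du, h_du]
    ring
  have h4 : (_root_.Cfsg.Agent.TitsThree.SpIdent.form 2 K).h B E = 1 := by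
    rw [hE, e, h_du, h_du, hdd]
    rw [hdd] at hd
    field_simp
  refine ⟨C, E + (_root_.Cfsg.Agent.TitsThree.SpIdent.form 2 K).h C E • A, h1, h2, ?_, ?_, ?_⟩
  · rw [(_root_.Cfsg.Agent.TitsThree.SpIdent.form 2 K).add_right, (_root_.Cfsg.Agent.TitsThree.SpIdent.form 2 K).smul_right, h3, h_self]
    ring
  · rw [(_root_.Cfsg.Agent.TitsThree.SpIdent.form 2 K).add_right, (_root_.Cfsg.Agent.TitsThree.SpIdent.form 2 K).smul_right, h4, h_swap B A, hAB]
    simp
  · rw [(_root_.Cfsg.Agent.TitsThree.SpIdent.form 2 K).add_right, (_root_.Cfsg.Agent.TitsThree.SpIdent.form 2 K).smul_right, h_swap C A, h1, form_σ]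
    ring

/-- the linear map with given images of the basis -/
def lin4 (A B C D : V4 K) : V4 K →ₗ[K] V4 K where
  toFun v := v (.inr 0) • A + v (.inr 1) • B + v (.inl 0) • C + v (.inl 1) • D
  map_add' v w := by simp only [Pi.add_apply]; module
  map_smul' a v := by simp only [Pi.smul_apply, smul_eq_mul, RingHom.id_apply]; module

theorem lin4_apply (A B C D v : V4 K) :
    lin4 A B C D v = v (.inr 0) • A + v (.inr 1) • B + v (.inl 0) • C + v (.inl 1) • D := rfl

/-- **isotropic pairs are conjugate** -/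
theorem exists_iso {A B : V4 K} (h : LinearIndependent K ![A, B]) (hAB : (_root_.Cfsg.Agent.TitsThree.SpIdent.form 2 K).h A B = 0) :
    ∃ g : isos (_root_.Cfsg.Agent.TitsThree.SpIdent.form 2 K), g.1 (Pi.single (.inr 0) 1) = A ∧ g.1 (Pi.single (.inr 1) 1) = B := by
  obtain ⟨C, D, h1, h2, h3, h4, h5⟩ := exists_dual h hAB
  have hiso : ∀ v w, (_root_.Cfsg.Agent.TitsThree.SpIdent.form 2 K).h (lin4 A B C D v) (lin4 A B C D w) = (_root_.Cfsg.Agent.TitsThree.SpIdent.form 2 K).h v w := by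
    intro v w
    have hBA : (_root_.Cfsg.Agent.TitsThree.SpIdent.form 2 K).h B A = 0 := by rw [h_swap, hAB, neg_zero]
    have hCA : (_root_.Cfsg.Agent.TitsThree.SpIdent.form 2 K).h C A = -1 := by rw [h_swap, h1]
    have hCB : (_root_.Cfsg.Agent.TitsThree.SpIdent.form 2 K).h C B = 0 := by rw [h_swap, h2, neg_zero]
    have hDA : (_root_.Cfsg.Agent.TitsThree.SpIdent.form 2 K).h D A = 0 := by rw [h_swap, h3, neg_zero]
    have hDB : (_root_.Cfsg.Agent.TitsThree.SpIdent.form 2 K).h D B = -1 := by rw [h_swap, h4]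
    have hDC : (_root_.Cfsg.Agent.TitsThree.SpIdent.form 2 K).h D C = 0 := by rw [h_swap, h5, neg_zero]
    rw [lin4_apply, lin4_apply]
    simp only [(_root_.Cfsg.Agent.TitsThree.SpIdent.form 2 K).add_left, (_root_.Cfsg.Agent.TitsThree.SpIdent.form 2 K).smul_left, (_root_.Cfsg.Agent.TitsThree.SpIdent.form 2 K).add_right, (_root_.Cfsg.Agent.TitsThree.SpIdent.form 2 K).smul_right, form_σ,
      h1, h2, h3, h4, h5, hAB, hBA, hCA, hCB, hDA, hDB, hDC, h_self]
    rw [h_eq]
    ring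
  have hinj : Function.Injective (lin4 A B C D) := by
    rw [injective_iff_map_eq_zero]
    intro v hv
    funext i
    rw [← h_du v i, ← hiso, hv]
    change _ = (0 : K)
    rw [h_eq]
    simp
  refine ⟨⟨LinearEquiv.ofInjectiveEndo (lin4 A B C D) hinj, fun v w => ?_⟩, ?_, ?_⟩
  · exact hiso v w
  · change lin4 A B C D _ = A
    rw [lin4_apply]
    simp
  · change lin4 A B C D _ = B
    rw [lin4_apply]
    simp

/-- the quarter turn `f_i ↦ e_i`, `e_i ↦ -f_i` -/
theorem exists_turn : ∃ g : isos (_root_.Cfsg.Agent.TitsThree.SpIdent.form 2 K), ∀ i : Fin 2, g.1 (Pi.single (.inl i) 1) = Pi.single (.inr i) 1 := by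
  obtain ⟨g, h1, h2⟩ := exists_iso (K := K) (A := Pi.single (.inl 0) 1) (B := Pi.single (.inl 1) 1) (by
    rw [LinearIndependent.pair_iff]
    intro s t h
    have e0 := congrFun h (.inl 0)
    have e1 := congrFun h (.inl 1)
    simp at e0 e1
    exact ⟨e0, e1⟩) (by
    rw [h_eq]; simp)
  refine ⟨g⁻¹, fun i => ?_⟩
  have h3 : ∀ v w, g.1 v = w → (g⁻¹).1 w = v := by
    rintro v _ rfl
    exact g.1.symm_apply_apply v
  fin_cases i
  · exact h3 _ _ h1
  · exact h3 _ _ h2

/-- the column vector -/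
def colV (a : Fin 4 → K) : V4 K := Sum.elim ![a 3, a 2] ![a 0, a 1]

/-- the row vector -/
def rowV (a : Fin 4 → K) : V4 K := Sum.elim ![a 0, a 1] ![-a 3, -a 2]

theorem h_col (a b : Fin 4 → K) : (_root_.Cfsg.Agent.TitsThree.SpIdent.form 2 K).h (colV a) (colV b) = om a b := by
  rw [h_eq]
  simp only [colV, om, _root_.Cfsg.Agent.H905.Sp4.colV, _root_.Fin.isValue, _root_.Sum.elim_inr, _root_.Matrix.cons_val_zero, _root_.Sum.elim_inl, _root_.Matrix.cons_val_one, _root_.Matrix.cons_val_fin_one, _root_.Cfsg.Agent.H905.Sp4.om]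
  ring

theorem h_row (a b : Fin 4 → K) : (_root_.Cfsg.Agent.TitsThree.SpIdent.form 2 K).h (rowV a) (rowV b) = om a b := by
  rw [h_eq]
  simp only [rowV, om, _root_.Cfsg.Agent.H905.Sp4.rowV, _root_.Fin.isValue, _root_.Sum.elim_inr, _root_.Matrix.cons_val_zero, _root_.Sum.elim_inl, _root_.neg_mul, _root_.mul_neg, _root_.sub_neg_eq_add, _root_.Matrix.cons_val_one, _root_.Matrix.cons_val_fin_one, _root_.Cfsg.Agent.H905.Sp4.om]
  ring

theorem h_col_row (a b : Fin 4 → K) : (_root_.Cfsg.Agent.TitsThree.SpIdent.form 2 K).h (colV a) (rowV b) = ∑ i, b i * a i := by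
  rw [h_eq, Fin.sum_univ_four]
  simp only [rowV, colV, _root_.Cfsg.Agent.H905.Sp4.colV, _root_.Fin.isValue, _root_.Sum.elim_inr, _root_.Matrix.cons_val_zero, _root_.Cfsg.Agent.H905.Sp4.rowV, _root_.Sum.elim_inl, _root_.mul_neg, _root_.sub_neg_eq_add, _root_.Matrix.cons_val_one, _root_.Matrix.cons_val_fin_one]
  ring

theorem ind_col {a b : Fin 4 → K} (h : LinearIndependent K ![a, b]) : LinearIndependent K ![colV a, colV b] := by
  rw [LinearIndependent.pair_iff] at h ⊢
  intro s t e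
  apply h s t
  have e0 := congrFun e (.inl 0)
  have e1 := congrFun e (.inl 1)
  have e2 := congrFun e (.inr 0)
  have e3 := congrFun e (.inr 1)
  simp only [colV, _root_.Cfsg.Agent.H905.Sp4.colV, _root_.Fin.isValue, _root_.Pi.add_apply, _root_.Pi.smul_apply, _root_.Sum.elim_inl, _root_.Matrix.cons_val_zero, _root_.smul_eq_mul, _root_.Pi.zero_apply, _root_.Matrix.cons_val_one, _root_.Matrix.cons_val_fin_one, _root_.Sum.elim_inr] at e0 e1 e2 e3
  funext i
  fin_cases i
  · simpa only [_root_.Fin.zero_eta, _root_.Fin.isValue, _root_.Pi.add_apply, _root_.Pi.smul_apply, _root_.smul_eq_mul, _root_.Pi.zero_apply] using e2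
  · simpa only [_root_.Fin.mk_one, _root_.Fin.isValue, _root_.Pi.add_apply, _root_.Pi.smul_apply, _root_.smul_eq_mul, _root_.Pi.zero_apply] using e3
  · simpa only [_root_.Fin.reduceFinMk, _root_.Pi.add_apply, _root_.Fin.isValue, _root_.Pi.smul_apply, _root_.smul_eq_mul, _root_.Pi.zero_apply] using e1
  · simpa only [_root_.Fin.reduceFinMk, _root_.Pi.add_apply, _root_.Fin.isValue, _root_.Pi.smul_apply, _root_.smul_eq_mul, _root_.Pi.zero_apply] using e0

theorem ind_row {a b : Fin 4 → K} (h : LinearIndependent K ![a, b]) : LinearIndependent K ![rowV a, rowV b] := by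
  rw [LinearIndependent.pair_iff] at h ⊢
  intro s t e
  apply h s t
  have e0 := congrFun e (.inl 0)
  have e1 := congrFun e (.inl 1)
  have e2 := congrFun e (.inr 0)
  have e3 := congrFun e (.inr 1)
  simp only [rowV, _root_.Cfsg.Agent.H905.Sp4.rowV, _root_.Fin.isValue, _root_.Pi.add_apply, _root_.Pi.smul_apply, _root_.Sum.elim_inl, _root_.Matrix.cons_val_zero, _root_.smul_eq_mul, _root_.Pi.zero_apply, _root_.Matrix.cons_val_one, _root_.Matrix.cons_val_fin_one, _root_.Sum.elim_inr, _root_.mul_neg] at e0 e1 e2 e3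
  funext i
  fin_cases i
  · simpa only [_root_.Fin.zero_eta, _root_.Fin.isValue, _root_.Pi.add_apply, _root_.Pi.smul_apply, _root_.smul_eq_mul, _root_.Pi.zero_apply] using e0
  · simpa only [_root_.Fin.mk_one, _root_.Fin.isValue, _root_.Pi.add_apply, _root_.Pi.smul_apply, _root_.smul_eq_mul, _root_.Pi.zero_apply] using e1
  · change s * a 2 + t * b 2 = 0
    linear_combination -e3
  · change s * a 3 + t * b 3 = 0
    linear_combination -e2

end Witt


section Kern

variable {K : Type u} [Field K]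

theorem exists_col (s : IsoPair K) : ∃ g : isos (_root_.Cfsg.Agent.TitsThree.SpIdent.form 2 K),
    g.1 (Pi.single (.inr 0) 1) = colV s.a ∧ g.1 (Pi.single (.inr 1) 1) = colV s.b :=
  exists_iso (ind_col s.ind) (by rw [h_col, s.iso])

theorem exists_row (r : IsoPair K) : ∃ g : isos (_root_.Cfsg.Agent.TitsThree.SpIdent.form 2 K),
    (g⁻¹).1 (Pi.single (.inl 0) 1) = rowV r.a ∧ (g⁻¹).1 (Pi.single (.inl 1) 1) = rowV r.b := by
  obtain ⟨g, h1, h2⟩ := exists_iso (ind_row r.ind) (by rw [h_row, r.iso])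
  obtain ⟨w, hw⟩ := exists_turn (K := K)
  refine ⟨(g * w)⁻¹, ?_, ?_⟩
  · rw [inv_inv]
    change g.1 (w.1 _) = _
    rw [hw, h1]
  · rw [inv_inv]
    change g.1 (w.1 _) = _
    rw [hw, h2]

theorem h_inv (g : isos (_root_.Cfsg.Agent.TitsThree.SpIdent.form 2 K)) (v w : V4 K) : (_root_.Cfsg.Agent.TitsThree.SpIdent.form 2 K).h (g.1 v) w = (_root_.Cfsg.Agent.TitsThree.SpIdent.form 2 K).h v ((g⁻¹).1 w) := by
  rw [← g.2 v ((g⁻¹).1 w)]
  congr 1
  exact (g.1.apply_symm_apply w).symm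

/-- the row element -/
noncomputable def gr (r : IsoPair K) : isos (_root_.Cfsg.Agent.TitsThree.SpIdent.form 2 K) := (exists_row r).choose

/-- the column element -/
noncomputable def gc (s : IsoPair K) : isos (_root_.Cfsg.Agent.TitsThree.SpIdent.form 2 K) := (exists_col s).choose

theorem F1_pair (r s : IsoPair K) : F1 (gr r * gc s).1 = D1 r s := by
  obtain ⟨h1, h2⟩ := (exists_row r).choose_spec
  obtain ⟨h3, h4⟩ := (exists_col s).choose_spec
  unfold F1
  change (gr r).1 ((gc s).1 _) _ = _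
  rw [coord_inr ((gr r).1 _) 0, h_inv]
  change (_root_.Cfsg.Agent.TitsThree.SpIdent.form 2 K).h ((exists_col s).choose.1 _) (((exists_row r).choose⁻¹).1 _) = _
  rw [h1, h3, h_col_row]
  rfl

theorem F2_pair (r s : IsoPair K) : F2 (gr r * gc s).1 = D2 r s := by
  obtain ⟨h1, h2⟩ := (exists_row r).choose_spec
  obtain ⟨h3, h4⟩ := (exists_col s).choose_spec
  have key : ∀ (v : V4 K) (i : Fin 2), (gr r).1 v (.inr i) = (_root_.Cfsg.Agent.TitsThree.SpIdent.form 2 K).h v (((gr r)⁻¹).1 (Pi.single (.inl i) 1)) := by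
    intro v i
    rw [coord_inr ((gr r).1 v) i, h_inv]
  have h3' : (gc s).1 (Pi.single (.inr 0) 1) = colV s.a := h3
  have h4' : (gc s).1 (Pi.single (.inr 1) 1) = colV s.b := h4
  have h1' : ((gr r)⁻¹).1 (Pi.single (.inl 0) 1) = rowV r.a := h1
  have h2' : ((gr r)⁻¹).1 (Pi.single (.inl 1) 1) = rowV r.b := h2
  unfold F2
  change (gr r).1 ((gc s).1 _) _ * (gr r).1 ((gc s).1 _) _ - (gr r).1 ((gc s).1 _) _ * (gr r).1 ((gc s).1 _) _ = _
  rw [key, key, key, key, h1', h2', h3', h4', h_col_row, h_col_row, h_col_row, h_col_row]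
  unfold D2
  simp only [dotProduct]
  ring

end Kern

section Coef

variable {K : Type u} [Field K] [Finite K] {W : Type*} [Group W] (cs : CoxeterSystem (CoxeterMatrix.B 2) W)
  {k V : Type*} [Field k] [AddCommGroup V] [Module k V] [FiniteDimensional k V]
  {ρ : isos (_root_.Cfsg.Agent.TitsThree.SpIdent.form 2 K) →* Module.End k V}

/-- **The matrix coefficient of a simple module in defining characteristic.** -/
theorem exists_coef (p : ℕ) [Fact p.Prime] [CharP K p] [CharP k p] [IsAlgClosed k]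
    (hirr : ∀ L : Submodule k V, Ivt ρ ⊤ L → L = ⊥ ∨ L = ⊤) (h2 : 2 ≤ Module.finrank k V) (j : K →+* k) :
    ∃ (c₁ c₂ : ℕ) (c : V) (φ : Module.Dual k V), c₁ ≤ Nat.card K - 1 ∧ c₂ ≤ Nat.card K - 1 ∧ ¬ (c₁ = 0 ∧ c₂ = 0) ∧
      c ∈ D cs (isCartan 2) (X4 K) ρ ∧ φ ∈ fx ((dualRep ρ :)) (UN cs (isCartan 2) (X4 K)) ∧ φ c = 1 ∧
      (∀ t ∈ T4 K, ρ t c = (j (F1 t.1) ^ c₁ * j (F2 t.1) ^ c₂) • c) ∧
      ∀ y : isos (_root_.Cfsg.Agent.TitsThree.SpIdent.form 2 K), φ (ρ y c) = j (F1 y.1) ^ c₁ * j (F2 y.1) ^ c₂ := by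
  haveI := finite_isos (m := 2) (F := K)
  haveI : Finite W := finite_W cs
  haveI : Nontrivial V := Module.nontrivial_of_finrank_pos (R := k) (by omega)
  have hirr' : ∀ L : Submodule k V, Ivt ρ (GG cs (isCartan 2) (T4 K) (X4 K)) L → L = ⊥ ∨ L = ⊤ := by
    rw [GG4]; exact hirr
  have R := R4 (K := K) (p := p) cs
  obtain ⟨c, hc, hc0, χ, hχ⟩ := exists_chi R hirr' (modelT_comm (ambT K p) (Or.inl rfl))
  obtain ⟨φ, hφ, hφ0⟩ := exists_pair_D R hirr' hc hc0
  obtain ⟨c₁, c₂, h3, h4, h5, h6, h7⟩ := exists_weight cs hc hc0 hχ j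
  have hm := master cs hirr' hc hc0 hχ p h5 h6 h7 hφ
  refine ⟨c₁, c₂, c, (φ c)⁻¹ • φ, h3, h4, ?_, hc, Submodule.smul_mem _ _ hφ, ?_, ?_, ?_⟩
  · rintro ⟨rfl, rfl⟩
    have h8 : ∀ y : isos (_root_.Cfsg.Agent.TitsThree.SpIdent.form 2 K), φ (ρ y c) = φ c := by
      intro y
      rw [hm, pow_zero, pow_zero, mul_one, mul_one]
    have h9 : ∀ y : isos (_root_.Cfsg.Agent.TitsThree.SpIdent.form 2 K), ρ y c = c := by
      intro y
      have h10 := eq_zero_of_coeff (G := ⊤) hirr (φ := φ) (fun e => hφ0 (by rw [e]; rfl)) (v := ρ y c - c)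
        (fun g _ => by rw [map_sub, map_sub, ← rho_mul, h8, h8, sub_self])
      exact sub_eq_zero.1 h10
    have h10 := span_translates (G := ⊤) hirr hc0
    have h11 : Submodule.span k (Set.range fun g : (⊤ : Subgroup (isos (_root_.Cfsg.Agent.TitsThree.SpIdent.form 2 K))) => ρ g.1 c) ≤
        Submodule.span k {c} := by
      rw [Submodule.span_le]
      rintro _ ⟨g, rfl⟩
      change ρ g.1 c ∈ Submodule.span k {c}
      rw [h9]
      exact Submodule.mem_span_singleton_self c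
    rw [h10, top_le_iff] at h11
    have h12 := finrank_span_singleton (K := k) hc0
    rw [h11, finrank_top] at h12
    omega
  · rw [LinearMap.smul_apply, smul_eq_mul, inv_mul_cancel₀ hφ0]
  · intro t ht
    rw [hχ t ht, h7 t ht]
  · intro y
    rw [LinearMap.smul_apply, hm, smul_eq_mul, ← mul_assoc, inv_mul_cancel₀ hφ0, one_mul]

end Coef

end Cfsg.Agent.H905.Sp4
end

-- part: H909/Sp4KerBlocks
section
/-!
# Blocks of the kernel of the modules of `Sp₄(K)` (helper909)
-/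

set_option autoImplicit false
set_option linter.unusedSectionVars false

namespace Cfsg.Agent.H909.Sp4Ker

open Cfsg.Agent.H875.Fn Cfsg.Agent.H905.Sp4 Matrix

universe u v w

section pairs

variable {K : Type u} [Field K]

theorem ind_of {a b : Fin 4 → K} (i l : Fin 4) (h : a i * b l - a l * b i ≠ 0) :
    LinearIndependent K ![a, b] := by
  rw [LinearIndependent.pair_iff]
  intro s t hst
  have h1 : s * a i + t * b i = 0 := congrFun hst i
  have h2 : s * a l + t * b l = 0 := congrFun hst l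
  constructor
  · have h3 : s * (a i * b l - a l * b i) = 0 := by
      linear_combination b l * h1 - b i * h2
    exact (mul_eq_zero.1 h3).resolve_right h
  · have h3 : t * (a i * b l - a l * b i) = 0 := by
      linear_combination a i * h2 - a l * h1
    exact (mul_eq_zero.1 h3).resolve_right h

/-- family (A) -/
def rA (x : K × K) : IsoPair K where
  a := ![1, 0, 0, x.1]
  b := ![0, 1, x.2, 0]
  iso := by simp [om]
  ind := ind_of 0 1 (by simp)

/-- family (A), exchanged -/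
def rA' (x : K × K) : IsoPair K where
  a := ![0, 1, x.2, 0]
  b := ![1, 0, 0, x.1]
  iso := by simp [om]
  ind := ind_of 0 1 (by simp)

/-- family (B) -/
def rB (x : K × K) : IsoPair K where
  a := ![1, x.1, x.2, x.1 * x.2]
  b := ![0, 1, 0, x.2]
  iso := by simp [om]
  ind := ind_of 0 1 (by simp)

theorem dot4 (x y : Fin 4 → K) : x ⬝ᵥ y = x 0 * y 0 + x 1 * y 1 + x 2 * y 2 + x 3 * y 3 := by
  rw [dotProduct, Fin.sum_univ_four]

theorem D1_AA (x y : K × K) : D1 (rA x) (rA y) = 1 + x.1 * y.1 := by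
  simp [D1, rA, dot4]

theorem D2_AA (x y : K × K) : D2 (rA x) (rA y) = (1 + x.1 * y.1) * (1 + x.2 * y.2) := by
  simp only [D2, rA, dot4, _root_.Cfsg.Agent.H905.Sp4.D2, _root_.Cfsg.Agent.H909.Sp4Ker.rA, _root_.Matrix.dotProduct_cons, _root_.Matrix.head_cons, _root_.mul_one, _root_.Matrix.tail_cons, _root_.MulZeroClass.mul_zero, _root_.Matrix.dotProduct_of_isEmpty, _root_.add_zero, _root_.zero_add, _root_.MulZeroClass.zero_mul, _root_.sub_zero]

theorem D1_A'A' (x y : K × K) : D1 (rA' x) (rA' y) = 1 + x.2 * y.2 := by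
  simp [D1, rA', dot4]

theorem D2_A'A' (x y : K × K) : D2 (rA' x) (rA' y) = (1 + x.2 * y.2) * (1 + x.1 * y.1) := by
  simp only [D2, rA', dot4, _root_.Cfsg.Agent.H905.Sp4.D2, _root_.Cfsg.Agent.H909.Sp4Ker.rA', _root_.Matrix.dotProduct_cons, _root_.Matrix.head_cons, _root_.MulZeroClass.mul_zero, _root_.Matrix.tail_cons, _root_.mul_one, _root_.Matrix.dotProduct_of_isEmpty, _root_.add_zero, _root_.zero_add, _root_.MulZeroClass.zero_mul, _root_.sub_zero]

theorem D1_AA' (x y : K × K) : D1 (rA x) (rA' y) = 0 := by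
  simp [D1, rA, rA', dot4]

theorem D1_A'A (x y : K × K) : D1 (rA' x) (rA y) = 0 := by
  simp [D1, rA, rA', dot4]

theorem D1_BB (x y : K × K) : D1 (rB x) (rB y) = (1 + x.1 * y.1) * (1 + x.2 * y.2) := by
  simp only [D1, rB, dot4, _root_.Cfsg.Agent.H905.Sp4.D1, _root_.Cfsg.Agent.H909.Sp4Ker.rB, _root_.Matrix.dotProduct_cons, _root_.Matrix.head_cons, _root_.mul_one, _root_.Matrix.tail_cons, _root_.Matrix.dotProduct_of_isEmpty, _root_.add_zero]
  ring

theorem D2_BB (x y : K × K) : D2 (rB x) (rB y) = (1 + x.2 * y.2) ^ 2 := by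
  simp only [D2, rB, dot4, _root_.Cfsg.Agent.H905.Sp4.D2, _root_.Cfsg.Agent.H909.Sp4Ker.rB, _root_.Matrix.dotProduct_cons, _root_.Matrix.head_cons, _root_.mul_one, _root_.Matrix.tail_cons, _root_.Matrix.dotProduct_of_isEmpty, _root_.add_zero, _root_.MulZeroClass.mul_zero, _root_.zero_add, _root_.one_mul, _root_.MulZeroClass.zero_mul]
  ring

/-- every non-zero vector is the first of an isotropic pair -/
theorem exists_pair {a : Fin 4 → K} (ha : a ≠ 0) : ∃ r : IsoPair K, r.a = a := by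
  by_cases h1 : a 1 = 0 ∧ a 2 = 0
  · -- `b = e₁`
    have h2 : a 0 ≠ 0 ∨ a 3 ≠ 0 := by
      by_contra hcon
      push Not at hcon
      apply ha
      funext i
      fin_cases i
      · exact hcon.1
      · exact h1.1
      · exact h1.2
      · exact hcon.2
    refine ⟨⟨a, ![0, 1, 0, 0], by simp [om, h1], ?_⟩, rfl⟩
    rcases h2 with h2 | h2
    · exact ind_of 0 1 (by simpa using h2)
    · exact ind_of 3 1 (by simpa using h2)
  · by_cases h2 : a 0 = 0 ∧ a 3 = 0
    · refine ⟨⟨a, ![1, 0, 0, 0], by simp [om, h2], ?_⟩, rfl⟩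
      rw [not_and_or] at h1
      rcases h1 with h1 | h1
      · exact ind_of 0 1 (by simpa using h1)
      · exact ind_of 0 2 (by simpa using h1)
    · refine ⟨⟨a, ![a 0, 0, 0, a 3], by simp [om]; ring, ?_⟩, rfl⟩
      rw [not_and_or] at h1 h2
      rcases h1 with h1 | h1 <;> rcases h2 with h2 | h2
      · exact ind_of 0 1 (by simp [h1, h2])
      · exact ind_of 3 1 (by simp [h1, h2])
      · exact ind_of 0 2 (by simp [h1, h2])
      · exact ind_of 3 2 (by simp [h1, h2])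

end pairs

section bounds

variable {p : ℕ} [hp : Fact p.Prime] {K : Type u} [Field K] [Fintype K] {k : Type v}
  [Field k] [CharP k p] (j : K →+* k) {c₁ c₂ : ℕ}
  {V : Type w} [AddCommGroup V] [Module k V] [FiniteDimensional k V]
  (φ : IsoPair K → Module.Dual k V) (v : IsoPair K → V)
  (H : ∀ r s, φ r (v s) = j (D1 r s) ^ c₁ * j (D2 r s) ^ c₂)

include H

/-- the bound (A) -/
theorem bound_A (h₁ : c₁ ≠ 0) :
    2 * (Rk p (Fintype.card K) (c₁ + c₂) * Rk p (Fintype.card K) c₂) ≤ Module.finrank k V := by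
  have h := two_block_le j p (fun x => φ (rA x)) (fun x => φ (rA' x)) (fun x => v (rA x))
    (fun x => v (rA' x)) (n₁ := c₁ + c₂) (n₂ := c₂) (n₁' := c₂) (n₂' := c₁ + c₂)
    (fun x y => by
      rw [H, D1_AA, D2_AA, map_mul, mul_pow, pow_add]; ring)
    (fun x y => by
      rw [H, D1_A'A', D2_A'A', map_mul, mul_pow, pow_add]; ring)
    (fun x y => by rw [H, D1_AA', map_zero, zero_pow h₁, zero_mul])
    (fun x y => by rw [H, D1_A'A, map_zero, zero_pow h₁, zero_mul])
  rw [mul_comm (Rk p (Fintype.card K) c₂)] at h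
  rw [two_mul]
  exact h

/-- the bound (A0) -/
theorem bound_A0 :
    Rk p (Fintype.card K) (c₁ + c₂) * Rk p (Fintype.card K) c₂ ≤ Module.finrank k V :=
  block_le j p (fun x => φ (rA x)) (fun x => v (rA x)) (n₁ := c₁ + c₂) (n₂ := c₂)
    (fun x y => by rw [H, D1_AA, D2_AA, map_mul, mul_pow, pow_add]; ring)

/-- the bound (B) -/
theorem bound_B :
    Rk p (Fintype.card K) c₁ * Rk p (Fintype.card K) (c₁ + 2 * c₂) ≤ Module.finrank k V :=
  block_le j p (fun x => φ (rB x)) (fun x => v (rB x)) (n₁ := c₁) (n₂ := c₁ + 2 * c₂)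
    (fun x y => by rw [H, D1_BB, D2_BB, map_mul, mul_pow, map_pow, pow_add, pow_mul]; ring)

end bounds

end Cfsg.Agent.H909.Sp4Ker
end

-- part: H909/Sp4KerCZero
section
/-!
# The kernel `(x · y)^c` on `K⁴` (helper909)
-/

set_option autoImplicit false
set_option linter.unusedSectionVars false

namespace Cfsg.Agent.H909.Sp4Ker

open Cfsg.Agent.H875.Fn Cfsg.Agent.H905.Sp4 Matrix

universe u v w

section mono4

variable {K : Type u} [Field K] [Fintype K] {k : Type v} [Field k] (j : K →+* k)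
  {V : Type w} [AddCommGroup V] [Module k V] [FiniteDimensional k V]

/-- a family of vectors with monomial values -/
theorem card_le_of_mono {J : Type*} [Fintype J] (f : (Fin 4 → K) → Module.Dual k V)
    (ν : J → Fin 4 → ℕ) (hν : Function.Injective ν) (hq : ∀ i t, ν i t ≤ Fintype.card K - 1)
    (W : J → V) (hW : ∀ i x, f x (W i) = ∏ t, j (x t) ^ ν i t) :
    Fintype.card J ≤ Module.finrank k V := by
  classical
  refine le_of_biorth (fun i => ∑ x : Fin 4 → K, (∏ t, be j (ν i t) (x t)) • f x) W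
    (one_ne_zero (α := k)) (fun i l => ?_)
  rw [LinearMap.sum_apply]
  simp only [LinearMap.smul_apply, hW, smul_eq_mul, ← Finset.prod_mul_distrib]
  have h1 : ∑ x : Fin 4 → K, ∏ t, be j (ν i t) (x t) * j (x t) ^ ν l t =
      ∏ t, ∑ y : K, be j (ν i t) y * j y ^ ν l t := by
    rw [Finset.prod_univ_sum, Fintype.piFinset_univ]
  rw [h1]
  by_cases h : i = l
  · rw [if_pos h, h]
    refine Finset.prod_eq_one fun t _ => ?_
    rw [sum_be j (hq _ _) (hq _ _), if_pos rfl]
  · rw [if_neg h]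
    have h2 : ν i ≠ ν l := fun h3 => h (hν h3)
    obtain ⟨t, ht⟩ := Function.ne_iff.1 h2
    refine Finset.prod_eq_zero (Finset.mem_univ t) ?_
    rw [sum_be j (hq _ _) (hq _ _), if_neg ht]

end mono4

/-- exponents -/
def nu (c : ℕ) : Fin 4 ⊕ ({x : Fin 4 × Fin 4 // x.1 < x.2} × ℕ) → Fin 4 → ℕ
  | Sum.inl i => fun t => if t = i then c else 0
  | Sum.inr x => fun t => if t = x.1.1.1 then x.2 else if t = x.1.1.2 then c - x.2 else 0

theorem nu_inj {c : ℕ} (hc : c ≠ 0) {x y : Fin 4 ⊕ ({x : Fin 4 × Fin 4 // x.1 < x.2} × ℕ)}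
    (hx : ∀ z, x = Sum.inr z → z.2 ≠ 0 ∧ z.2 < c) (hy : ∀ z, y = Sum.inr z → z.2 ≠ 0 ∧ z.2 < c)
    (h : nu c x = nu c y) : x = y := by
  rcases x with i | ⟨⟨⟨i, l⟩, hil⟩, m⟩ <;> rcases y with i' | ⟨⟨⟨i', l'⟩, hil'⟩, m'⟩
  · have h1 := congrFun h i
    simp only [nu, if_true] at h1
    by_cases h2 : i = i'
    · rw [h2]
    · rw [if_neg h2] at h1; exact absurd h1 hc
  · exfalso
    obtain ⟨h0, h1⟩ := hy _ rfl
    simp only at h0 h1 hil'
    have h2 := congrFun h i'
    have h3 := congrFun h l'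
    simp only [nu, if_true] at h2 h3
    rw [if_neg (ne_of_gt hil')] at h3
    by_cases h4 : i' = i
    · rw [if_pos h4] at h2; omega
    · rw [if_neg h4] at h2; omega
  · exfalso
    obtain ⟨h0, h1⟩ := hx _ rfl
    simp only at h0 h1 hil
    have h2 := congrFun h i
    simp only [nu, if_true] at h2
    by_cases h4 : i = i'
    · rw [if_pos h4] at h2; omega
    · rw [if_neg h4] at h2; omega
  · obtain ⟨h0, h1⟩ := hx _ rfl
    obtain ⟨h0', h1'⟩ := hy _ rfl
    simp only at h0 h1 hil h0' h1' hil'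
    have e1 := congrFun h i
    have e2 := congrFun h l
    simp only [nu, if_true] at e1 e2
    rw [if_neg (ne_of_gt hil)] at e2
    have h3 : i = i' ∨ i = l' := by
      by_contra hcon
      push Not at hcon
      rw [if_neg hcon.1, if_neg hcon.2] at e1
      omega
    have h4 : l = i' ∨ l = l' := by
      by_contra hcon
      push Not at hcon
      rw [if_neg hcon.1, if_neg hcon.2] at e2
      omega
    have h5 : i = i' := by
      rcases h3 with h3 | h3
      · exact h3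
      · exfalso
        rcases h4 with h4 | h4
        · rw [h3, h4] at hil; exact absurd hil (not_lt.2 hil'.le)
        · rw [h3, h4] at hil; exact absurd hil (lt_irrefl _)
    have h6 : l = l' := by
      rcases h4 with h4 | h4
      · exfalso; rw [h5, h4] at hil; exact absurd hil (lt_irrefl _)
      · exact h4
    subst h5 h6
    rw [if_pos rfl] at e1
    rw [e1]

section bounds

variable {p : ℕ} [hp : Fact p.Prime] {K : Type u} [Field K] [Fintype K] {k : Type v}
  [Field k] [CharP k p] (j : K →+* k) {c : ℕ}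
  {V : Type w} [AddCommGroup V] [Module k V] [FiniteDimensional k V]

/-- the bound (C0) -/
theorem bound_C0 (φ : IsoPair K → Module.Dual k V) (v : IsoPair K → V)
    (H : ∀ r s, φ r (v s) = j (D1 r s) ^ c) (hc : c ≠ 0) (hcq : c ≤ Fintype.card K - 1) :
    4 + 6 * ((SS p c).card - 2) ≤ Module.finrank k V := by
  classical
  have hq := two_le_card (E := K)
  -- extension to all vectors
  choose r hr using fun a : {a : Fin 4 → K // a ≠ 0} => exists_pair a.2
  let f : (Fin 4 → K) → Module.Dual k V := fun x => if h : x ≠ 0 then φ (r ⟨x, h⟩) else 0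
  let g : (Fin 4 → K) → V := fun x => if h : x ≠ 0 then v (r ⟨x, h⟩) else 0
  have hfg : ∀ x y, f x (g y) = j (x ⬝ᵥ y) ^ c := by
    intro x y
    by_cases hx : x ≠ 0
    · by_cases hy : y ≠ 0
      · simp only [f, g, dif_pos hx, dif_pos hy]
        rw [H, D1, hr, hr]
      · push Not at hy
        simp [f, g, hy, zero_pow hc]
    · push Not at hx
      simp [f, hx, zero_pow hc]
  -- the index set
  let A : Finset ℕ := ((SS p c).erase 0).erase c
  have hA : A.card = (SS p c).card - 2 := by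
    rw [Finset.card_erase_of_mem, Finset.card_erase_of_mem (zero_mem_SS c)]
    · omega
    · exact Finset.mem_erase.2 ⟨hc, self_mem_SS c⟩
  let ι : Fin 4 ⊕ ({x : Fin 4 × Fin 4 // x.1 < x.2} × A) →
      Fin 4 ⊕ ({x : Fin 4 × Fin 4 // x.1 < x.2} × ℕ) := Sum.map id (Prod.map id Subtype.val)
  have hι : Function.Injective ι :=
    Sum.map_injective.2 ⟨Function.injective_id, Function.injective_id.prodMap Subtype.val_injective⟩
  have hAm : ∀ m : A, (m : ℕ) ≠ 0 ∧ (m : ℕ) < c ∧ (m : ℕ) ∈ SS p c := by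
    intro m
    have h1 := Finset.mem_erase.1 m.2
    have h2 := Finset.mem_erase.1 h1.2
    exact ⟨h2.1, lt_of_le_of_ne (mem_SS.1 h2.2).1 h1.1, h2.2⟩
  have hιz : ∀ x z, ι x = Sum.inr z → z.2 ≠ 0 ∧ z.2 < c := by
    rintro (i | ⟨il, m⟩) z hz
    · simp [ι] at hz
    · have : z = (il, (m : ℕ)) := by
        simp only [ι, Sum.map_inr, Prod.map_apply, id_eq, Sum.inr.injEq] at hz
        exact hz.symm
      rw [this]
      exact ⟨(hAm m).1, (hAm m).2.1⟩
  have hW : ∀ x : Fin 4 ⊕ ({x : Fin 4 × Fin 4 // x.1 < x.2} × A), ∃ W : V, ∀ y : Fin 4 → K,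
      f y W = ∏ t, j (y t) ^ nu c (ι x) t := by
    rintro (i | ⟨⟨⟨i, l⟩, hil⟩, m⟩)
    · refine ⟨g (Pi.single i 1), fun y => ?_⟩
      rw [hfg, dotProduct_single_one, Finset.prod_eq_single i]
      · simp [ι, nu]
      · intro t _ ht
        simp [ι, nu, ht]
      · intro h; exact absurd (Finset.mem_univ i) h
    · obtain ⟨hm0, hmc, hmS⟩ := hAm m
      simp only at hil
      have hC : ((c.choose m : ℕ) : k) ≠ 0 := choose_ne_zero p hmS
      refine ⟨∑ t : K, (((c.choose m : ℕ) : k)⁻¹ * be j m t) • g (Pi.single i t + Pi.single l 1),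
        fun y => ?_⟩
      rw [map_sum]
      simp only [map_smul, hfg, smul_eq_mul, dotProduct_add, dotProduct_single, mul_one]
      have h1 : ∀ t : K, j (y i * t + y l) ^ c = ∑ a ∈ Finset.range (c + 1),
          (j (y i) ^ a * j (y l) ^ (c - a) * (c.choose a : k)) * j t ^ a := by
        intro t
        rw [map_add, map_mul, add_pow]
        refine Finset.sum_congr rfl fun a _ => ?_
        rw [mul_pow]
        ring
      simp only [h1, Finset.mul_sum]
      rw [Finset.sum_comm, Finset.sum_eq_single (m : ℕ)]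
      · have h2 : ∀ t : K, ((c.choose m : ℕ) : k)⁻¹ * be j m t *
            (j (y i) ^ (m : ℕ) * j (y l) ^ (c - m) * (c.choose m : k) * j t ^ (m : ℕ)) =
            (((c.choose m : ℕ) : k)⁻¹ * (c.choose m : k) * (j (y i) ^ (m : ℕ) *
              j (y l) ^ (c - m))) * (be j m t * j t ^ (m : ℕ)) := by
          intro t; ring
        simp only [h2]
        rw [← Finset.mul_sum, sum_be j (by omega) (by omega), if_pos rfl, inv_mul_cancel₀ hC,
          one_mul, mul_one]
        rw [← Finset.mul_prod_erase Finset.univ _ (Finset.mem_univ i),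
          ← Finset.mul_prod_erase _ _ (Finset.mem_erase.2 ⟨ne_of_gt hil, Finset.mem_univ l⟩)]
        rw [Finset.prod_eq_one, mul_one]
        · simp [ι, nu, ne_of_gt hil]
        · intro t ht
          have h3 := (Finset.mem_erase.1 ht).1
          have h4 := (Finset.mem_erase.1 (Finset.mem_erase.1 ht).2).1
          simp [ι, nu, h3, h4]
      · intro a ha hne
        rw [Finset.mem_range] at ha
        have h2 : ∀ t : K, ((c.choose m : ℕ) : k)⁻¹ * be j m t *
            (j (y i) ^ a * j (y l) ^ (c - a) * (c.choose a : k) * j t ^ a) =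
            (((c.choose m : ℕ) : k)⁻¹ * (c.choose a : k) * (j (y i) ^ a *
              j (y l) ^ (c - a))) * (be j m t * j t ^ a) := by
          intro t; ring
        simp only [h2]
        rw [← Finset.mul_sum, sum_be j (by omega) (by omega), if_neg (Ne.symm hne), mul_zero]
      · intro h
        exact absurd (Finset.mem_range.2 (by omega)) h
  choose W hW using hW
  have key := card_le_of_mono j f (fun x => nu c (ι x))
    (fun x y hxy => hι (nu_inj hc (hιz x) (hιz y) hxy)) (fun x t => by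
      rcases x with i | ⟨⟨⟨i, l⟩, hil⟩, m⟩
      · simp only [ι, Sum.map_inl, id_eq, nu]
        split_ifs <;> omega
      · obtain ⟨hm0, hmc, hmS⟩ := hAm m
        simp only [ι, Sum.map_inr, Prod.map_apply, id_eq, nu]
        split_ifs <;> omega) W hW
  rw [Fintype.card_sum, Fintype.card_prod, Fintype.card_fin, Fintype.card_coe, hA] at key
  have h6 : Fintype.card {x : Fin 4 × Fin 4 // x.1 < x.2} = 6 := by decide
  rw [h6] at key
  exact key

end bounds

end Cfsg.Agent.H909.Sp4Ker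
end

-- part: H909/Sp4KerCert
section
/-!
# Certificates for the kernel of the modules of `Sp₄(K)` (helper909)

Integer points of the big cell, and matrices `X` with `X * A = d` (or `= 1` modulo `2`, `3`).
-/

set_option autoImplicit false
set_option linter.unusedSectionVars false

namespace Cfsg.Agent.H909.Sp4Ker

open Cfsg.Agent.H875.Fn Cfsg.Agent.H905.Sp4 Matrix

universe u v w

/-- integer points -/
abbrev Pt : Type := ℤ × ℤ × ℤ × ℤ

/-- `D1` on integer points -/
def zD1 (x y : Pt) : ℤ := 1 + x.1 * y.1 + x.2.1 * y.2.1 + x.2.2.1 * y.2.2.1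

/-- `D2` on integer points -/
def zD2 (x y : Pt) : ℤ :=
  zD1 x y * (1 + x.2.2.2 * y.2.2.2 + (x.2.1 - x.1 * x.2.2.2) * (y.2.1 - y.1 * y.2.2.2)) -
    (x.1 + x.2.1 * y.2.2.2 + x.2.2.1 * (y.2.1 - y.1 * y.2.2.2)) *
      (y.1 + x.2.2.2 * y.2.1 + (x.2.1 - x.1 * x.2.2.2) * y.2.2.1)

/-- entries -/
def ent (e₁ e₂ : ℕ) (x y : Pt) : ℤ := zD1 x y ^ e₁ * zD2 x y ^ e₂

section pt

variable {K : Type u} [Field K]

/-- the isotropic pair of an integer point -/
def pt (x : Pt) : IsoPair K where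
  a := ![1, x.1, x.2.1, x.2.2.1]
  b := ![0, 1, x.2.2.2, x.2.1 - x.1 * x.2.2.2]
  iso := by simp [om]
  ind := ind_of 0 1 (by simp)

theorem D1_pt (x y : Pt) : D1 (pt x : IsoPair K) (pt y) = ((zD1 x y : ℤ) : K) := by
  simp only [D1, pt, zD1, _root_.Cfsg.Agent.H905.Sp4.D1, _root_.Cfsg.Agent.H909.Sp4Ker.pt, _root_.Matrix.dotProduct_cons, _root_.Matrix.head_cons, _root_.mul_one, _root_.Matrix.tail_cons, _root_.Matrix.dotProduct_of_isEmpty, _root_.add_zero, _root_.Cfsg.Agent.H909.Sp4Ker.zD1, _root_.Int.cast_add, _root_.Int.cast_one, _root_.Int.cast_mul]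
  ring

theorem D2_pt (x y : Pt) : D2 (pt x : IsoPair K) (pt y) = ((zD2 x y : ℤ) : K) := by
  simp only [D2, pt, zD2, zD1, _root_.Cfsg.Agent.H905.Sp4.D2, _root_.Cfsg.Agent.H909.Sp4Ker.pt, _root_.Matrix.dotProduct_cons, _root_.Matrix.head_cons, _root_.mul_one, _root_.Matrix.tail_cons, _root_.Matrix.dotProduct_of_isEmpty, _root_.add_zero, _root_.MulZeroClass.mul_zero, _root_.zero_add, _root_.one_mul, _root_.Cfsg.Agent.H909.Sp4Ker.zD2, _root_.Cfsg.Agent.H909.Sp4Ker.zD1, _root_.Int.cast_sub, _root_.Int.cast_mul, _root_.Int.cast_add, _root_.Int.cast_one]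
  ring

end pt

section cert

variable {K : Type u} [Field K] {k : Type v} [Field k] (j : K →+* k) {c₁ c₂ : ℕ}
  {V : Type w} [AddCommGroup V] [Module k V] [FiniteDimensional k V]
  (φ : IsoPair K → Module.Dual k V) (v : IsoPair K → V)
  (H : ∀ r s, φ r (v s) = j (D1 r s) ^ c₁ * j (D2 r s) ^ c₂)

include H

/-- the certificate bound -/
theorem cert {N : ℕ} {e₁ e₂ : ℕ} (R C : Fin N → Pt) (X : Fin N → Fin N → ℤ) {P d : ℤ}
    (hX : ∀ i l, (∑ t, X i t * ent e₁ e₂ (R t) (C l) - (if i = l then d else 0)) % P = 0)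
    (hP : (P : k) = 0) (hd : (d : k) ≠ 0)
    (he₁ : ∀ z : ℤ, (z : k) ^ c₁ = (z : k) ^ e₁) (he₂ : ∀ z : ℤ, (z : k) ^ c₂ = (z : k) ^ e₂) :
    N ≤ Module.finrank k V := by
  classical
  have h := le_of_biorth (fun i => ∑ t, (X i t : k) • φ (pt (R t))) (fun l => v (pt (C l))) hd (by
    intro i l
    rw [LinearMap.sum_apply]
    simp only [LinearMap.smul_apply, H, D1_pt, D2_pt, map_intCast, he₁, he₂, smul_eq_mul]
    obtain ⟨m, hm⟩ := Int.dvd_of_emod_eq_zero (hX i l)
    have h1 : ∑ t, X i t * ent e₁ e₂ (R t) (C l) = (if i = l then d else 0) + P * m := by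
      rw [← hm]; ring
    have h2 : ∑ t, (X i t : k) * ((zD1 (R t) (C l) : k) ^ e₁ * (zD2 (R t) (C l) : k) ^ e₂) =
        ((∑ t, X i t * ent e₁ e₂ (R t) (C l) : ℤ) : k) := by
      push_cast [ent]
      rfl
    rw [h2, h1]
    push_cast
    rw [hP, zero_mul, add_zero])
  rwa [Fintype.card_fin] at h

end cert

private noncomputable def dtF (e₁ e₂ : ℕ) (c : Pt) (x : List ℤ) : List Pt → ℤ :=
  List.rec (fun _ => 0) (fun a _ ih r => List.rec 0 (fun y r _ => Int.add (Int.mul a (ent e₁ e₂ y c)) (ih r)) r) x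

private theorem dtF_eq (e₁ e₂ : ℕ) (c : Pt) : ∀ {n : ℕ} (x : Fin n → ℤ) (r : Fin n → Pt),
    dtF e₁ e₂ c (List.ofFn x) (List.ofFn r) = ∑ t, x t * ent e₁ e₂ (r t) c
  | 0, x, r => by rw [List.ofFn_zero, Fin.sum_univ_zero]; rfl
  | n + 1, x, r => by rw [List.ofFn_succ, List.ofFn_succ, Fin.sum_univ_succ, ← dtF_eq]; rfl

private theorem ckF {N e₁ e₂ : ℕ} {R C : Fin N → Pt} {X : Fin N → Fin N → ℤ} {P d : ℤ} {R' C' : List Pt} {X' : List (List ℤ)}
    (hR : List.ofFn R = R') (hC : List.ofFn C = C') (hX : (List.ofFn fun i => List.ofFn (X i)) = X')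
    (h : ((List.range N).all fun i => (List.range N).all fun l =>
      decide ((dtF e₁ e₂ (C'.getD l (0, 0, 0, 0)) (X'.getD i []) R' - (if i = l then d else 0)) % P = 0)) = true) :
    ∀ i l, (∑ t, X i t * ent e₁ e₂ (R t) (C l) - (if i = l then d else 0)) % P = 0 := by
  subst hR hC hX
  intro i l
  have h1 := of_decide_eq_true (List.all_eq_true.1 (List.all_eq_true.1 h i (List.mem_range.2 i.2)) l (List.mem_range.2 l.2))
  rw [List.getD_eq_getElem _ _ (by rw [List.length_ofFn]; exact l.2),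
    List.getD_eq_getElem _ _ (by rw [List.length_ofFn]; exact i.2), List.getElem_ofFn, List.getElem_ofFn, dtF_eq] at h1
  rw [if_congr Fin.ext_iff rfl rfl]
  exact h1

private theorem m0F {l : ℕ} : (List.ofFn fun i => List.ofFn ((Matrix.vecEmpty : Fin 0 → Fin l → ℤ) i)) = [] := List.ofFn_zero

private theorem mcF {k l : ℕ} {r : Fin l → ℤ} {M : Fin k → Fin l → ℤ} {r' : List ℤ} {M' : List (List ℤ)}
    (h : List.ofFn r = r') (hM : (List.ofFn fun i => List.ofFn (M i)) = M') :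
    (List.ofFn fun i => List.ofFn (Matrix.vecCons r M i)) = r' :: M' := by
  rw [← h, ← hM]
  exact List.ofFn_succ

private theorem vcF {α : Type} {k : ℕ} {a : α} {v : Fin k → α} {l : List α} (h : List.ofFn v = l) :
    List.ofFn (Matrix.vecCons a v) = a :: l := by
  rw [← h]
  exact List.ofFn_succ

private theorem v5F {α : Type} {a0 a1 a2 a3 a4 : α} :
    List.ofFn ![a0, a1, a2, a3, a4] = [a0, a1, a2, a3, a4] :=
  vcF (vcF (vcF (vcF (vcF List.ofFn_zero))))

private theorem v12F {α : Type} {a0 a1 a2 a3 a4 a5 a6 a7 a8 a9 a10 a11 : α} :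
    List.ofFn ![a0, a1, a2, a3, a4, a5, a6, a7, a8, a9, a10, a11] = [a0, a1, a2, a3, a4, a5, a6, a7, a8, a9, a10, a11] :=
  vcF (vcF (vcF (vcF (vcF (vcF (vcF (vcF (vcF (vcF (vcF (vcF List.ofFn_zero)))))))))))

private theorem v13F {α : Type} {a0 a1 a2 a3 a4 a5 a6 a7 a8 a9 a10 a11 a12 : α} :
    List.ofFn ![a0, a1, a2, a3, a4, a5, a6, a7, a8, a9, a10, a11, a12] = [a0, a1, a2, a3, a4, a5, a6, a7, a8, a9, a10, a11, a12] :=
  vcF (vcF (vcF (vcF (vcF (vcF (vcF (vcF (vcF (vcF (vcF (vcF (vcF List.ofFn_zero))))))))))))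

def R11a : Fin 12 → Pt := ![(0, 0, 0, 0), (-1, 0, 0, 0), (0, -1, 0, 0), (0, 0, -1, 0), (0, 0, 0, -1), (-1, -1, 0, 0), (-1, 0, -1, 0), (-1, 0, 0, -1), (0, -1, -1, 0), (0, -1, 0, -1), (0, 1, 1, -1), (0, -1, -1, -1)]

def C11a : Fin 12 → Pt := ![(0, 0, 0, 0), (-1, 0, 0, 0), (0, 1, 0, 0), (0, 0, 1, 0), (0, 0, 0, -1), (-1, 0, -1, 0), (0, -1, -1, 0), (1, 0, 0, -1), (0, 0, 1, -1), (0, -1, 0, -1), (0, 1, 1, -1), (-1, 1, 0, -1)]

def X11a : Fin 12 → Fin 12 → ℤ :=
  ![![-606, -84, 598, -100, 746, 130, 198, -246, -132, -494, -40, 32],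
    ![-96, -36, 106, -46, 160, 38, 54, -54, -20, -98, -9, 1],
    ![-88, 44, 52, 50, 14, -18, -22, -4, -18, -22, 0, 12],
    ![664, 74, -638, 92, -788, -132, -202, 260, 142, 522, 42, -36],
    ![-200, -24, 192, -32, 242, 40, 64, -80, -42, -158, -13, 11],
    ![152, 10, -142, 14, -170, -26, -40, 56, 32, 114, 9, -9],
    ![-22, -8, 24, -10, 36, 8, 12, -12, -4, -22, -2, 0],
    ![150, 12, -142, 16, -170, -26, -42, 56, 32, 114, 9, -9],
    ![-106, -44, 120, -52, 180, 42, 62, -60, -22, -110, -10, 0],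
    ![78, 28, -86, 34, -126, -28, -42, 42, 16, 78, 7, -1],
    ![-16, -12, 22, -14, 36, 10, 14, -12, -4, -22, -2, 0],
    ![92, 40, -106, 48, -160, -38, -56, 54, 20, 98, 9, -1]]

theorem cert11a : ∀ i l, (∑ t, X11a i t * ent 1 1 (R11a t) (C11a l) -
    (if i = l then 2 else 0)) % 0 = 0 := by
  delta X11a R11a C11a
  exact ckF v12F v12F (mcF v12F (mcF v12F (mcF v12F (mcF v12F (mcF v12F (mcF v12F (mcF v12F (mcF v12F (mcF v12F (mcF v12F (mcF v12F (mcF v12F m0F)))))))))))) (by decide +kernel)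

def R11b : Fin 13 → Pt := ![(0, 0, 0, 0), (-1, 0, 0, 0), (0, -1, 0, 0), (0, 0, -1, 0), (0, 0, 0, -1), (-1, -1, 0, 0), (-1, 0, -1, 0), (-1, 0, 0, -1), (0, -1, -1, 0), (0, -1, 0, -1), (0, 1, 1, -1), (0, -1, -1, -1), (0, 0, -1, -1)]

def C11b : Fin 13 → Pt := ![(0, 0, 0, 0), (-1, 0, 0, 0), (0, 1, 0, 0), (0, 0, 1, 0), (0, 0, 0, -1), (-1, 0, -1, 0), (0, -1, -1, 0), (1, 0, 0, -1), (0, 0, 1, -1), (0, -1, 0, -1), (0, 1, 1, -1), (-1, 1, 0, -1), (1, -1, -1, -1)]

def X11b : Fin 13 → Fin 13 → ℤ :=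
  ![![-13818, -420, 12662, -748, 14518, 2014, 3222, -4826, -2892, -9910, -758, 842, 124],
    ![-6570, -180, 5990, -370, 6890, 960, 1530, -2300, -1360, -4690, -360, 390, 70],
    ![7216, 220, -6604, 426, -7586, -1058, -1694, 2532, 1494, 5170, 396, -424, -88],
    ![12716, 370, -11614, 676, -13336, -1848, -2954, 4432, 2654, 9090, 696, -774, -108],
    ![-3784, -120, 3456, -224, 3994, 552, 896, -1328, -786, -2710, -209, 231, 32],
    ![1978, 50, -1802, 98, -2068, -284, -452, 686, 412, 1410, 108, -122, -14],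
    ![-1502, -40, 1368, -82, 1572, 216, 348, -524, -308, -1070, -82, 88, 16],
    ![2142, 60, -1958, 112, -2242, -306, -498, 744, 448, 1530, 117, -133, -16],
    ![-7838, -220, 7152, -428, 8208, 1134, 1822, -2736, -1622, -5590, -428, 462, 84],
    ![4914, 140, -4486, 274, -5154, -712, -1146, 1718, 1016, 3510, 269, -291, -52],
    ![-1820, -60, 1670, -110, 1920, 270, 430, -640, -380, -1310, -100, 110, 20],
    ![6550, 200, -5990, 380, -6890, -960, -1540, 2300, 1360, 4690, 360, -390, -70],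
    ![-174, 0, 156, -4, 174, 22, 36, -58, -36, -120, -9, 11, 2]]

theorem cert11b : ∀ i l, (∑ t, X11b i t * ent 1 1 (R11b t) (C11b l) -
    (if i = l then 10 else 0)) % 0 = 0 := by
  delta X11b R11b C11b
  exact ckF v13F v13F (mcF v13F (mcF v13F (mcF v13F (mcF v13F (mcF v13F (mcF v13F (mcF v13F (mcF v13F (mcF v13F (mcF v13F (mcF v13F (mcF v13F (mcF v13F m0F))))))))))))) (by decide +kernel)

def R02 : Fin 13 → Pt := ![(0, 0, 0, 0), (0, -1, 0, 0), (0, 0, -1, 0), (0, 0, 0, -1), (-1, -1, 0, 0), (-1, 0, 0, -1), (0, -1, 0, -1), (0, 0, -1, -1), (0, 0, 0, 1), (0, 0, 1, 0), (-1, -1, -1, -1), (0, 1, 0, 0), (-1, 0, 0, 1)]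

def C02 : Fin 13 → Pt := ![(0, 0, 0, 0), (0, 1, 0, 0), (0, 0, 1, 0), (0, 0, 0, 1), (-1, 1, 0, 0), (-1, 0, 0, 1), (0, 0, 1, -1), (0, -1, 0, 1), (0, 0, 0, -1), (0, 0, -1, 0), (0, 0, 1, 1), (0, -1, 0, 0), (0, 0, -1, 1)]

def X02 : Fin 13 → Fin 13 → ℤ :=
  ![![312, 216, 28, 268, -264, -92, -104, -168, 28, -212, 80, -16, -44],
    ![-128, -152, -30, -186, 184, 34, 80, 124, -38, 118, -52, 8, 38],
    ![-178, -151, -15, -185, 194, 57, 70, 116, -41, 145, -58, 5, 41],
    ![-10, 45, 17, 43, -54, 17, -26, -40, 27, -15, 10, 1, -15],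
    ![108, 126, 18, 150, -156, -22, -68, -104, 38, -94, 44, -2, -38],
    ![0, 4, 8, 8, 0, -8, 0, 0, -8, -8, 0, -4, 8],
    ![74, 87, 23, 105, -106, -33, -38, -64, 17, -73, 30, -5, -17],
    ![12, 14, 2, 14, -12, -14, -4, 0, -2, -14, 4, -2, 2],
    ![-90, -87, -23, -93, 106, 33, 38, 64, -13, 73, -30, 5, 17],
    ![-18, -3, 9, -17, 2, 1, 6, 12, -1, 9, -2, 1, 1],
    ![-20, -66, -30, -78, 68, 6, 36, 52, -6, 42, -16, 6, 6],
    ![-32, -36, -10, -46, 40, 22, 16, 20, -2, 34, -12, 4, 2],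
    ![2, 3, 3, 17, -2, -1, -6, -12, 1, -5, 2, -1, -1]]

theorem cert02 : ∀ i l, (∑ t, X02 i t * ent 0 2 (R02 t) (C02 l) -
    (if i = l then 32 else 0)) % 0 = 0 := by
  delta X02 R02 C02
  exact ckF v13F v13F (mcF v13F (mcF v13F (mcF v13F (mcF v13F (mcF v13F (mcF v13F (mcF v13F (mcF v13F (mcF v13F (mcF v13F (mcF v13F (mcF v13F (mcF v13F m0F))))))))))))) (by decide +kernel)

def R01 : Fin 5 → Pt := ![(0, 0, 0, 0), (0, -1, 0, 0), (0, 0, -1, 0), (0, 0, 0, -1), (-1, 0, 0, -1)]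

def C01 : Fin 5 → Pt := ![(0, 0, 0, 0), (0, 1, 0, 0), (0, 0, -1, 0), (0, 0, 0, -1), (-1, 0, 0, -1)]

def X01 : Fin 5 → Fin 5 → ℤ :=
  ![![7, 0, -3, -3, 1],
    ![-4, 2, 2, 2, -2],
    ![1, -2, 1, -1, 1],
    ![1, -2, -1, 1, 1],
    ![-3, 2, 1, 1, -1]]

theorem cert01 : ∀ i l, (∑ t, X01 i t * ent 0 1 (R01 t) (C01 l) -
    (if i = l then 2 else 0)) % 0 = 0 := by
  delta X01 R01 C01
  exact ckF v5F v5F (mcF v5F (mcF v5F (mcF v5F (mcF v5F (mcF v5F m0F))))) (by decide +kernel)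

def R21 : Fin 13 → Pt := ![(0, 0, 0, 0), (-1, 0, 0, 0), (0, -1, 0, 0), (0, 0, -1, 0), (0, 0, 0, -1), (0, 0, 1, 0), (0, 1, 0, 0), (1, 0, 0, 0), (-1, -1, 0, 0), (-1, 0, -1, 0), (-1, 0, 0, -1), (-1, 0, 1, 0), (-1, 1, 0, 0)]

def C21 : Fin 13 → Pt := ![(0, 0, 0, 0), (1, 0, 0, 0), (0, 1, 0, 0), (0, 0, -1, 0), (0, 0, 0, -1), (-1, -1, -1, 0), (0, -1, 0, 0), (-1, 0, 0, 0), (-1, -1, 0, 0), (-1, 0, -1, 0), (1, -1, 0, 0), (-1, 0, 1, 0), (-1, 1, 0, 0)]

def X21 : Fin 13 → Fin 13 → ℤ :=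
  ![![1, 1, 0, 0, 1, 0, 0, 1, -1, 1, 1, -1, 0],
    ![0, 1, 1, -1, -1, 0, -1, 0, 0, 0, 1, 0, 0],
    ![-1, -1, 1, 0, 1, 0, -1, 0, 0, 0, -1, 0, -1],
    ![-1, 0, 1, 0, 0, 1, -1, 0, -1, -1, 0, 1, 1],
    ![-1, 0, 0, 0, 1, 0, 0, 0, 0, 0, 0, 0, 0],
    ![1, 0, 0, 1, 0, 1, 0, 0, 0, 0, 0, 0, 0],
    ![1, 1, 1, 0, 0, -1, -1, 0, -1, 0, 0, 0, 0],
    ![0, 0, -1, 1, -1, -1, 0, -1, -1, -1, 1, -1, -1],
    ![1, 1, 0, 1, -1, 0, -1, 0, 1, 0, 1, 0, 0],
    ![0, 1, 1, 1, -1, 0, -1, 0, 0, 1, 1, 0, 0],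
    ![1, 1, -1, 1, 1, 0, 1, 0, 0, 0, -1, 0, 0],
    ![0, 0, -1, -1, 1, 0, 1, 0, 0, 0, -1, 1, 0],
    ![-1, 1, 1, 0, -1, 0, 1, 0, 0, 0, 1, 0, 1]]

theorem cert21 : ∀ i l, (∑ t, X21 i t * ent 2 1 (R21 t) (C21 l) -
    (if i = l then 1 else 0)) % 3 = 0 := by
  delta X21 R21 C21
  exact ckF v13F v13F (mcF v13F (mcF v13F (mcF v13F (mcF v13F (mcF v13F (mcF v13F (mcF v13F (mcF v13F (mcF v13F (mcF v13F (mcF v13F (mcF v13F (mcF v13F m0F))))))))))))) (by decide +kernel)

def R12 : Fin 13 → Pt := ![(0, 0, 0, 0), (-1, 0, 0, 0), (0, -1, 0, 0), (0, 0, -1, 0), (0, 0, 0, -1), (0, 0, 0, 1), (0, 0, 1, 0), (0, 1, 0, 0), (-1, -1, 0, 0), (-1, 0, -1, 0), (-1, 0, 0, -1), (-1, 0, 0, 1), (-1, 0, 1, 0)]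

def C12 : Fin 13 → Pt := ![(0, 0, 0, 0), (-1, 0, 0, 0), (0, -1, 0, 0), (0, 0, -1, 0), (0, 0, 0, 1), (0, 0, 0, -1), (-1, -1, 0, 0), (-1, 0, 0, -1), (0, 0, 1, 0), (-1, 0, 0, 1), (0, 1, 0, 0), (-1, 0, -1, 0), (-1, 0, 1, 0)]

def X12 : Fin 13 → Fin 13 → ℤ :=
  ![![1, 1, 1, 1, 0, 0, 1, 1, 0, 1, 1, 1, 1],
    ![1, -1, 0, -1, 0, 0, -1, 0, 0, 1, 0, 0, 1],
    ![1, 0, 0, 0, 1, 0, 0, 1, 1, 0, -1, 0, 0],
    ![1, -1, 0, -1, 0, 0, 1, -1, -1, 1, 0, 0, 1],
    ![0, 0, 0, 0, 1, 1, -1, -1, 0, -1, 1, -1, 1],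
    ![0, 0, 1, 0, 1, 1, 1, -1, 0, 1, -1, 1, -1],
    ![0, 0, 1, -1, 0, 0, -1, 1, 0, 0, 0, 0, 0],
    ![1, 0, -1, 0, -1, 1, -1, 1, 0, -1, 1, -1, 1],
    ![1, -1, 0, 1, 1, -1, 1, 0, -1, 0, -1, 1, -1],
    ![1, 0, 0, 0, 1, -1, 1, 1, 0, 1, -1, 1, -1],
    ![1, 0, 1, -1, -1, -1, 0, 1, 1, 1, 1, 1, -1],
    ![1, 1, 0, 1, 1, -1, 0, 1, 0, 1, -1, 1, 1],
    ![1, 1, 0, 1, -1, 1, -1, -1, 0, 1, 1, -1, 1]]

theorem cert12 : ∀ i l, (∑ t, X12 i t * ent 1 2 (R12 t) (C12 l) -
    (if i = l then 1 else 0)) % 3 = 0 := by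
  delta X12 R12 C12
  exact ckF v13F v13F (mcF v13F (mcF v13F (mcF v13F (mcF v13F (mcF v13F (mcF v13F (mcF v13F (mcF v13F (mcF v13F (mcF v13F (mcF v13F (mcF v13F (mcF v13F m0F))))))))))))) (by decide +kernel)

def R11c : Fin 13 → Pt := ![(0, 0, 0, 0), (0, 0, 0, 1), (0, 0, 1, 0), (0, 1, 0, 0), (1, 0, 0, 0), (0, 0, 1, 1), (0, 1, 0, 1), (0, 1, 1, 0), (1, 0, 0, 1), (1, 0, 1, 0), (1, 1, 0, 0), (0, 1, 1, 1), (1, 0, 1, 1)]

def C11c : Fin 13 → Pt := ![(0, 0, 0, 0), (0, 0, 0, 1), (0, 0, 1, 0), (0, 1, 0, 0), (1, 0, 0, 0), (0, 1, 1, 0), (0, 1, 0, 1), (0, 0, 1, 1), (1, 0, 1, 0), (1, 0, 0, 1), (0, 1, 1, 1), (1, 1, 0, 0), (1, 1, 0, 1)]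

def X11c : Fin 13 → Fin 13 → ℤ :=
  ![![1, 0, 0, 0, 1, 0, 0, 0, 1, 1, 1, 1, 1],
    ![1, 1, 0, 1, 1, 1, 0, 1, 1, 0, 1, 1, 1],
    ![0, 0, 0, 1, 1, 0, 1, 1, 0, 1, 0, 1, 0],
    ![0, 1, 1, 0, 0, 0, 1, 1, 0, 1, 1, 0, 0],
    ![1, 0, 1, 0, 1, 1, 0, 0, 0, 1, 0, 0, 1],
    ![1, 1, 1, 1, 1, 0, 0, 0, 0, 0, 0, 0, 1],
    ![0, 0, 1, 1, 0, 1, 1, 0, 0, 1, 1, 0, 0],
    ![1, 0, 0, 0, 0, 0, 1, 1, 0, 1, 1, 1, 0],
    ![1, 0, 1, 1, 1, 1, 1, 0, 1, 0, 0, 1, 0],
    ![0, 1, 0, 0, 1, 1, 0, 0, 1, 1, 0, 0, 1],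
    ![0, 1, 1, 0, 1, 0, 0, 0, 0, 1, 1, 0, 1],
    ![0, 1, 0, 1, 1, 0, 1, 0, 0, 0, 0, 1, 1],
    ![1, 0, 0, 0, 1, 1, 0, 0, 0, 0, 0, 0, 1]]

theorem cert11c : ∀ i l, (∑ t, X11c i t * ent 1 1 (R11c t) (C11c l) -
    (if i = l then 1 else 0)) % 2 = 0 := by
  delta X11c R11c C11c
  exact ckF v13F v13F (mcF v13F (mcF v13F (mcF v13F (mcF v13F (mcF v13F (mcF v13F (mcF v13F (mcF v13F (mcF v13F (mcF v13F (mcF v13F (mcF v13F (mcF v13F m0F))))))))))))) (by decide +kernel)

def R22 : Fin 13 → Pt := ![(0, 0, 0, 0), (0, 0, 0, 1), (0, 0, 0, -1), (0, 0, 1, 0), (0, 0, -1, 0), (0, 1, 0, 0), (0, -1, 0, 0), (1, 0, 0, 0), (-1, 0, 0, 0), (0, 0, 1, 1), (0, 0, 1, -1), (0, 0, -1, 1), (0, 0, -1, -1)]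

def C22 : Fin 13 → Pt := ![(0, 0, 0, 0), (0, 0, 0, -1), (0, 0, 0, 1), (0, 0, -1, 0), (0, 0, 1, 0), (0, -1, 0, 0), (0, 1, 0, 0), (-1, 0, 0, 0), (1, 0, 0, 0), (0, 0, 1, 1), (0, 0, -1, 1), (0, 0, 1, -1), (0, 0, -1, -1)]

def X22 : Fin 13 → Fin 13 → ℤ :=
  ![![1, 0, 0, 0, 0, 1, 1, 1, 1, 0, 1, 1, 0],
    ![0, 0, -1, 0, 0, -1, -1, 0, 0, 0, 0, -1, 1],
    ![0, -1, 0, 0, 0, -1, -1, 0, 0, 1, -1, 0, 0],
    ![0, 0, 0, 0, -1, -1, -1, 0, 0, 0, -1, 0, 1],
    ![0, 0, 0, -1, 0, -1, -1, 0, 0, 1, 0, -1, 0],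
    ![1, -1, -1, -1, -1, 0, 1, 0, 0, 1, 0, 0, 1],
    ![1, -1, -1, -1, -1, 1, 0, 0, 0, 1, 0, 0, 1],
    ![1, 0, 0, 0, 0, 0, 0, -1, 0, 0, 0, 0, 0],
    ![1, 0, 0, 0, 0, 0, 0, 0, -1, 0, 0, 0, 0],
    ![0, 1, 0, 1, 0, 1, 1, 0, 0, -1, 0, 0, 0],
    ![1, 0, -1, -1, 0, 0, 0, 0, 0, 0, 1, 0, 0],
    ![1, -1, 0, 0, -1, 0, 0, 0, 0, 0, 0, 1, 0],
    ![0, 0, 1, 0, 1, 1, 1, 0, 0, 0, 0, 0, -1]]

theorem cert22 : ∀ i l, (∑ t, X22 i t * ent 2 2 (R22 t) (C22 l) -
    (if i = l then 1 else 0)) % 3 = 0 := by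
  delta X22 R22 C22
  exact ckF v13F v13F (mcF v13F (mcF v13F (mcF v13F (mcF v13F (mcF v13F (mcF v13F (mcF v13F (mcF v13F (mcF v13F (mcF v13F (mcF v13F (mcF v13F (mcF v13F m0F))))))))))))) (by decide +kernel)

end Cfsg.Agent.H909.Sp4Ker
end

-- part: H909/Sp4Ker
section
/-!
# `Sp₄(K)` in its own characteristic, dimension at most 12: the numeric half (helper909)

**`kernel_bound`**.
-/

set_option autoImplicit false
set_option linter.unusedSectionVars false
set_option linter.unusedVariables false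

namespace Cfsg.Agent.H909.Sp4Ker

open Cfsg.Agent.H875.Fn Cfsg.Agent.H905.Sp4 Matrix

universe u v w

section ints

variable {k : Type v} [Field k]

theorem int_pow_p {p : ℕ} [hp : Fact p.Prime] [CharP k p] (z : ℤ) : (z : k) ^ p = z := by
  have h := map_intCast (frobenius k p) z
  rwa [frobenius_def] at h

theorem int_pow_pow {p : ℕ} [hp : Fact p.Prime] [CharP k p] (i : ℕ) (z : ℤ) :
    (z : k) ^ (p ^ i) = z := by
  induction i with
  | zero => rw [pow_zero, pow_one]
  | succ i ih => rw [pow_succ, pow_mul, ih, int_pow_p]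

theorem int_pow_two [CharP k 2] {n : ℕ} (hn : n ≠ 0) (z : ℤ) : (z : k) ^ n = (z : k) ^ 1 := by
  have : Fact (Nat.Prime 2) := ⟨Nat.prime_two⟩
  obtain ⟨m, rfl⟩ := Nat.exists_eq_succ_of_ne_zero hn
  induction m with
  | zero => rfl
  | succ m ih =>
    have h1 := ih (by omega)
    have h2 : (z : k) ^ 2 = z := int_pow_p z
    rw [Nat.succ_eq_add_one] at h1 ⊢
    rw [pow_succ, h1, pow_one, ← sq, h2]

theorem int_pow_odd [CharP k 3] {n : ℕ} (hn : Odd n) (z : ℤ) : (z : k) ^ n = (z : k) ^ 1 := by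
  have : Fact (Nat.Prime 3) := ⟨Nat.prime_three⟩
  obtain ⟨m, rfl⟩ := hn
  induction m with
  | zero => rfl
  | succ m ih =>
    have h2 : (z : k) ^ 3 = z := int_pow_p z
    rw [show 2 * (m + 1) + 1 = (2 * m + 1) + 2 by ring, pow_add, ih, pow_one, ← pow_succ', h2]

theorem int_pow_even [CharP k 3] {n : ℕ} (hn : Even n) (h0 : n ≠ 0) (z : ℤ) :
    (z : k) ^ n = (z : k) ^ 2 := by
  obtain ⟨m, rfl⟩ := Nat.exists_eq_succ_of_ne_zero h0
  have hm : Odd m := by
    rw [Nat.succ_eq_add_one] at hn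
    exact Nat.not_even_iff_odd.1 (fun h => by
      have := Even.add_one h
      exact (Nat.not_even_iff_odd.2 this) hn)
  rw [Nat.succ_eq_add_one, pow_succ, int_pow_odd hm, pow_one, sq]

end ints

variable {p : ℕ} [hp : Fact p.Prime] {K : Type u} [Field K] [Fintype K] [CharP K p] {k : Type v}
  [Field k] (j : K →+* k) {c₁ c₂ : ℕ}
  {V : Type w} [AddCommGroup V] [Module k V] [FiniteDimensional k V]

/-- **The numeric half of `PSp₄(K)` in its own characteristic, dimension at most 12.** -/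
theorem kernel_bound (h₁ : c₁ ≤ Fintype.card K - 1) (h₂ : c₂ ≤ Fintype.card K - 1)
    (h0 : ¬ (c₁ = 0 ∧ c₂ = 0)) (hq : p = 2 → 4 ≤ Fintype.card K)
    (φ : IsoPair K → Module.Dual k V) (v : IsoPair K → V)
    (H : ∀ r s, φ r (v s) = j (D1 r s) ^ c₁ * j (D2 r s) ^ c₂)
    (hV : Module.finrank k V ≤ 12) :
    (∃ i, c₁ = p ^ i ∧ c₂ = 0) ∨ (p ≠ 2 ∧ ∃ i, c₁ = 2 * p ^ i ∧ c₂ = 0 ∧ 10 ≤ Module.finrank k V) ∨
    (∃ i, c₁ = 0 ∧ c₂ = p ^ i ∧ (p ≠ 2 → 5 ≤ Module.finrank k V)) ∨
    (p = 5 ∧ ∃ i, c₁ = 5 ^ i ∧ c₂ = 5 ^ i ∧ Module.finrank k V = 12) := by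
  classical
  have hk : CharP k p := charP_of_injective_ringHom j.injective p
  have hcast : ∀ n : ℕ, (n : k) = 0 ↔ p ∣ n := fun n => CharP.cast_eq_zero_iff k p n
  have h2k : p ≠ 2 → ((2 : ℤ) : k) ≠ 0 := by
    intro h h2
    have h3 : ((2 : ℕ) : k) = 0 := by exact_mod_cast h2
    exact h ((Nat.prime_dvd_prime_iff_eq hp.out Nat.prime_two).1 ((hcast 2).1 h3))
  by_cases hc2 : c₂ = 0
  · -- `c₂ = 0`
    subst hc2
    have hc1 : c₁ ≠ 0 := fun h => h0 ⟨h, rfl⟩
    have hb := bound_C0 (p := p) j φ v (fun r s => by rw [H, pow_zero, mul_one]) hc1 h₁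
    have h3 : (SS p c₁).card ≤ 3 := by omega
    obtain ⟨e, t, he, hep, hct, hs⟩ := exists_of_card_le_three (p := p) hc1 h3
    rcases he with rfl | rfl
    · exact Or.inl ⟨t, by rw [hct, mul_one], rfl⟩
    · refine Or.inr (Or.inl ⟨by omega, t, by rw [hct, mul_comm], rfl, by omega⟩)
  · by_cases hc1 : c₁ = 0
    · -- `c₁ = 0`
      subst hc1
      have hb := bound_A0 (p := p) j φ v H
      rw [zero_add, Rk_eq h₂] at hb
      have h3 : (SS p c₂).card ≤ 3 := by nlinarith only [hV, hb]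
      obtain ⟨e, t, he, hep, hct, hs⟩ := exists_of_card_le_three (p := p) hc2 h3
      rcases he with rfl | rfl
      · refine Or.inr (Or.inr (Or.inl ⟨t, rfl, by rw [hct, mul_one], fun hp2 => ?_⟩))
        exact cert j φ v H R01 C01 X01 cert01 (by simp) (h2k hp2) (fun z => rfl)
          (fun z => by rw [hct, mul_one, pow_one, int_pow_pow])
      · exfalso
        have h13 := cert j φ v H R02 C02 X02 cert02 (by simp) (by
          have := h2k (by omega)
          have h4 : ((32 : ℤ) : k) = ((2 : ℤ) : k) ^ 5 := by norm_num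
          rw [h4]; exact pow_ne_zero 5 this) (fun z => rfl)
          (fun z => by rw [hct, pow_mul, int_pow_pow])
        omega
    · -- both non-zero
      obtain ⟨n, -, hn⟩ := FiniteField.card K p
      rcases Nat.lt_or_ge p 5 with hp5 | hp5
      · exfalso
        have h4 := hp.out.two_le
        have hp4 : p ≠ 4 := by
          rintro rfl
          exact absurd hp.out (by decide)
        have h23 : p = 2 ∨ p = 3 := by omega
        rcases h23 with rfl | rfl
        · have h13 := cert j φ v H R11c C11c X11c cert11c (by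
            have := CharP.cast_eq_zero k 2
            exact_mod_cast this) (by simp) (int_pow_two hc1) (int_pow_two hc2)
          omega
        · have h3 : ((3 : ℤ) : k) = 0 := by
            have := CharP.cast_eq_zero k 3
            exact_mod_cast this
          rcases Nat.even_or_odd c₁ with e₁ | e₁ <;> rcases Nat.even_or_odd c₂ with e₂ | e₂
          · have h13 := cert j φ v H R22 C22 X22 cert22 h3 (by simp) (int_pow_even e₁ hc1)
              (int_pow_even e₂ hc2)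
            omega
          · have h13 := cert j φ v H R21 C21 X21 cert21 h3 (by simp) (int_pow_even e₁ hc1)
              (int_pow_odd e₂)
            omega
          · have h13 := cert j φ v H R12 C12 X12 cert12 h3 (by simp) (int_pow_odd e₁)
              (int_pow_even e₂ hc2)
            omega
          · have h13 := cert j φ v H R11b C11b X11b cert11b (by simp) (by
              have h5 : ((10 : ℕ) : k) ≠ 0 := by rw [Ne, hcast]; decide
              exact_mod_cast h5) (int_pow_odd e₁) (int_pow_odd e₂)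
            omega
      · have hA := (bound_A (p := p) j φ v H hc1).trans hV
        have hB := (bound_B (p := p) j φ v H).trans hV
        rw [hn] at hA hB h₁ h₂
        obtain ⟨m, hm1, hm2⟩ := eq_pow_pow hp5 h₁ h₂ hc1 hc2 hA hB
        have e₁ : ∀ z : ℤ, (z : k) ^ c₁ = (z : k) ^ 1 := fun z => by
          rw [hm1, int_pow_pow, pow_one]
        have e₂ : ∀ z : ℤ, (z : k) ^ c₂ = (z : k) ^ 1 := fun z => by
          rw [hm2, int_pow_pow, pow_one]
        by_cases h5 : p = 5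
        · subst h5
          have h12 := cert j φ v H R11a C11a X11a cert11a (by simp) (h2k (by norm_num)) e₁ e₂
          exact Or.inr (Or.inr (Or.inr ⟨rfl, m, hm1, hm2, le_antisymm hV h12⟩))
        · exfalso
          have h13 := cert j φ v H R11b C11b X11b cert11b (by simp) (by
            have h6 : ((10 : ℕ) : k) ≠ 0 := by
              rw [Ne, hcast, show 10 = 2 * 5 by norm_num, hp.out.dvd_mul]
              rintro (h7 | h7)
              · have := (Nat.prime_dvd_prime_iff_eq hp.out Nat.prime_two).1 h7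
                omega
              · exact h5 ((Nat.prime_dvd_prime_iff_eq hp.out Nat.prime_five).1 h7)
            exact_mod_cast h6) e₁ e₂
          omega

end Cfsg.Agent.H909.Sp4Ker
end

-- part: H905/Sp4Dim
section
/-!
# The simple modules of `Sp_4(K)` in defining characteristic of dimension at most 12 (helper905)

* `Good` : the list of the pairs (highest weight, dimension);
* **`good_of_coef`** : the list is complete.
-/

set_option autoImplicit false
set_option linter.unusedSectionVars false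
set_option linter.style.haveILetI false

namespace Cfsg.Agent.H905.Sp4

open CoxeterSystem Cfsg.Agent.ChevalleyStructure.CoxeterGeom Cfsg.Agent.Tits.Roots Cfsg.Agent.Nodes.TypeC
open Cfsg.Agent.Nodes.Comb Cfsg.Agent.Nodes.Reps Cfsg.Agent.Nodes.WittRoot Cfsg.Agent.Nodes.BNOf
open Cfsg.Agent.Nodes.WittRGD Cfsg.Agent.Nodes.RGDLib Cfsg.Agent.Nodes.OppDec Cfsg.Agent.Nodes.WittAll
open Cfsg.Agent.Nodes.Bruhat Cfsg.Agent.Omega.CR Cfsg.Agent.Omega.FOne.Lift.Sd Cfsg.Agent.Nodes.StabComb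
open Cfsg.Agent.Tits.Core Cfsg.Agent.Tits.Exchange Cfsg.Agent.H905.Md Cfsg.Agent.KFacts.RgdOpp
open Cfsg.Agent.TitsThree Cfsg.Agent.TitsThree.Siegel Cfsg.Agent.TitsThree.WittFrame
  Cfsg.Agent.TitsThree.FrameCN Cfsg.Agent.TitsThree.SpIdent Cfsg.Agent.TitsThree.SpGen
open Cfsg.Agent.H62.SpCross Cfsg.Agent.H62.FrameSL
open scoped MatrixGroups

universe u

/-- the highest weights and dimensions `≤ 12` -/
def Good (p c₁ c₂ d : ℕ) : Prop :=
  (∃ i, c₁ = p ^ i ∧ c₂ = 0 ∧ d = 4) ∨ (p = 2 ∧ ∃ i, c₁ = 0 ∧ c₂ = 2 ^ i ∧ d = 4) ∨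
  (p ≠ 2 ∧ ∃ i, c₁ = 0 ∧ c₂ = p ^ i ∧ d = 5) ∨ (p ≠ 2 ∧ ∃ i, c₁ = 2 * p ^ i ∧ c₂ = 0 ∧ d = 10) ∨
  (p = 5 ∧ ∃ i, c₁ = 5 ^ i ∧ c₂ = 5 ^ i ∧ d = 12)

section Upper

variable {K : Type u} [Field K]

theorem F1_sum (g h : V4 K ≃ₗ[K] V4 K) : F1 (g * h) =
    ∑ x : Fin 2 ⊕ Fin 2, g (Pi.single x 1) (.inr 0) * h (Pi.single (.inr 0) 1) x := by
  unfold F1
  change g (h _) _ = _
  conv_lhs => rw [← Finset.univ_sum_single (h (Pi.single (Sum.inr 0) 1))]
  rw [map_sum, Finset.sum_apply]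
  refine Finset.sum_congr rfl fun x _ => ?_
  have h1 : (Pi.single x (h (Pi.single (Sum.inr 0) 1) x) : V4 K) =
      h (Pi.single (Sum.inr 0) 1) x • Pi.single x 1 := by
    rw [← Pi.single_smul, smul_eq_mul, mul_one]
  rw [h1, map_smul, Pi.smul_apply, smul_eq_mul, mul_comm]

theorem row_sum (g : V4 K ≃ₗ[K] V4 K) (v : V4 K) (i : Fin 2 ⊕ Fin 2) :
    g v i = ∑ x : Fin 2 ⊕ Fin 2, g (Pi.single x 1) i * v x := by
  conv_lhs => rw [← Finset.univ_sum_single v]
  rw [map_sum, Finset.sum_apply]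
  refine Finset.sum_congr rfl fun x _ => ?_
  have h1 : (Pi.single x (v x) : V4 K) = v x • Pi.single x 1 := by
    rw [← Pi.single_smul, smul_eq_mul, mul_one]
  rw [h1, map_smul, Pi.smul_apply, smul_eq_mul, mul_comm]

/-- the minors of the first two columns -/
def mc (h : V4 K ≃ₗ[K] V4 K) (x y : Fin 2 ⊕ Fin 2) : K :=
  h (Pi.single (.inr 0) 1) x * h (Pi.single (.inr 1) 1) y - h (Pi.single (.inr 0) 1) y * h (Pi.single (.inr 1) 1) x

/-- the minors of the first two rows -/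
def mr (g : V4 K ≃ₗ[K] V4 K) (x y : Fin 2 ⊕ Fin 2) : K :=
  g (Pi.single x 1) (.inr 0) * g (Pi.single y 1) (.inr 1) - g (Pi.single x 1) (.inr 1) * g (Pi.single y 1) (.inr 0)

theorem F2_plucker (g h : V4 K ≃ₗ[K] V4 K) : F2 (g * h) =
    mr g (.inr 0) (.inr 1) * mc h (.inr 0) (.inr 1) + mr g (.inr 0) (.inl 1) * mc h (.inr 0) (.inl 1) +
    mr g (.inr 0) (.inl 0) * mc h (.inr 0) (.inl 0) + mr g (.inr 1) (.inl 1) * mc h (.inr 1) (.inl 1) +
    mr g (.inr 1) (.inl 0) * mc h (.inr 1) (.inl 0) + mr g (.inl 1) (.inl 0) * mc h (.inl 1) (.inl 0) := by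
  unfold F2
  change g (h _) _ * g (h _) _ - g (h _) _ * g (h _) _ = _
  rw [row_sum g (h (Pi.single (.inr 0) 1)) (.inr 0), row_sum g (h (Pi.single (.inr 1) 1)) (.inr 1),
    row_sum g (h (Pi.single (.inr 0) 1)) (.inr 1), row_sum g (h (Pi.single (.inr 1) 1)) (.inr 0)]
  simp only [Fintype.sum_sum_type, Fin.sum_univ_two, mr, mc]
  ring

theorem mc_rel {h : V4 K ≃ₗ[K] V4 K} (hh : h ∈ isos (_root_.Cfsg.Agent.TitsThree.SpIdent.form 2 K)) : mc h (.inr 0) (.inl 0) + mc h (.inr 1) (.inl 1) = 0 := by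
  have h1 := hh (Pi.single (.inr 0) 1) (Pi.single (.inr 1) 1)
  rw [h_eq, h_eq] at h1
  unfold mc
  simp only [_root_.Fin.isValue, _root_.Pi.single_eq_same, _root_.ne_eq, _root_.reduceCtorEq, _root_.not_false_eq_true, _root_.Pi.single_eq_of_ne, _root_.MulZeroClass.mul_zero, _root_.Sum.inr.injEq, _root_.zero_ne_one, _root_.sub_self, _root_.one_ne_zero, _root_.mul_one, _root_.add_zero] at h1
  linear_combination h1

theorem mr_rel {g : V4 K ≃ₗ[K] V4 K} (hg : g ∈ isos (_root_.Cfsg.Agent.TitsThree.SpIdent.form 2 K)) : mr g (.inr 0) (.inl 0) + mr g (.inr 1) (.inl 1) = 0 := by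
  have h1 := HForm.IsIso.inv _ hg (Pi.single (.inl 0) 1) (Pi.single (.inl 1) 1)
  have key : ∀ v w, (_root_.Cfsg.Agent.TitsThree.SpIdent.form 2 K).h v (g⁻¹ w) = (_root_.Cfsg.Agent.TitsThree.SpIdent.form 2 K).h (g v) w := by
    intro v w
    rw [← hg v (g⁻¹ w)]
    congr 1
    exact g.apply_symm_apply w
  have h2 : ∀ (v : V4 K) (i : Fin 2), g v (.inr i) = (_root_.Cfsg.Agent.TitsThree.SpIdent.form 2 K).h v (g⁻¹ (Pi.single (.inl i) 1)) := by
    intro v i
    rw [key, ← coord_inr]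
  have h3 : ∀ i : Fin 2, (g⁻¹ (Pi.single (.inl i) 1) : V4 K) = fun x => match x with
      | .inl m => g (Pi.single (.inr m) 1) (.inr i)
      | .inr m => -g (Pi.single (.inl m) 1) (.inr i) := by
    intro i
    funext x
    rcases x with m | m
    · change _ = g (Pi.single (.inr m) 1) (.inr i)
      rw [h2, h_eq]
      (revert m; simp only [_root_.Fin.forall_fin_succ, _root_.LinearEquiv.coe_inv, Fin.isValue, _root_.ne_eq, reduceCtorEq, _root_.not_false_eq_true, _root_.Pi.single_eq_of_ne, _root_.MulZeroClass.zero_mul, _root_.sub_zero, _root_.Pi.single_eq_same, _root_.one_mul, _root_.Sum.inr.injEq, _root_.one_ne_zero, _root_.add_zero, _root_.Fin.succ_ne_zero, _root_.Pi.single_eq_of_ne', _root_.zero_add, _root_.Fin.succ_zero_eq_one, _root_.IsEmpty.forall_iff, _root_.and_self])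
    · change _ = -g (Pi.single (.inl m) 1) (.inr i)
      rw [h2, h_eq]
      (revert m; simp only [_root_.Fin.forall_fin_succ, _root_.LinearEquiv.coe_inv, Fin.isValue, _root_.ne_eq, reduceCtorEq, _root_.not_false_eq_true, _root_.Pi.single_eq_of_ne, _root_.MulZeroClass.zero_mul, _root_.zero_sub, _root_.neg_add_rev, _root_.neg_neg, _root_.Sum.inl.injEq, _root_.one_ne_zero, _root_.Pi.single_eq_same, _root_.one_mul, _root_.zero_add, _root_.Fin.succ_ne_zero, _root_.Pi.single_eq_of_ne', _root_.add_zero, _root_.Fin.succ_zero_eq_one, _root_.IsEmpty.forall_iff, _root_.and_self])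
  rw [h3, h3, h_eq, h_eq] at h1
  unfold mr
  simp only [_root_.Fin.isValue, _root_.neg_mul, _root_.mul_neg, _root_.sub_neg_eq_add, _root_.ne_eq, _root_.reduceCtorEq, _root_.not_false_eq_true, _root_.Pi.single_eq_of_ne, _root_.Sum.inl.injEq, _root_.zero_ne_one, _root_.MulZeroClass.mul_zero, _root_.Pi.single_eq_same, _root_.sub_self, _root_.mul_one, _root_.one_ne_zero, _root_.add_zero] at h1
  linear_combination h1

end Upper


section Lower

variable {K : Type u} [Field K]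

/-- coordinate pairs -/
def ip (K : Type u) [Field K] (x y : Fin 4) (hxy : x ≠ y) (h : om (Pi.single x 1 : Fin 4 → K) (Pi.single y 1) = 0) :
    IsoPair K where
  a := Pi.single x 1
  b := Pi.single y 1
  iso := h
  ind := by
    rw [LinearIndependent.pair_iff]
    intro s t e
    have e0 := congrFun e x
    have e1 := congrFun e y
    simp [hxy, hxy.symm] at e0 e1
    exact ⟨e0, e1⟩

/-- four isotropic planes -/
def pl (K : Type u) [Field K] (i : Fin 4) : IsoPair K := match i with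
  | 0 => ip K 0 1 (by decide) (by simp [om])
  | 1 => ip K 0 2 (by decide) (by simp [om])
  | 2 => ip K 1 3 (by decide) (by simp [om])
  | 3 => ip K 2 3 (by decide) (by simp [om])

theorem D2_pl (i l : Fin 4) : D2 (pl K i) (pl K l) = if i = l then 1 else 0 := by
  unfold D2
  (revert i l; simp only [pl, ip, _root_.Fin.forall_fin_succ, Fin.isValue, _root_.dotProduct_single, _root_.mul_one, _root_.Fin.succ_zero_eq_one, _root_.Fin.succ_one_eq_two, Fin.reduceSucc, _root_.IsEmpty.forall_iff, _root_.and_true, _root_.Pi.single_eq_same, _root_.ne_eq, _root_.one_ne_zero, _root_.not_false_eq_true, _root_.Pi.single_eq_of_ne, _root_.zero_ne_one, _root_.MulZeroClass.mul_zero, _root_.sub_zero, ↓reduceIte, Fin.reduceEq, _root_.sub_self, _root_.and_self, _root_.Fin.succ_ne_zero])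

/-- four isotropic pairs -/
def pr (K : Type u) [Field K] (i : Fin 4) : IsoPair K := match i with
  | 0 => ip K 0 1 (by decide) (by simp [om])
  | 1 => ip K 1 0 (by decide) (by simp [om])
  | 2 => ip K 2 3 (by decide) (by simp [om])
  | 3 => ip K 3 2 (by decide) (by simp [om])

theorem D1_pr (i l : Fin 4) : D1 (pr K i) (pr K l) = if i = l then 1 else 0 := by
  unfold D1
  (revert i l; simp only [pr, ip, _root_.Fin.forall_fin_succ, Fin.isValue, _root_.dotProduct_single, _root_.mul_one, _root_.Fin.succ_zero_eq_one, _root_.Fin.succ_one_eq_two, Fin.reduceSucc, _root_.IsEmpty.forall_iff, _root_.and_true, _root_.Pi.single_eq_same, ↓reduceIte, _root_.ne_eq, _root_.one_ne_zero, _root_.not_false_eq_true, _root_.Pi.single_eq_of_ne, _root_.zero_ne_one, Fin.reduceEq, _root_.and_self, _root_.Fin.succ_ne_zero])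

end Lower

section Main

variable {K : Type u} [Field K] [Fintype K] {k V : Type*} [Field k] [AddCommGroup V] [Module k V]
  [FiniteDimensional k V] {ρ : isos (_root_.Cfsg.Agent.TitsThree.SpIdent.form 2 K) →* Module.End k V}

/-- **The modules of dimension at most 12.** -/
theorem good_of_coef (p : ℕ) [hp : Fact p.Prime] [CharP K p] [CharP k p]
    (hirr : ∀ L : Submodule k V, Ivt ρ ⊤ L → L = ⊥ ∨ L = ⊤) {j : K →+* k} {c₁ c₂ : ℕ} {c : V} (hc0 : c ≠ 0)
    {ψ : Module.Dual k V} (hψ0 : ψ ≠ 0) (hK : p = 2 → 4 ≤ Fintype.card K) (h₁ : c₁ ≤ Fintype.card K - 1)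
    (h₂ : c₂ ≤ Fintype.card K - 1) (h0 : ¬ (c₁ = 0 ∧ c₂ = 0))
    (hcoef : ∀ y : isos (_root_.Cfsg.Agent.TitsThree.SpIdent.form 2 K), ψ (ρ y c) = j (F1 y.1) ^ c₁ * j (F2 y.1) ^ c₂)
    (hV : Module.finrank k V ≤ 12) : Good p c₁ c₂ (Module.finrank k V) := by
  have hker : ∀ r s : IsoPair K, (ψ.comp (ρ (gr r)) : Module.Dual k V) (ρ (gc s) c) =
      j (D1 r s) ^ c₁ * j (D2 r s) ^ c₂ := by
    intro r s
    change ψ (ρ (gr r) (ρ (gc s) c)) = _
    rw [← rho_mul, hcoef, F1_pair, F2_pair]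
  -- the twisted embedding
  have htw : ∀ i : ℕ, ∃ j' : K →+* k, ∀ x, j' x = j x ^ p ^ i := by
    intro i
    have : ExpChar k p := ExpChar.prime hp.out
    exact ⟨(iterateFrobenius k p i).comp j, fun x => iterateFrobenius_def _ _ _⟩
  rcases H909.Sp4Ker.kernel_bound j h₁ h₂ h0 hK (fun r => ψ.comp (ρ (gr r))) (fun s => ρ (gc s) c) hker hV with
    ⟨i, rfl, rfl⟩ | ⟨hp2, i, rfl, rfl, h10⟩ | ⟨i, rfl, rfl, h5⟩ | ⟨rfl, i, rfl, rfl, h12⟩
  · left
    refine ⟨i, rfl, rfl, le_antisymm ?_ ?_⟩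
    · obtain ⟨j', hj'⟩ := htw i
      have h1 := finrank_le_of_kernel (G := ⊤) hirr hc0 hψ0 (α := Fin 2 ⊕ Fin 2)
        (fun g x => j' (g.1 (Pi.single x 1) (.inr 0))) (fun h x => j' (h.1 (Pi.single (.inr 0) 1) x)) (fun g _ h _ => by
          rw [hcoef, pow_zero, mul_one, ← hj']
          change j' (F1 (g.1 * h.1)) = _
          rw [F1_sum, map_sum]
          exact Finset.sum_congr rfl fun x _ => map_mul _ _ _)
      simpa using h1
    · have h1 := H909.Sp4Ker.le_of_biorth (d := (1 : k)) (fun i : Fin 4 => (ψ.comp (ρ (gr (pr K i))) : Module.Dual k V))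
        (fun l => ρ (gc (pr K l)) c) one_ne_zero (fun a b => by
          rw [hker, D1_pr, pow_zero, mul_one]
          by_cases hab : a = b
          · rw [if_pos hab, if_pos hab, map_one, one_pow]
          · rw [if_neg hab, if_neg hab, map_zero, zero_pow (pow_ne_zero _ hp.out.ne_zero)])
      simpa using h1
  · refine Or.inr (Or.inr (Or.inr (Or.inl ⟨hp2, i, rfl, rfl, le_antisymm ?_ h10⟩)))
    obtain ⟨j', hj'⟩ := htw i
    have h1 := finrank_le_of_kernel (G := ⊤) hirr hc0 hψ0 (α := Fin 10)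
      (fun g => let a := fun x => j' (g.1 (Pi.single x 1) (.inr 0))
        ![a (.inl 0) ^ 2, a (.inl 1) ^ 2, a (.inr 0) ^ 2, a (.inr 1) ^ 2, 2 * a (.inl 0) * a (.inl 1),
          2 * a (.inl 0) * a (.inr 0), 2 * a (.inl 0) * a (.inr 1), 2 * a (.inl 1) * a (.inr 0),
          2 * a (.inl 1) * a (.inr 1), 2 * a (.inr 0) * a (.inr 1)])
      (fun h => let b := fun x => j' (h.1 (Pi.single (.inr 0) 1) x)
        ![b (.inl 0) ^ 2, b (.inl 1) ^ 2, b (.inr 0) ^ 2, b (.inr 1) ^ 2, b (.inl 0) * b (.inl 1),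
          b (.inl 0) * b (.inr 0), b (.inl 0) * b (.inr 1), b (.inl 1) * b (.inr 0),
          b (.inl 1) * b (.inr 1), b (.inr 0) * b (.inr 1)]) (fun g _ h _ => by
        rw [hcoef, pow_zero, mul_one, mul_comm 2, pow_mul, ← hj']
        change j' (F1 (g.1 * h.1)) ^ 2 = _
        rw [F1_sum, Fintype.sum_sum_type, Fin.sum_univ_two, Fin.sum_univ_two]
        simp only [Fin.sum_univ_succ, _root_.Fin.isValue, _root_.map_add, _root_.map_mul, _root_.Fin.sum_univ_succ, _root_.Matrix.cons_val_zero, _root_.Matrix.cons_val_succ, _root_.Finset.univ_unique, _root_.Fin.default_eq_zero, _root_.Matrix.cons_val_fin_one, _root_.Finset.sum_const, _root_.Finset.card_singleton, _root_.one_smul]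
        ring)
    simpa using h1
  · obtain ⟨j', hj'⟩ := htw i
    by_cases hp2 : p = 2
    · subst hp2
      refine Or.inr (Or.inl ⟨rfl, i, rfl, rfl, le_antisymm ?_ ?_⟩)
      · have h1 := finrank_le_of_kernel (G := ⊤) hirr hc0 hψ0 (α := Fin 4)
          (fun g => ![j' (mr g.1 (.inr 0) (.inr 1)), j' (mr g.1 (.inr 0) (.inl 1)), j' (mr g.1 (.inr 1) (.inl 0)),
            j' (mr g.1 (.inl 1) (.inl 0))])
          (fun h => ![j' (mc h.1 (.inr 0) (.inr 1)), j' (mc h.1 (.inr 0) (.inl 1)), j' (mc h.1 (.inr 1) (.inl 0)),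
            j' (mc h.1 (.inl 1) (.inl 0))]) (fun g _ h _ => by
          rw [hcoef, pow_zero, one_mul, ← hj']
          change j' (F2 (g.1 * h.1)) = _
          have h2 := mc_rel h.2
          have h3 := mr_rel g.2
          have h4 : (2 : K) = 0 := by
            have := CharP.cast_eq_zero K 2
            exact_mod_cast this
          rw [F2_plucker]
          have h5 : mr g.1 (.inr 0) (.inl 0) * mc h.1 (.inr 0) (.inl 0) +
              mr g.1 (.inr 1) (.inl 1) * mc h.1 (.inr 1) (.inl 1) = 0 := by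
            linear_combination (mr g.1 (.inr 1) (.inl 1)) * h2 + mc h.1 (.inr 0) (.inl 0) * h3 -
              (mr g.1 (.inr 1) (.inl 1) * mc h.1 (.inr 0) (.inl 0)) * h4
          have h6 : mr g.1 (.inr 0) (.inr 1) * mc h.1 (.inr 0) (.inr 1) + mr g.1 (.inr 0) (.inl 1) * mc h.1 (.inr 0) (.inl 1) +
            mr g.1 (.inr 0) (.inl 0) * mc h.1 (.inr 0) (.inl 0) + mr g.1 (.inr 1) (.inl 1) * mc h.1 (.inr 1) (.inl 1) +
            mr g.1 (.inr 1) (.inl 0) * mc h.1 (.inr 1) (.inl 0) + mr g.1 (.inl 1) (.inl 0) * mc h.1 (.inl 1) (.inl 0) =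
            mr g.1 (.inr 0) (.inr 1) * mc h.1 (.inr 0) (.inr 1) + mr g.1 (.inr 0) (.inl 1) * mc h.1 (.inr 0) (.inl 1) +
            mr g.1 (.inr 1) (.inl 0) * mc h.1 (.inr 1) (.inl 0) + mr g.1 (.inl 1) (.inl 0) * mc h.1 (.inl 1) (.inl 0) := by
            linear_combination h5
          rw [h6]
          simp only [Fin.sum_univ_succ, _root_.Fin.isValue, _root_.map_add, _root_.map_mul, _root_.Fin.sum_univ_succ, _root_.Matrix.cons_val_zero, _root_.Matrix.cons_val_succ, _root_.Finset.univ_unique, _root_.Fin.default_eq_zero, _root_.Matrix.cons_val_fin_one, _root_.Finset.sum_const, _root_.Finset.card_singleton, _root_.one_smul]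
          ring)
        simpa using h1
      · have h1 := H909.Sp4Ker.le_of_biorth (d := (1 : k))
          (fun i : Fin 4 => (ψ.comp (ρ (gr (pl K i))) : Module.Dual k V))
          (fun l => ρ (gc (pl K l)) c) one_ne_zero (fun a b => by
            rw [hker, D2_pl, pow_zero, one_mul]
            by_cases hab : a = b
            · rw [if_pos hab, if_pos hab, map_one, one_pow]
            · rw [if_neg hab, if_neg hab, map_zero, zero_pow (pow_ne_zero _ hp.out.ne_zero)])
        simpa using h1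
    · refine Or.inr (Or.inr (Or.inl ⟨hp2, i, rfl, rfl, le_antisymm ?_ (h5 hp2)⟩))
      have h1 := finrank_le_of_kernel (G := ⊤) hirr hc0 hψ0 (α := Fin 5)
        (fun g => ![j' (mr g.1 (.inr 0) (.inr 1)), j' (mr g.1 (.inr 0) (.inl 1)), j' (mr g.1 (.inr 1) (.inl 0)),
          j' (mr g.1 (.inl 1) (.inl 0)), j' (mr g.1 (.inr 0) (.inl 0) - mr g.1 (.inr 1) (.inl 1))])
        (fun h => ![j' (mc h.1 (.inr 0) (.inr 1)), j' (mc h.1 (.inr 0) (.inl 1)), j' (mc h.1 (.inr 1) (.inl 0)),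
          j' (mc h.1 (.inl 1) (.inl 0)), j' (mc h.1 (.inr 0) (.inl 0))]) (fun g _ h _ => by
        rw [hcoef, pow_zero, one_mul, ← hj']
        change j' (F2 (g.1 * h.1)) = _
        have h2 := mc_rel h.2
        rw [F2_plucker]
        have h6 : mr g.1 (.inr 0) (.inr 1) * mc h.1 (.inr 0) (.inr 1) + mr g.1 (.inr 0) (.inl 1) * mc h.1 (.inr 0) (.inl 1) +
          mr g.1 (.inr 0) (.inl 0) * mc h.1 (.inr 0) (.inl 0) + mr g.1 (.inr 1) (.inl 1) * mc h.1 (.inr 1) (.inl 1) +
          mr g.1 (.inr 1) (.inl 0) * mc h.1 (.inr 1) (.inl 0) + mr g.1 (.inl 1) (.inl 0) * mc h.1 (.inl 1) (.inl 0) =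
          mr g.1 (.inr 0) (.inr 1) * mc h.1 (.inr 0) (.inr 1) + mr g.1 (.inr 0) (.inl 1) * mc h.1 (.inr 0) (.inl 1) +
          mr g.1 (.inr 1) (.inl 0) * mc h.1 (.inr 1) (.inl 0) + mr g.1 (.inl 1) (.inl 0) * mc h.1 (.inl 1) (.inl 0) +
          (mr g.1 (.inr 0) (.inl 0) - mr g.1 (.inr 1) (.inl 1)) * mc h.1 (.inr 0) (.inl 0) := by
          linear_combination (mr g.1 (.inr 1) (.inl 1)) * h2
        rw [h6]
        simp only [Fin.sum_univ_succ, _root_.Fin.isValue, _root_.map_add, _root_.map_mul, _root_.map_sub, _root_.Fin.sum_univ_succ, _root_.Matrix.cons_val_zero, _root_.Matrix.cons_val_succ, _root_.Finset.univ_unique, _root_.Fin.default_eq_zero, _root_.Matrix.cons_val_fin_one, _root_.Finset.sum_const, _root_.Finset.card_singleton, _root_.one_smul]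
        ring)
      simpa using h1
  · exact Or.inr (Or.inr (Or.inr (Or.inr ⟨rfl, i, rfl, rfl, h12⟩)))

end Main

end Cfsg.Agent.H905.Sp4
end

-- part: H905/Sp4Final
section
/-!
# `PSp_4(K)` in the defining characteristic, degree at most 12 (helper905)

`P ≤ GL(ι, F)` a core, `P / scalars ≃ PSp_4(K)`, `3 ≤ |K|`, `char F = char K = p`, `|ι| ≤ 12`.

* `Data P K p` : the representation of `Sp_4(K)` with its highest weight vector and matrix coefficient; `exists_data`;
* `Data.field` : `K` embeds into `F`; `Data.sign` : the sign of an invariant form;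
* **`core_psp4`** : `|F| = |K|`, `SD P` and `|ι| = 4`, or `p` odd, `|ι| = 5, 10` and a quadratic form, or `p = 5`,
  `|ι| = 12` and an alternating form.
-/

set_option autoImplicit false
set_option linter.unusedSectionVars false
set_option linter.style.haveILetI false

namespace Cfsg.Agent.H905.Sp4

open CoxeterSystem Cfsg.Agent.ChevalleyStructure.CoxeterGeom Cfsg.Agent.Tits.Roots Cfsg.Agent.Nodes.TypeC
open Cfsg.Agent.Nodes.Comb Cfsg.Agent.Nodes.Reps Cfsg.Agent.Nodes.WittRoot Cfsg.Agent.Nodes.BNOf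
open Cfsg.Agent.Nodes.WittRGD Cfsg.Agent.Nodes.RGDLib Cfsg.Agent.Nodes.OppDec Cfsg.Agent.Nodes.WittAll
open Cfsg.Agent.Nodes.Bruhat Cfsg.Agent.Omega.CR Cfsg.Agent.Omega.FOne.Lift.Sd Cfsg.Agent.Nodes.StabComb
open Cfsg.Agent.Tits.Core Cfsg.Agent.Tits.Exchange Cfsg.Agent.H905.Md Cfsg.Agent.KFacts.RgdOpp
open Cfsg.Agent.TitsThree Cfsg.Agent.TitsThree.Siegel Cfsg.Agent.TitsThree.WittFrame
  Cfsg.Agent.TitsThree.FrameCN Cfsg.Agent.TitsThree.SpIdent Cfsg.Agent.TitsThree.SpGen
open Cfsg.Agent.H62.SpCross Cfsg.Agent.H62.FrameSL Cfsg.Agent.H911 Cfsg.Agent.H67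
open Cfsg Cfsg.Geo Cfsg.Agent.H915.LD Cfsg.Agent.H151.Six
open scoped MatrixGroups Matrix commutatorElement

universe u

/-! ### the quarter turn -/

section Turn

variable {K : Type u} [Field K]

/-- the quarter turn -/
def turnL (K : Type u) [Field K] : V4 K ≃ₗ[K] V4 K where
  toFun v := Sum.elim (fun i => v (.inr i)) (fun i => -v (.inl i))
  map_add' v w := by
    funext x
    rcases x with x | x
    · rfl
    · change -(v (.inl x) + w (.inl x)) = -v (.inl x) + -w (.inl x)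
      ring
  map_smul' a v := by
    funext x
    rcases x with x | x
    · rfl
    · change -(a * v (.inl x)) = a * -v (.inl x)
      ring
  invFun v := Sum.elim (fun i => -v (.inr i)) (fun i => v (.inl i))
  left_inv v := by
    funext x
    rcases x with x | x
    · change - -v (.inl x) = v (.inl x)
      ring
    · rfl
  right_inv v := by
    funext x
    rcases x with x | x
    · rfl
    · change - -v (.inr x) = v (.inr x)
      ring

theorem turnL_inl (v : V4 K) (i : Fin 2) : turnL K v (.inl i) = v (.inr i) := rfl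

theorem turnL_inr (v : V4 K) (i : Fin 2) : turnL K v (.inr i) = -v (.inl i) := rfl

/-- the quarter turn in `Sp_4(K)` -/
def turn (K : Type u) [Field K] : isos (_root_.Cfsg.Agent.TitsThree.SpIdent.form 2 K) := ⟨turnL K, fun v w => by
  rw [h_eq, h_eq]
  simp only [turnL_inl, turnL_inr]
  ring⟩

theorem turn_sq (v : V4 K) : (turn K * turn K).1 v = -v := by
  change turnL K (turnL K v) = -v
  funext x
  rcases x with x | x
  · rw [turnL_inl, turnL_inr]
    rfl
  · rw [turnL_inr, turnL_inl]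
    rfl

theorem F1_turn : F1 (turn K * turn K).1 = -1 := by
  unfold F1
  rw [turn_sq]
  simp

theorem F2_turn : F2 (turn K * turn K).1 = 1 := by
  unfold F2
  rw [turn_sq, turn_sq]
  simp

theorem turn_mono : Mono (frame 2 K) (turn K).1 ng := by
  rintro ⟨i, s⟩
  cases s
  · refine ⟨-1, by simp, ?_⟩
    change turnL K (Pi.single (.inl i) 1) = (-1 : K) • (Pi.single (.inr i) 1 : V4 K)
    funext x
    rcases x with x | x
    · rw [turnL_inl]
      simp
    · rw [turnL_inr]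
      by_cases hx : x = i
      · subst hx; simp
      · simp [hx]
  · refine ⟨1, by simp, ?_⟩
    change turnL K (Pi.single (.inr i) 1) = (1 : K) • (Pi.single (.inl i) 1 : V4 K)
    funext x
    rcases x with x | x
    · rw [turnL_inl]
      by_cases hx : x = i
      · subst hx; simp
      · simp [hx]
    · rw [turnL_inr]
      simp

theorem turn_sq_mem : turn K * turn K ∈ T4 K := by
  rw [mem_T]
  have h1 := turn_mono (K := K)
  have h2 := (h1.mul h1).congr (ρ := id) fun x => ng_ng x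
  exact h2

variable [Finite K] {W : Type*} [Group W] (cs : CoxeterSystem (CoxeterMatrix.B 2) W) (p : ℕ)
  [hp : Fact p.Prime]

/-- the quarter turn represents `w₀ = -1` -/
theorem rp_turn [CharP K p] : ∃ v : W, (∀ x, rep cs (isCartan 2) v x = -x) ∧ Rp cs (R4 (K := K) (p := p) cs).nsys v (turn K) := by
  obtain ⟨v, hv, k, hk, h1, h2⟩ := exists_neg (model 2 K) (ambT K p) (p0 := adm 1)
    (show (1 : K) ≠ 0 from one_ne_zero) (cs := cs) (R4 (K := K) (p := p) cs).nsys
  refine ⟨v, hv, ?_⟩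
  set k' : isos (_root_.Cfsg.Agent.TitsThree.SpIdent.form 2 K) := ⟨k, hk⟩ with hk'
  have h3 : k'⁻¹ * turn K ∈ T4 K := by
    rw [mem_T]
    have h4 : Mono (frame 2 K) k⁻¹ ng := h2.inv (ρ := ng) fun x => ng_ng x
    exact (h4.mul turn_mono).congr (ρ := id) fun x => ng_ng x
  have h4 := h1.mul (rp_of_mem (cs := cs) (hN := (R4 (K := K) (p := p) cs).nsys) h3)
  have h5 : (model 2 K).φ ⟨k, hk⟩ * (k'⁻¹ * turn K) = turn K := by
    change k' * (k'⁻¹ * turn K) = turn K
    group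
  rwa [h5, mul_one] at h4

include p hp in
theorem turn_conj [CharP K p] : ∀ u ∈ RGD.Sup (X4 K) (RGD.Pos cs (isCartan 2)),
    turn K * u * (turn K)⁻¹ ∈ UN cs (isCartan 2) (X4 K) := by
  obtain ⟨v, hv, h1⟩ := rp_turn (K := K) cs p
  haveI := finite_isos (m := 2) (F := K)
  intro u hu
  rw [← conj_UN (R4 (K := K) (p := p) cs) hv h1]
  exact conj_mem_cj.2 hu

include p hp in
theorem turn_conj' [CharP K p] : ∀ u ∈ UN cs (isCartan 2) (X4 K),
    (turn K)⁻¹ * u * turn K ∈ RGD.Sup (X4 K) (RGD.Pos cs (isCartan 2)) := by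
  obtain ⟨v, hv, h1⟩ := rp_turn (K := K) cs p
  haveI := finite_isos (m := 2) (F := K)
  intro u hu
  rw [← conj_UN (R4 (K := K) (p := p) cs) hv h1] at hu
  exact mem_cj.1 hu

end Turn

/-! ### the data of a core -/

section Core

variable {F : Type*} [Field F] {ι : Type} [Fintype ι] [DecidableEq ι]

/-- the simple module of `Sp_4(K)` with its highest weight vector -/
structure Data (P : Subgroup (GL ι F)) (K : Type u) [Field K] [Finite K] (p : ℕ) where
  rep : isos (_root_.Cfsg.Agent.TitsThree.SpIdent.form 2 K) →* GL ι F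
  range_rep : rep.range = P
  j : K →+* AlgebraicClosure F
  a : ℕ
  b : ℕ
  v : ι → AlgebraicClosure F
  ψ : Module.Dual (AlgebraicClosure F) (ι → AlgebraicClosure F)
  v_mem : v ∈ D (CoxeterMatrix.B 2).toCoxeterSystem (isCartan 2) (X4 K) (lin (acRep rep))
  ψ_mem : ψ ∈ fx ((dualRep (lin (acRep rep)) :)) (UN (CoxeterMatrix.B 2).toCoxeterSystem (isCartan 2) (X4 K))
  pair : ψ v = 1
  tor : ∀ t ∈ T4 K, lin (acRep rep) t v = (j (F1 t.1) ^ a * j (F2 t.1) ^ b) • v
  coef : ∀ y : isos (_root_.Cfsg.Agent.TitsThree.SpIdent.form 2 K), ψ (lin (acRep rep) y v) = j (F1 y.1) ^ a * j (F2 y.1) ^ b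
  irr : ∀ L : Submodule (AlgebraicClosure F) (ι → AlgebraicClosure F), Ivt (lin (acRep rep)) ⊤ L → L = ⊥ ∨ L = ⊤
  good : Good p a b (Fintype.card ι)

theorem Data.v_ne {P : Subgroup (GL ι F)} {K : Type u} [Field K] [Finite K] {p : ℕ} (D : Data P K p) : D.v ≠ 0 := by
  intro h
  have h1 := D.pair
  rw [h, map_zero] at h1
  exact zero_ne_one h1

variable [Finite F] {P : Subgroup (GL ι F)} {K : Type u} [Field K] [Finite K] (p : ℕ) [hp : Fact p.Prime]
  [hFp : CharP F p] [hKp : CharP K p]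
include hFp hKp

omit [Finite F] in
theorem exists_lift_ac : Nonempty (K →+* AlgebraicClosure F) := by
  have hchar : CharP (AlgebraicClosure F) p := charP_of_injective_algebraMap (algebraMap F _).injective p
  letI : Algebra (ZMod p) K := ZMod.algebra K p
  letI : Algebra (ZMod p) (AlgebraicClosure F) := ZMod.algebra _ p
  haveI : Algebra.IsAlgebraic (ZMod p) K := Algebra.IsAlgebraic.of_finite _ _
  exact ⟨(IsAlgClosed.lift : K →ₐ[ZMod p] AlgebraicClosure F).toRingHom⟩

theorem exists_rep (hC : Core P) (hK : 3 ≤ Nat.card K) (Φ : Soc P ≃* PSp 2 K) :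
    ∃ φ : isos (_root_.Cfsg.Agent.TitsThree.SpIdent.form 2 K) →* GL ι F, φ.range = P := by
  obtain ⟨φ, h1, -, -⟩ := psp_cover p hC.perfect (by norm_num) (Or.inr (Or.inl ⟨rfl, hK⟩)) Φ
  refine ⟨φ.comp (isoSp 2 K).toMonoidHom, ?_⟩
  rw [← h1]
  ext y
  constructor
  · rintro ⟨x, rfl⟩
    exact ⟨_, rfl⟩
  · rintro ⟨x, rfl⟩
    refine ⟨(isoSp 2 K).symm x, ?_⟩
    change φ (isoSp 2 K ((isoSp 2 K).symm x)) = φ x
    rw [MulEquiv.apply_symm_apply]

theorem exists_data (hC : Core P) (hK : 3 ≤ Nat.card K) (Φ : Soc P ≃* PSp 2 K) (hn : Fintype.card ι ≤ 12) :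
    Nonempty (Data P K p) := by
  have := Fintype.ofFinite K
  have hchar : CharP (AlgebraicClosure F) p := charP_of_injective_algebraMap (algebraMap F _).injective p
  haveI := hC.nonempty
  obtain ⟨φ, hφ⟩ := exists_rep p hC hK Φ
  obtain ⟨j⟩ := exists_lift_ac (F := F) (K := K) p
  have hirr : ∀ L : Submodule (AlgebraicClosure F) (ι → AlgebraicClosure F),
      Ivt (lin (acRep φ)) ⊤ L → L = ⊥ ∨ L = ⊤ :=
    fun L hL => acRep_irr hφ (H920.span_eq_top hC.absIrred) rfl L hL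
  have hfin : Module.finrank (AlgebraicClosure F) (ι → AlgebraicClosure F) = Fintype.card ι :=
    Module.finrank_fintype_fun_eq_card _
  obtain ⟨c₁, c₂, c, ψ, h1, h2, h3, h4, h5, h6, h7, h8⟩ := exists_coef (CoxeterMatrix.B 2).toCoxeterSystem p hirr
    (by rw [hfin]; exact hC.two_le) j
  have hc0 : c ≠ 0 := by
    rintro rfl
    rw [map_zero] at h6
    exact zero_ne_one h6
  have hψ0 : ψ ≠ 0 := by
    rintro rfl
    exact zero_ne_one h6
  have hgood := good_of_coef p hirr hc0 hψ0 (by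
    rintro rfl
    obtain ⟨a, -, ha⟩ := FiniteField.card K 2
    rw [Nat.card_eq_fintype_card, ha] at hK
    rw [ha]
    rcases Nat.lt_or_ge (a : ℕ) 2 with h | h
    · interval_cases h9 : (a : ℕ)
      · simp at hK
      · simp at hK
    · calc 4 = 2 ^ 2 := by norm_num
        _ ≤ 2 ^ (a : ℕ) := Nat.pow_le_pow_right (by norm_num) h) (by rwa [← Nat.card_eq_fintype_card])
    (by rwa [← Nat.card_eq_fintype_card]) h3 h8 (by rwa [hfin])
  rw [hfin] at hgood
  exact ⟨⟨φ, hφ, j, c₁, c₂, c, ψ, h4, h5, h6, h7, h8, hirr, hgood⟩⟩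

end Core

/-! ### the field -/

section Field

variable {F : Type*} [Field F] [Finite F] {ι : Type} [Fintype ι] [DecidableEq ι] {P : Subgroup (GL ι F)}
  {K : Type u} [Field K] [Finite K] {p : ℕ} [hp : Fact p.Prime] [hFp : CharP F p] [hKp : CharP K p]

/-- the values of the highest weight are in `F` -/
theorem Data.chi_mem (D : Data P K p) (hC : Core P) {t : isos (_root_.Cfsg.Agent.TitsThree.SpIdent.form 2 K)} (ht : t ∈ T4 K) :
    ∃ x : F, algebraMap F (AlgebraicClosure F) x = D.j (F1 t.1) ^ D.a * D.j (F2 t.1) ^ D.b := by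
  haveI := finite_isos (m := 2) (F := K)
  haveI := hC.nonempty
  haveI : Finite (CoxeterMatrix.B 2).Group := finite_W (CoxeterMatrix.B 2).toCoxeterSystem
  exact Md.chi_mem (R4 (K := K) (p := p) (CoxeterMatrix.B 2).toCoxeterSystem) (GG4 _) D.range_rep hC.absIrred
    D.v_mem D.v_ne D.tor ht

omit [Finite K] hKp in
/-- `p`-th roots -/
theorem mem_of_pow_mem {x : AlgebraicClosure F} (i : ℕ)
    (h : ∃ y : F, algebraMap F (AlgebraicClosure F) y = x ^ p ^ i) :
    ∃ y : F, algebraMap F (AlgebraicClosure F) y = x := by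
  have hchar : CharP (AlgebraicClosure F) p := charP_of_injective_algebraMap (algebraMap F _).injective p
  obtain ⟨y, hy⟩ := h
  have h1 : Function.Surjective (iterateFrobenius F p i) :=
    Finite.injective_iff_surjective.1 (iterateFrobenius_inj F p i)
  obtain ⟨z, rfl⟩ := h1 y
  refine ⟨z, iterateFrobenius_inj (AlgebraicClosure F) p i ?_⟩
  rw [iterateFrobenius_def, iterateFrobenius_def, ← hy, iterateFrobenius_def, map_pow]

omit hp hFp hKp [Finite F] [Finite K] in
theorem exists_hom_of_mem (j : K →+* AlgebraicClosure F)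
    (h : ∀ x : K, ∃ y : F, algebraMap F (AlgebraicClosure F) y = j x) :
    ∃ s : K →+* F, ∀ x, algebraMap F (AlgebraicClosure F) (s x) = j x := by
  choose f hf using h
  refine ⟨⟨⟨⟨f, ?_⟩, ?_⟩, ?_, ?_⟩, hf⟩
  · apply (algebraMap F (AlgebraicClosure F)).injective
    rw [hf, map_one, map_one]
  · intro x y
    apply (algebraMap F (AlgebraicClosure F)).injective
    change algebraMap F (AlgebraicClosure F) (f (x * y)) = algebraMap F (AlgebraicClosure F) (f x * f y)
    rw [hf, map_mul, map_mul, hf, hf]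
  · apply (algebraMap F (AlgebraicClosure F)).injective
    change algebraMap F (AlgebraicClosure F) (f 0) = algebraMap F (AlgebraicClosure F) 0
    rw [hf, map_zero, map_zero]
  · intro x y
    apply (algebraMap F (AlgebraicClosure F)).injective
    change algebraMap F (AlgebraicClosure F) (f (x + y)) = algebraMap F (AlgebraicClosure F) (f x + f y)
    rw [hf, map_add, map_add, hf, hf]

/-- the image of `K` is in `F` -/
theorem Data.mem_j (D : Data P K p) (hC : Core P) : ∀ x : K, ∃ y : F, algebraMap F (AlgebraicClosure F) y = D.j x := by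
  have hchar : CharP (AlgebraicClosure F) p := charP_of_injective_algebraMap (algebraMap F _).injective p
  -- units suffice
  have hunit : (∀ s : Kˣ, ∃ y : F, algebraMap F (AlgebraicClosure F) y = D.j s) →
      ∀ x : K, ∃ y : F, algebraMap F (AlgebraicClosure F) y = D.j x := by
    intro h x
    rcases eq_or_ne x 0 with rfl | hx
    · exact ⟨0, by rw [map_zero, map_zero]⟩
    · exact h (Units.mk0 x hx)
  rcases D.good with ⟨i, h1, h2, -⟩ | ⟨hp2, i, h1, h2, -⟩ | ⟨-, i, h1, h2, -⟩ | ⟨hp2, i, h1, h2, -⟩ | ⟨hp5, i, h1, h2, -⟩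
  · apply hunit
    intro s
    have h3 := D.chi_mem hC (dgY_mem ![s, 1])
    rw [F1_dg, F2_dg, h1, h2] at h3
    apply mem_of_pow_mem (p := p) i
    simpa using h3
  · apply hunit
    intro s
    have h3 := D.chi_mem hC (dgY_mem ![1, s])
    rw [F1_dg, F2_dg, h1, h2] at h3
    subst hp2
    apply mem_of_pow_mem (p := 2) i
    simpa only [_root_.Fin.isValue, _root_.Matrix.cons_val_zero, _root_.Units.val_one, _root_.map_one, _root_.pow_zero, _root_.Matrix.cons_val_one, _root_.Matrix.cons_val_fin_one, _root_.one_mul] using h3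
  · apply hunit
    intro s
    have h3 := D.chi_mem hC (dgY_mem ![1, s])
    rw [F1_dg, F2_dg, h1, h2] at h3
    apply mem_of_pow_mem (p := p) i
    simpa only [_root_.Fin.isValue, _root_.Matrix.cons_val_zero, _root_.Units.val_one, _root_.map_one, _root_.pow_zero, _root_.Matrix.cons_val_one, _root_.Matrix.cons_val_fin_one, _root_.one_mul] using h3
  · -- squares
    have h2K : (2 : K) ≠ 0 := by
      intro h
      have h5 : ((2 : ℕ) : K) = 0 := by exact_mod_cast h
      rw [CharP.cast_eq_zero_iff K p] at h5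
      exact hp2 ((Nat.prime_dvd_prime_iff_eq hp.out Nat.prime_two).1 h5)
    have hsq : ∀ x : K, ∃ y : F, algebraMap F (AlgebraicClosure F) y = D.j (x ^ 2) := by
      intro x
      rcases eq_or_ne x 0 with rfl | hx
      · exact ⟨0, by simp⟩
      · have h3 := D.chi_mem hC (dgY_mem ![Units.mk0 x hx, 1])
        rw [F1_dg, F2_dg, h1, h2] at h3
        apply mem_of_pow_mem (p := p) i
        simpa only [pow_mul, _root_.map_pow, _root_.Fin.isValue, _root_.Matrix.cons_val_zero, _root_.Units.val_mk0, _root_.Matrix.cons_val_one, _root_.Matrix.cons_val_fin_one, _root_.Units.val_one, _root_.mul_one, _root_.pow_zero] using h3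
    intro x
    obtain ⟨y, hy⟩ := hsq ((x + 1) / 2)
    obtain ⟨z, hz⟩ := hsq ((x - 1) / 2)
    refine ⟨y - z, ?_⟩
    rw [map_sub, hy, hz, ← map_sub]
    congr 1
    field_simp
    ring
  · apply hunit
    intro s
    have h3 := D.chi_mem hC (dgY_mem ![s, s⁻¹])
    rw [F1_dg, F2_dg, h1, h2] at h3
    subst hp5
    apply mem_of_pow_mem (p := 5) i
    simpa only [_root_.Fin.isValue, _root_.Matrix.cons_val_zero, _root_.Matrix.cons_val_one, _root_.Matrix.cons_val_fin_one, _root_.Units.val_inv_eq_inv_val, _root_.ne_eq, _root_.Units.ne_zero, _root_.not_false_eq_true, _root_.mul_inv_cancel₀, _root_.map_one, _root_.one_pow, _root_.mul_one] using h3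

/-- `j` has its values in `F` -/
theorem Data.exists_hom (D : Data P K p) (hC : Core P) :
    ∃ s : K →+* F, ∀ x, algebraMap F (AlgebraicClosure F) (s x) = D.j x :=
  exists_hom_of_mem D.j (D.mem_j hC)

/-- **`K` embeds into `F`.** -/
theorem Data.field (D : Data P K p) (hC : Core P) : Nonempty (K →+* F) :=
  let ⟨s, _⟩ := D.exists_hom hC
  ⟨s⟩

theorem card_eq_of_fr (hC : Core P) (D : Data P K p) (hfr : Fr P (Nat.card K)) : Nat.card F = Nat.card K := by
  have := Fintype.ofFinite K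
  obtain ⟨a, -, ha⟩ := FiniteField.card K p
  have hcard : Nat.card K = p ^ (a : ℕ) := by rw [Nat.card_eq_fintype_card, ha]
  rw [hcard] at hfr
  obtain ⟨j, hj, hj'⟩ := card_pow_eq (F := F) p a.ne_zero (hC.pow_eq p hfr)
  obtain ⟨f⟩ := D.field hC
  have h1 : Nat.card K ≤ Nat.card F := Nat.card_le_card_of_injective f f.injective
  rw [← hcard] at hj'
  have h2 : 1 < Nat.card F := Finite.one_lt_card
  have h3 : j = 1 := by
    by_contra hne
    have h4 : Nat.card F ^ 1 < Nat.card F ^ j := Nat.pow_lt_pow_right h2 (by omega)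
    rw [pow_one] at h4
    omega
  rw [h3, pow_one] at hj'
  exact hj'

end Field

/-! ### the forms -/

section Forms

variable {F : Type*} [Field F] [Finite F] {ι : Type} [Fintype ι] [DecidableEq ι] {P : Subgroup (GL ι F)}
  {K : Type u} [Field K] [Finite K] {p : ℕ} [hp : Fact p.Prime] [hFp : CharP F p] [hKp : CharP K p]

/-- **The sign of an invariant form.** -/
theorem Data.sign (D : Data P K p) (hC : Core P) {B : Matrix ι ι F} {ε : F} (hB : Bᵀ = ε • B) (hdet : IsUnit B.det)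
    (hfix : ∀ g ∈ P, (g : Matrix ι ι F)ᵀ * B * (g : Matrix ι ι F) = B) : ε * (-1) ^ D.a = 1 := by
  haveI := finite_isos (m := 2) (F := K)
  haveI := hC.nonempty
  haveI : Finite (CoxeterMatrix.B 2).Group := finite_W (CoxeterMatrix.B 2).toCoxeterSystem
  have h1 := form_sign (R4 (K := K) (p := p) (CoxeterMatrix.B 2).toCoxeterSystem) (GG4 _) D.range_rep hC.absIrred
    hB hdet hfix (turn_conj (K := K) (CoxeterMatrix.B 2).toCoxeterSystem p) D.v_mem D.v_ne D.tor
    (D.tor _ turn_sq_mem)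
  rw [F1_turn, F2_turn, map_one, one_pow, mul_one, map_neg, map_one] at h1
  apply (algebraMap F (AlgebraicClosure F)).injective
  rw [map_mul, map_pow, map_neg, map_one, h1]

theorem Data.even_of_fixQ (D : Data P K p) (hC : Core P) (hp2 : p ≠ 2) (h : FixQ P) : Even D.a := by
  obtain ⟨B, h1, h2, h3⟩ := exists_symm h
  have h4 := D.sign hC (ε := 1) (by rw [one_smul]; exact h1) h2 h3
  rw [one_mul] at h4
  by_contra hodd
  rw [Nat.not_even_iff_odd] at hodd
  rw [hodd.neg_one_pow] at h4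
  have h5 : ((2 : ℕ) : F) = 0 := by push_cast; linear_combination -h4
  rw [CharP.cast_eq_zero_iff F p] at h5
  exact hp2 ((Nat.prime_dvd_prime_iff_eq hp.out Nat.prime_two).1 h5)

theorem Data.odd_of_fixA (D : Data P K p) (hC : Core P) (hp2 : p ≠ 2) (h : FixA P) : Odd D.a := by
  obtain ⟨B, h1, h2, h3⟩ := exists_skew h
  have h4 := D.sign hC (ε := -1) (by rw [neg_one_smul]; exact h1) h2 h3
  by_contra heven
  rw [Nat.not_odd_iff_even] at heven
  rw [heven.neg_one_pow] at h4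
  have h5 : ((2 : ℕ) : F) = 0 := by push_cast; linear_combination -h4
  rw [CharP.cast_eq_zero_iff F p] at h5
  exact hp2 ((Nat.prime_dvd_prime_iff_eq hp.out Nat.prime_two).1 h5)

variable (p)
include hp hFp hKp

theorem sd_psp4 (hC : Core P) (hK : 3 ≤ Nat.card K) (Φ : Soc P ≃* PSp 2 K) : SD P ∧ Fr P (Nat.card K) := by
  haveI := hC.nonempty
  exact ⟨fun g hg => (psp_both p hC.absIrred hC.perfect (by norm_num) (Or.inr (Or.inl ⟨rfl, hK⟩)) Φ hg).2,
    fun g hg => (psp_both p hC.absIrred hC.perfect (by norm_num) (Or.inr (Or.inl ⟨rfl, hK⟩)) Φ hg).1⟩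

/-- **`PSp_4(K)` in the defining characteristic, degree at most 12.** -/
theorem core_psp4 (hC : Core P) (hK : 3 ≤ Nat.card K) (Φ : Soc P ≃* PSp 2 K) (hn : Fintype.card ι ≤ 12) :
    SD P ∧ Nat.card F = Nat.card K ∧ (
      (Fintype.card ι = 4 ∧ FixA P ∧ (p ≠ 2 → ¬ FixQ P)) ∨
      (p ≠ 2 ∧ Fintype.card ι = 5 ∧ FixQ P ∧ ¬ FixA P) ∨
      (p ≠ 2 ∧ Fintype.card ι = 10 ∧ FixQ P ∧ ¬ FixA P) ∨
      (p = 5 ∧ Fintype.card ι = 12 ∧ FixA P ∧ ¬ FixQ P)) := by
  obtain ⟨hsd, hfr⟩ := sd_psp4 p hC hK Φ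
  obtain ⟨D⟩ := exists_data p hC hK Φ hn
  have hF := card_eq_of_fr hC D hfr
  refine ⟨hsd, hF, ?_⟩
  have hform := hC.forms_of_sd hsd
  have hpodd : p ≠ 2 → Odd p := fun h => hp.out.odd_of_ne_two h
  have hA : p ≠ 2 → Even D.a → FixQ P ∧ ¬ FixA P := by
    intro h2 he
    have h3 : ¬ FixA P := fun h => (Nat.not_even_iff_odd.2 (D.odd_of_fixA hC h2 h)) he
    exact ⟨hform.resolve_right h3, h3⟩
  have hQ : p ≠ 2 → Odd D.a → FixA P ∧ ¬ FixQ P := by
    intro h2 ho
    have h3 : ¬ FixQ P := fun h => (Nat.not_odd_iff_even.2 (D.even_of_fixQ hC h2 h)) ho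
    exact ⟨hform.resolve_left h3, h3⟩
  have hchar2 : p = 2 → FixA P := by
    rintro rfl
    rcases hform with h | h
    · obtain ⟨Q, hQ, hfix⟩ := h
      have h2F : (2 : F) = 0 := CharTwo.two_eq_zero
      refine ⟨QuadraticMap.polar Q, ⟨hQ.polar_bilinear, ?_, ?_, hQ.nondegenerate⟩, ?_⟩
      · intro v w
        rw [QuadraticMap.polar_comm, CharTwo.neg_eq]
      · intro v
        unfold QuadraticMap.polar
        have h5 := hQ.smul 2 v
        rw [two_smul, h2F] at h5
        rw [h5]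
        linear_combination (- Q v) * h2F
      · intro s hs u v
        unfold QuadraticMap.polar
        rw [← Matrix.mulVec_add, hfix s hs, hfix s hs, hfix s hs]
    · exact h
  rcases D.good with ⟨i, h1, h2, h3⟩ | ⟨hp2, i, h1, h2, h3⟩ | ⟨hp2, i, h1, h2, h3⟩ | ⟨hp2, i, h1, h2, h3⟩ |
    ⟨hp5, i, h1, h2, h3⟩
  · left
    refine ⟨h3, ?_, ?_⟩
    · by_cases hp2 : p = 2
      · exact hchar2 hp2
      · exact (hQ hp2 (by rw [h1]; exact (hpodd hp2).pow)).1
    · intro hp2
      exact (hQ hp2 (by rw [h1]; exact (hpodd hp2).pow)).2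
  · left
    exact ⟨h3, hchar2 hp2, fun h => absurd hp2 h⟩
  · right; left
    have h4 := hA hp2 (by rw [h1]; exact Even.zero)
    exact ⟨hp2, h3, h4⟩
  · right; right; left
    have h4 := hA hp2 (by rw [h1]; exact even_two_mul _)
    exact ⟨hp2, h3, h4⟩
  · right; right; right
    have hp2 : p ≠ 2 := by rw [hp5]; norm_num
    have h4 := hQ hp2 (by rw [h1]; exact (by decide : Odd 5).pow)
    exact ⟨hp5, h3, h4⟩

end Forms

end Cfsg.Agent.H905.Sp4
end

private theorem dce_1e675c506236 : _root_.True := by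
  try have : _root_.True := by simp only [_root_.Cfsg.Agent.H909.Sp4Ker.zD1.eq_1]
  try have : _root_.True := by simp only [_root_.Cfsg.Agent.H905.Sp4.D1.eq_1]
  try have : _root_.True := by simp only [_root_.Cfsg.Agent.H905.Sp4.IsoPair.mk.congr_simp]
  try have : _root_.True := by simp only [_root_.Cfsg.Agent.H905.Sp4.pr.eq_1]
  try have : _root_.True := by simp only [_root_.Cfsg.Agent.H909.Sp4Ker.nu.eq_2]
  try have : _root_.True := by simp only [_root_.Cfsg.Agent.H905.Sp4.colV.eq_1]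
  try have : _root_.True := by simp only [_root_.Cfsg.Agent.H909.Sp4Ker.pt.eq_1]
  try have : _root_.True := by simp only [_root_.Cfsg.Agent.H905.Sp4.pl.eq_1]
  try have : _root_.True := by simp only [_root_.Cfsg.Agent.H909.Sp4Ker.ent.eq_1]
  try have : _root_.True := by simp only [_root_.Cfsg.Agent.H905.Sp4.du.eq_1]
  try have : _root_.True := by simp only [_root_.Cfsg.Agent.H909.Sp4Ker.zD2.eq_1]
  try have : _root_.True := by simp only [_root_.Cfsg.Agent.H905.Sp4.du.eq_2]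
  try have : _root_.True := by simp only [_root_.Cfsg.Agent.H905.Sp4.rowV.eq_1]
  try have : _root_.True := by simp only [_root_.Cfsg.Agent.H909.Sp4Ker.rA'.eq_1]
  try have : _root_.True := by simp only [_root_.Cfsg.Agent.H905.Sp4.mr.eq_1]
  try have : _root_.True := by simp only [_root_.Cfsg.Agent.H905.Sp4.mc.eq_1]
  try have : _root_.True := by simp only [_root_.Cfsg.Agent.H905.Sp4.pr.eq_3]
  try have : _root_.True := by simp only [_root_.Cfsg.Agent.H905.Sp4.ip.eq_1]
  try have : _root_.True := by simp only [_root_.Cfsg.Agent.H905.Sp4.pl.eq_4]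
  try have : _root_.True := by simp only [_root_.Cfsg.Agent.H909.Sp4Ker.nu.eq_1]
  try have : _root_.True := by simp only [_root_.Cfsg.Agent.H909.Sp4Ker.rB.eq_1]
  try have : _root_.True := by simp only [_root_.Cfsg.Agent.H905.Sp4.pr.eq_2]
  try have : _root_.True := by simp only [_root_.Cfsg.Agent.H905.Sp4.D2.eq_1]
  try have : _root_.True := by simp only [_root_.Cfsg.Agent.H905.Sp4.pl.eq_2]
  try have : _root_.True := by simp only [_root_.Cfsg.Agent.H909.Sp4Ker.rA.eq_1]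
  try have : _root_.True := by simp only [_root_.Cfsg.Agent.H905.Sp4.om.eq_1]
  try have : _root_.True := by simp only [_root_.Cfsg.Agent.H905.Sp4.pr.eq_4]
  try have : _root_.True := by simp only [_root_.Cfsg.Agent.H905.Sp4.pl.eq_3]
  exact _root_.True.intro
end
end
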